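import Cfsg.Agent.H477.HC.RowSp
import Cfsg.Agent.S0286
import Cfsg.Agent.S0287
import Cfsg.Agent.S0288
import Cfsg.Agent.S0292
import Cfsg.Agent.S0293
import Cfsg.Agent.S0294
import Cfsg.Agent.ClassicalGeometry.OmegaIndex
import Cfsg.Agent.LieClassical.OrthCenter
import Cfsg.Agent.LieClassical.OrthForms
import Cfsg.Agent.LieClassical.OmegaReindex
import Cfsg.Agent.H671.H5Facts
import Cfsg.Agent.H670.PSing
import Cfsg.Agent.H477.HC.Levi
import Cfsg.Agent.LieClassical.OrthFinite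
import Cfsg.Agent.S0289
import Cfsg.Agent.S0290
import Cfsg.Agent.S0291
import Cfsg.Agent.FastGrp
import Cfsg.Agent.Prune
set_option linter.all false

section
prune_inst 0x7ffdedf8bbac73ffffff7e3fa6fdeffc39c38fffe6dff943ffe0ebbf8b9f13862bc5fbaf0de010fe0ef7e21410b87853fb7eeeffe36bdc7ffffd5ff45ffbee5ff5f7bd0811d798340f3c2fff83f0778e7f3fffffffffffffffffffffffffffbeffbfffffffff

-- part: H477/HC/RowO
section
prune_inst 0x210074053840000000040580010000210500009000408000c104024402018040800000000e001010000000001000000000000000400000000a000000000000208002020000600104040007800080000000000000000000000000000000000000000000000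
set_option linter.all false
open scoped Cfsg.Agent.FastGrp

/-!
# Characters of the orthogonal groups (hub H5, helper477)
-/

set_option autoImplicit false

open scoped ComplexConjugate
open Cfsg

namespace Cfsg.Agent.H477.HC

open Cfsg.Agent.Characters Module Cfsg.Agent.H53.HC Cfsg.Agent.H33

universe u v w

/-- the matrix of an element of `Ω` -/
def omMat {ι : Type} [Fintype ι] [DecidableEq ι] {K : Type u} [Field K] {Q : (ι → K) → K} (z : Omega K Q) :
    Matrix ι ι K := (((z : isometryGroup K Q) : GL ι K) : Matrix ι ι K)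

theorem om_char {ι : Type} [Fintype ι] [DecidableEq ι] {K : Type u} [Field K] [Finite K] (F : CForm K (ι → K))
    (hB : ∀ u v, F.B u v = F.Q (u + v) - F.Q u - F.Q v) {k : ℕ} {W₀ : Submodule K (ι → K)} (hW₀ : W₀ ∈ F.Om k)
    {Z : Kˣ → Prop} {c : GL (Fin k) K → ℂ} (hc : Cus K k F.σ Z c) :
    ∃ χ : isometryGroup K F.Q → ℂ, IsIrrCharacter _ χ ∧ χ 1 = (dg F k : ℂ) ∧
      ∀ (z : Omega K F.Q) (a : Kˣ), Z a → (∀ v, (omMat z).mulVec v = (a : K) • v) → χ z = χ 1 := by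
  obtain ⟨χ, hχ, hχ1, hχz⟩ := exists_char F hW₀ hc
  refine ⟨χ ∘ (isoQuad F hB).toMonoidHom, Core.isIrr_comp _ (isoQuad F hB).surjective hχ, ?_, fun z a ha hz => ?_⟩
  · rw [Function.comp_apply, map_one, hχ1]
  · rw [Function.comp_apply, Function.comp_apply, map_one]
    exact hχz _ a ha hz

theorem im_omega {ι : Type} [Fintype ι] [DecidableEq ι] {K : Type u} [Field K] [Finite K] (F : CForm K (ι → K))
    (hB : ∀ u v, F.B u v = F.Q (u + v) - F.Q u - F.Q v) {k : ℕ} {W₀ : Submodule K (ι → K)} (hW₀ : W₀ ∈ F.Om k)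
    {Z : Kˣ → Prop} {c : GL (Fin k) K → ℂ} (hc : Cus K k F.σ Z c)
    (hcen : ∀ z : Omega K F.Q, z ∈ Subgroup.center (Omega K F.Q) → ∃ a : Kˣ, Z a ∧ ∀ v, (omMat z).mulVec v = (a : K) • v)
    (hidx : (Omega K F.Q).index ∣ 8) {r : ℕ} (hr : r.Prime)
    (hd : (r ≠ 2 ∧ r ∣ dg F k) ∨ (r = 2 ∧ 16 ∣ dg F k)) : IM r (POmega K F.Q) := by
  have : Fact r.Prime := ⟨hr⟩
  obtain ⟨χ, hχ, hχ1, hχz⟩ := om_char F hB hW₀ hc
  have hz : ∀ z : Omega K F.Q, z ∈ Subgroup.center (Omega K F.Q) → χ z = χ 1 := by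
    intro z hz
    obtain ⟨a, ha, h⟩ := hcen z hz
    exact hχz z a ha h
  rcases hd with ⟨h2, hd⟩ | ⟨h2, hd⟩
  · refine im_down (Omega K F.Q) hχ hχ1 hz (a := 1) (by rwa [pow_one]) fun h => ?_
    rw [pow_one] at h
    have h3 : r ∣ 2 ^ 3 := h.trans hidx
    exact h2 ((Nat.prime_dvd_prime_iff_eq hr Nat.prime_two).1 (hr.dvd_of_dvd_pow h3))
  · subst h2
    refine im_down (Omega K F.Q) hχ hχ1 hz (a := 4) hd fun h => ?_
    have h3 := Nat.le_of_dvd (by norm_num) (h.trans hidx)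
    norm_num at h3

/-! ### centres -/

section centre

theorem cen_plus (K : Type u) [Field K] [Finite K] {m : ℕ} (hm : 2 ≤ m) (z : Omega K (quadFormPlus m K))
    (hz : z ∈ Subgroup.center (Omega K (quadFormPlus m K))) : omMat z = 1 ∨ omMat z = -1 := by
  revert z
  rw [← LieClassical.OrthForms.coe_plusForm m K]
  intro z hz
  refine (LieClassical.OrthCenter.mem_center_omega_iff
    (LieClassical.OmegaReindex.nondegenerate_of_left _
      (fun x hx => LieClassical.OrthForms.nondeg_plusForm m K x hx)) ?_ ?_ z).1 hz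
  · simp only [Fintype.card_sum, Fintype.card_fin]; omega
  · refine ⟨Pi.single (Sum.inl ⟨0, by omega⟩) 1, ?_, ?_⟩
    · intro h
      have := congrFun h (Sum.inl ⟨0, by omega⟩)
      simp at this
    · rw [LieClassical.OrthForms.coe_plusForm, LieClassical.OrthForms.quadFormPlus_apply]
      simp

theorem cen_odd (K : Type u) [Field K] [Finite K] (h2 : (2 : K) ≠ 0) {m : ℕ} (hm : 1 ≤ m)
    (z : Omega K (quadFormOdd m K))
    (hz : z ∈ Subgroup.center (Omega K (quadFormOdd m K))) : omMat z = 1 ∨ omMat z = -1 := by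
  revert z
  rw [← LieClassical.OrthForms.coe_oddForm m K]
  intro z hz
  refine (LieClassical.OrthCenter.mem_center_omega_iff
    (LieClassical.OmegaReindex.nondegenerate_of_left _
      (fun x hx => LieClassical.OrthForms.nondeg_oddForm m K h2 x hx)) ?_ ?_ z).1 hz
  · simp only [Fintype.card_sum, Fintype.card_fin, Fintype.card_unit]; omega
  · refine ⟨Pi.single (Sum.inr (Sum.inl ⟨0, by omega⟩)) 1, ?_, ?_⟩
    · intro h
      have := congrFun h (Sum.inr (Sum.inl ⟨0, by omega⟩))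
      simp at this
    · rw [LieClassical.OrthForms.coe_oddForm, LieClassical.OrthForms.quadFormOdd_apply]
      simp

theorem cen_minus (K : Type u) [Field K] [Finite K] {m : ℕ} (hm : 1 ≤ m) (a b : K)
    (hab : ∀ z₁ z₂ : K, z₁ ^ 2 + a * z₁ * z₂ + b * z₂ ^ 2 = 0 → z₁ = 0 ∧ z₂ = 0)
    (z : Omega K (quadFormMinus m K a b))
    (hz : z ∈ Subgroup.center (Omega K (quadFormMinus m K a b))) : omMat z = 1 ∨ omMat z = -1 := by
  revert z
  rw [← LieClassical.OrthForms.coe_minusForm m K]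
  intro z hz
  refine (LieClassical.OrthCenter.mem_center_omega_iff
    (LieClassical.OmegaReindex.nondegenerate_of_left _
      (fun x hx => LieClassical.OrthForms.nondeg_minusForm m K a b hab x hx)) ?_ ?_ z).1 hz
  · simp only [Fintype.card_sum, Fintype.card_fin]; omega
  · refine ⟨Pi.single (Sum.inl (Sum.inl ⟨0, by omega⟩)) 1, ?_, ?_⟩
    · intro h
      have := congrFun h (Sum.inl (Sum.inl ⟨0, by omega⟩))
      simp at this
    · rw [LieClassical.OrthForms.coe_minusForm, LieClassical.OrthForms.quadFormMinus_apply]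
      simp

end centre

section idx

/-- index and centre from the orders -/
theorem idx_eq {ι : Type} [Fintype ι] [DecidableEq ι] {K : Type u} [Field K] [Finite K] (Q : (ι → K) → K) {X g : ℕ}
    (h1 : Nat.card (isometryGroup K Q) = 2 * X) (h2 : g * Nat.card (POmega K Q) = X) :
    (Omega K Q).index * Nat.card (Subgroup.center (Omega K Q)) = 2 * g := by
  have h3 : Nat.card (Omega K Q) * (Omega K Q).index = Nat.card (isometryGroup K Q) := Subgroup.card_mul_index _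
  have h4 : Nat.card (Omega K Q) = Nat.card (POmega K Q) * Nat.card (Subgroup.center (Omega K Q)) :=
    Subgroup.card_eq_card_quotient_mul_card_subgroup _
  have h5 : 0 < Nat.card (POmega K Q) := Nat.card_pos
  rw [h1, h4, ← h2] at h3
  have h6 : Nat.card (POmega K Q) * ((Omega K Q).index * Nat.card (Subgroup.center (Omega K Q))) =
      Nat.card (POmega K Q) * (2 * g) := by
    rw [← mul_assoc, mul_comm (Nat.card (POmega K Q) * _), ← mul_assoc] at *
    linarith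
  exact Nat.eq_of_mul_eq_mul_left h5 h6

theorem prod_pos' (q m : ℕ) (hq : 2 ≤ q) : 0 < ∏ i ∈ Finset.range m, (q ^ (2 * (i + 1)) - 1) := by
  apply Finset.prod_pos
  intro i _
  have : 1 < q ^ (2 * (i + 1)) := Nat.one_lt_pow (by omega) (by omega)
  omega

end idx

/-! ### orders and divisibility -/

section orders

variable (K : Type u) [Field K] [Finite K]

theorem sq_sub (q n : ℕ) : q ^ (2 * n) - 1 = (q ^ n + 1) * (q ^ n - 1) := by
  rw [← Nat.sq_sub_sq, one_pow, ← pow_mul, mul_comm]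

omit [Finite K] in
theorem plus_hB (m : ℕ) (u v : Fin m ⊕ Fin m → K) : (CForm.plusF K m).B u v =
    (CForm.plusF K m).Q (u + v) - (CForm.plusF K m).Q u - (CForm.plusF K m).Q v := by
  have := CForm.quadFormPlus_add (K := K) u v
  change CForm.hypB K m u v = quadFormPlus m K (u + v) - quadFormPlus m K u - quadFormPlus m K v
  rw [this]; ring

omit [Finite K] in
theorem odd_hB (m : ℕ) (h2 : (2 : K) ≠ 0) (u v : Unit ⊕ (Fin m ⊕ Fin m) → K) : (CForm.oddF K m h2).B u v =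
    (CForm.oddF K m h2).Q (u + v) - (CForm.oddF K m h2).Q u - (CForm.oddF K m h2).Q v := by
  have := (CForm.oddF K m h2).Q_add u v
  rw [this, CForm.oddF_T]; simp; ring

theorem minus_hB (m : ℕ) (a b : K) (hab : ∀ z₁ z₂ : K, z₁ ^ 2 + a * z₁ * z₂ + b * z₂ ^ 2 = 0 → z₁ = 0 ∧ z₂ = 0)
    (u v : (Fin m ⊕ Fin m) ⊕ Fin 2 → K) : (CForm.minusF K m a b hab).B u v =
    (CForm.minusF K m a b hab).Q (u + v) - (CForm.minusF K m a b hab).Q u - (CForm.minusF K m a b hab).Q v := by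
  have := (CForm.minusF K m a b hab).Q_add u v
  rw [this, CForm.minusF_T]; simp; ring

theorem card_plusF {m : ℕ} (hm : 1 ≤ m) : Nat.card (CForm.plusF K m).iso =
    2 * Nat.card K ^ (m * (m - 1)) * (Nat.card K ^ m - 1) *
      ∏ i ∈ Finset.range (m - 1), (Nat.card K ^ (2 * (i + 1)) - 1) := by
  let _ := Fintype.ofFinite K
  rw [← Nat.card_congr (isoQuad (CForm.plusF K m) (plus_hB K m)).toEquiv, Nat.card_eq_fintype_card (α := K)]
  exact Cfsg.Agent.S0287.result rfl m hm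

theorem card_oddF (h2 : (2 : K) ≠ 0) (ho : Odd (Nat.card K)) (m : ℕ) : Nat.card (CForm.oddF K m h2).iso =
    2 * Nat.card K ^ (m ^ 2) * ∏ i ∈ Finset.range m, (Nat.card K ^ (2 * (i + 1)) - 1) := by
  let _ := Fintype.ofFinite K
  rw [← Nat.card_congr (isoQuad (CForm.oddF K m h2) (odd_hB K m h2)).toEquiv]
  rw [Nat.card_eq_fintype_card (α := K)] at ho ⊢
  exact Cfsg.Agent.S0286.result rfl ho m

theorem card_minusF (m : ℕ) (a b : K)
    (hab : ∀ z₁ z₂ : K, z₁ ^ 2 + a * z₁ * z₂ + b * z₂ ^ 2 = 0 → z₁ = 0 ∧ z₂ = 0) :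
    Nat.card (CForm.minusF K m a b hab).iso =
    2 * Nat.card K ^ ((m + 1) * m) * (Nat.card K ^ (m + 1) + 1) *
      ∏ i ∈ Finset.range m, (Nat.card K ^ (2 * (i + 1)) - 1) := by
  let _ := Fintype.ofFinite K
  rw [← Nat.card_congr (isoQuad (CForm.minusF K m a b hab) (minus_hB K m a b hab)).toEquiv,
    Nat.card_eq_fintype_card (α := K)]
  exact Cfsg.Agent.S0288.result rfl (m + 1) (by omega) a b hab

theorem odd_dvd (h2 : (2 : K) ≠ 0) (ho : Odd (Nat.card K)) {p : ℕ} [Fact p.Prime] [CharP K p] {k n : ℕ} (hk : 0 < k) :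
    ∃ e, ∏ i ∈ Finset.Ico n (k + n), (Nat.card K ^ (2 * (i + 1)) - 1) ∣
      p ^ e * (dg (CForm.oddF K (k + n) h2) k * (Nat.card K ^ k - 1)) := by
  obtain ⟨-, h⟩ := CForm.oddF_frame (K := K) (p := p) h2 k n
  have := finite_iso (CForm.oddF K n h2)
  refine key_dvd hk h (y := n ^ 2) ?_
  rw [card_oddF K h2 ho, card_oddF K h2 ho, ← Finset.prod_range_mul_prod_Ico _ (Nat.le_add_left n k)]
  refine ⟨Nat.card K ^ ((k + n) ^ 2), ?_⟩
  ring

theorem odd_dvd_top (h2 : (2 : K) ≠ 0) (ho : Odd (Nat.card K)) {p : ℕ} [Fact p.Prime] [CharP K p] {m : ℕ}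
    (hm : 0 < m) :
    ∃ e, (Nat.card K ^ m + 1) * ∏ i ∈ Finset.range (m - 1), (Nat.card K ^ (2 * (i + 1)) - 1) ∣
      p ^ e * dg (CForm.oddF K (m + 0) h2) m := by
  refine key_div hm ?_
  obtain ⟨e, he⟩ := odd_dvd K h2 ho (p := p) (k := m) (n := 0) hm
  refine ⟨e, ?_⟩
  refine (dvd_of_eq ?_).trans he
  obtain ⟨j, rfl⟩ : ∃ j, m = j + 1 := ⟨m - 1, by omega⟩
  rw [Nat.add_zero, Nat.Ico_zero_eq_range, Finset.prod_range_succ, Nat.add_sub_cancel, sq_sub]
  ring

theorem plus_dvd {p : ℕ} [Fact p.Prime] [CharP K p] {k n : ℕ} (hk : 0 < k) (hn : 1 ≤ n) :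
    ∃ e, (Nat.card K ^ (k + n) - 1) * (Nat.card K ^ n + 1) *
        ∏ i ∈ Finset.Ico n (k + n - 1), (Nat.card K ^ (2 * (i + 1)) - 1) ∣
      p ^ e * (dg (CForm.plusF K (k + n)) k * (Nat.card K ^ k - 1)) := by
  obtain ⟨-, h⟩ := CForm.plusF_frame (K := K) (p := p) k n
  have := finite_iso (CForm.plusF K n)
  refine key_dvd hk h (y := n * (n - 1)) ?_
  have h1 : ∏ i ∈ Finset.range (k + n - 1), (Nat.card K ^ (2 * (i + 1)) - 1) =
      (∏ i ∈ Finset.range (n - 1), (Nat.card K ^ (2 * (i + 1)) - 1)) * ((Nat.card K ^ n + 1) * (Nat.card K ^ n - 1)) *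
        ∏ i ∈ Finset.Ico n (k + n - 1), (Nat.card K ^ (2 * (i + 1)) - 1) := by
    rw [← Finset.prod_range_mul_prod_Ico _ (show n ≤ k + n - 1 by omega)]
    congr 1
    obtain ⟨j, rfl⟩ : ∃ j, n = j + 1 := ⟨n - 1, by omega⟩
    rw [Finset.prod_range_succ, Nat.add_sub_cancel, sq_sub]
  rw [card_plusF K hn, card_plusF K (show 1 ≤ k + n by omega), h1]
  refine ⟨Nat.card K ^ ((k + n) * (k + n - 1)), ?_⟩
  ring

theorem plus_dvd_top {p : ℕ} [Fact p.Prime] [CharP K p] {m : ℕ} (hm : 1 ≤ m) :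
    ∃ e, ∏ i ∈ Finset.range (m - 1), (Nat.card K ^ (2 * (i + 1)) - 1) ∣ p ^ e * dg (CForm.plusF K (m + 0)) m := by
  refine key_div hm ?_
  obtain ⟨-, h⟩ := CForm.plusF_frame (K := K) (p := p) m 0
  have := finite_iso (CForm.plusF K 0)
  refine key_dvd hm h (y := 0) ?_
  have h1 : Nat.card (CForm.plusF K 0).iso = 1 := by
    rw [Nat.card_eq_one_iff_unique]
    refine ⟨⟨fun a b => ?_⟩, ⟨1⟩⟩
    apply Subtype.ext
    apply LinearEquiv.ext
    intro v
    exact Subsingleton.elim _ _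
  rw [h1, mul_one, card_plusF K (show 1 ≤ m + 0 by omega), Nat.add_zero]
  refine ⟨2 * Nat.card K ^ (m * (m - 1)), ?_⟩
  ring

theorem minus_dvd {p : ℕ} [Fact p.Prime] [CharP K p] (a b : K)
    (hab : ∀ z₁ z₂ : K, z₁ ^ 2 + a * z₁ * z₂ + b * z₂ ^ 2 = 0 → z₁ = 0 ∧ z₂ = 0) {k n : ℕ} (hk : 0 < k) :
    ∃ e, (Nat.card K ^ (k + n + 1) + 1) * (Nat.card K ^ (n + 1) - 1) *
        ∏ i ∈ Finset.Ico (n + 1) (k + n), (Nat.card K ^ (2 * (i + 1)) - 1) ∣
      p ^ e * (dg (CForm.minusF K (k + n) a b hab) k * (Nat.card K ^ k - 1)) := by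
  obtain ⟨-, h⟩ := CForm.minusF_frame (K := K) (p := p) hab k n
  have := finite_iso (CForm.minusF K n a b hab)
  refine key_dvd hk h (y := (n + 1) * n) ?_
  have h1 : ∏ i ∈ Finset.range (k + n), (Nat.card K ^ (2 * (i + 1)) - 1) =
      (∏ i ∈ Finset.range n, (Nat.card K ^ (2 * (i + 1)) - 1)) *
        ((Nat.card K ^ (n + 1) + 1) * (Nat.card K ^ (n + 1) - 1)) *
        ∏ i ∈ Finset.Ico (n + 1) (k + n), (Nat.card K ^ (2 * (i + 1)) - 1) := by
    rw [← Finset.prod_range_mul_prod_Ico _ (show n + 1 ≤ k + n by omega), Finset.prod_range_succ, sq_sub]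
  rw [card_minusF, card_minusF, h1]
  refine ⟨Nat.card K ^ ((k + n + 1) * (k + n)), ?_⟩
  ring

end orders

/-! ### rows -/

section rows

theorem scal_of {ι : Type} [Fintype ι] [DecidableEq ι] {K : Type u} [Field K] {Q : (ι → K) → K} {z : Omega K Q}
    (h : omMat z = 1 ∨ omMat z = -1) : ∃ a : Kˣ, a ^ 2 = 1 ∧ ∀ v, (omMat z).mulVec v = (a : K) • v := by
  rcases h with h | h
  · exact ⟨1, one_pow 2, fun v => by rw [h, Matrix.one_mulVec, Units.val_one, one_smul]⟩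
  · exact ⟨-1, neg_one_sq, fun v => by
      rw [h, Matrix.neg_mulVec, Matrix.one_mulVec, Units.val_neg, Units.val_one, neg_one_smul]⟩

/-- `16` divides the degree as soon as `(q²-1)(q⁴-1)` does, `q` odd -/
theorem sixteen_dvd {q p e d : ℕ} (hq : Odd q) (hp : p.Prime) (h2 : 2 ≠ p)
    (h : (q ^ (2 * (0 + 1)) - 1) * (q ^ (2 * (1 + 1)) - 1) ∣ p ^ e * d) : 16 ∣ d := by
  have h8 : 8 ∣ q ^ (2 * (0 + 1)) - 1 := Nat.eight_dvd_sq_sub_one_of_odd hq
  have h8' : 8 ∣ q ^ (2 * (1 + 1)) - 1 := by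
    have := Nat.eight_dvd_sq_sub_one_of_odd (hq.pow (n := 2))
    rwa [← pow_mul] at this
  have h1 : 2 ^ 4 ∣ p ^ e * d := by
    refine Dvd.dvd.trans ?_ h
    refine Dvd.dvd.trans ?_ (Nat.mul_dvd_mul h8 h8')
    norm_num
  exact prime_pow_dvd Nat.prime_two hp h2 h1

theorem pow_sub_dvd (q i : ℕ) : q ^ i - 1 ∣ q ^ (2 * i) - 1 := ⟨q ^ i + 1, by rw [sq_sub]; ring⟩

theorem odd_of_two_ne {K : Type u} [Field K] [Finite K] {p : ℕ} [Fact p.Prime] [CharP K p] (h : p ≠ 2) :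
    Odd (Nat.card K) := by
  obtain ⟨s, hs⟩ := card_pow K p
  rw [hs]
  exact ((Fact.out : p.Prime).odd_of_ne_two h).pow

theorem char_ne_two_of_odd {K : Type u} [Field K] [Finite K] {p : ℕ} [Fact p.Prime] [CharP K p]
    (h : Odd (Nat.card K)) : p ≠ 2 := by
  rintro rfl
  obtain ⟨s, hs⟩ := card_pow K 2
  have h1 : 1 < Nat.card K := Finite.one_lt_card
  rw [hs] at h h1
  have h2 : s ≠ 0 := by rintro rfl; simp at h1
  rw [Nat.odd_pow_iff h2] at h
  exact absurd h (by decide)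

theorem two_ne_zero_of_odd {K : Type u} [Field K] [Finite K] {p : ℕ} [Fact p.Prime] [CharP K p]
    (h : Odd (Nat.card K)) : (2 : K) ≠ 0 := by
  have h2 := char_ne_two_of_odd (K := K) (p := p) h
  intro h3
  have h4 : ((2 : ℕ) : K) = 0 := by exact_mod_cast h3
  rw [CharP.cast_eq_zero_iff K p] at h4
  exact h2 ((Nat.prime_dvd_prime_iff_eq Fact.out Nat.prime_two).1 h4)

/-- the index and the centre of `Ω_{2m+1}(q)` -/
theorem odd_idx (K : Type u) [Field K] [Finite K] {p : ℕ} [Fact p.Prime] [CharP K p] (ho : Odd (Nat.card K)) {m : ℕ}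
    (hm : 3 ≤ m) : (Omega K (quadFormOdd m K)).index = 4 ∧
      ∀ z : Omega K (quadFormOdd m K), z ∈ Subgroup.center (Omega K (quadFormOdd m K)) → z = 1 := by
  have h2 := two_ne_zero_of_odd (K := K) (p := p) ho
  have h1 : (Omega K (quadFormOdd m K)).index = 4 := by
    rw [← LieClassical.OrthForms.coe_oddForm m K]
    refine Cfsg.Agent.ClassicalGeometry.OmegaIndex.index_Omega h2 ?_ _
      (LieClassical.OmegaReindex.nondegenerate_of_left _
        (fun x hx => LieClassical.OrthForms.nondeg_oddForm m K h2 x hx))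
    simp only [Fintype.card_sum, Fintype.card_fin, Fintype.card_unit]; omega
  refine ⟨h1, ?_⟩
  let _ := Fintype.ofFinite K
  have h3 := idx_eq (quadFormOdd m K) (g := 2)
    (X := Nat.card K ^ (m ^ 2) * ∏ i ∈ Finset.range m, (Nat.card K ^ (2 * (i + 1)) - 1)) (by
      rw [Nat.card_eq_fintype_card (α := K)] at ho ⊢
      rw [Cfsg.Agent.S0286.result rfl ho m]
      ring) (by
      rw [Nat.card_eq_fintype_card (α := K)] at ho ⊢
      exact Cfsg.Agent.S0292.result rfl ho m hm)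
  rw [h1] at h3
  have h4 : Nat.card (Subgroup.center (Omega K (quadFormOdd m K))) = 1 := by omega
  intro z hz
  have h5 := Subgroup.eq_bot_of_card_eq _ h4
  rw [h5] at hz
  exact Subgroup.mem_bot.1 hz

/-- **`Ω_{2m+1}(q)`** -/
theorem im_odd_main (K : Type u) [Field K] [Finite K] {p : ℕ} [Fact p.Prime] [CharP K p] (ho : Odd (Nat.card K)) {m : ℕ}
    (hm : 3 ≤ m) {r : ℕ} (hr : r.Prime) (hrp : r ≠ p) (hd : r ∣ Nat.card (POmega K (quadFormOdd m K))) :
    IM r (POmega K (quadFormOdd m K)) := by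
  classical
  have hp : p.Prime := Fact.out
  have h2 := two_ne_zero_of_odd (K := K) (p := p) ho
  obtain ⟨s, hs⟩ := card_pow K p
  have hq2 : 2 ≤ Nat.card K := Finite.one_lt_card
  have hq3 : 3 ≤ Nat.card K := by rcases ho with ⟨j, hj⟩; omega
  have hrq : ¬ r ∣ Nat.card K := by
    rw [hs]; intro h; exact hrp ((Nat.prime_dvd_prime_iff_eq hr hp).1 (hr.dvd_of_dvd_pow h))
  obtain ⟨hidx, hcen⟩ := odd_idx K (p := p) ho hm
  have hd1 : r ∣ Nat.card (isometryGroup K (quadFormOdd m K)) :=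
    hd.trans ((Subgroup.card_quotient_dvd_card _).trans (Subgroup.card_subgroup_dvd_card _))
  have hd2 : r ∣ Nat.card (CForm.oddF K m h2).iso := by
    rwa [← Nat.card_congr (isoQuad (CForm.oddF K m h2) (odd_hB K m h2)).toEquiv]
  rw [card_oddF K h2 ho] at hd2
  -- the general conclusion
  have key : ∀ (k n : ℕ), k + n = m → 2 ≤ k → (r ≠ 2 ∧ r ∣ dg (CForm.oddF K (k + n) h2) k) ∨
      (r = 2 ∧ 16 ∣ dg (CForm.oddF K (k + n) h2) k) → IM r (POmega K (quadFormOdd m K)) := by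
    rintro k n rfl hk hdeg
    obtain ⟨c, hc⟩ := exists_cus_one (K := K) rfl k (by omega) (by
      have : Nat.card K ^ 2 ≤ Nat.card K ^ k := Nat.pow_le_pow_right (by omega) hk
      nlinarith) (by rintro ⟨h3, -⟩; omega)
    obtain ⟨⟨W₀, hW₀⟩, -⟩ := CForm.oddF_frame (K := K) (p := p) h2 k n
    exact im_omega (CForm.oddF K (k + n) h2) (odd_hB K (k + n) h2) hW₀ hc (fun z hz => ⟨1, one_pow 1, fun v => by
      rw [hcen z hz]
      change (1 : Matrix _ _ K).mulVec v = _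
      rw [Matrix.one_mulVec, Units.val_one, one_smul]⟩) (by
        change (Omega K (quadFormOdd (k + n) K)).index ∣ 8
        rw [hidx]; norm_num) hr hdeg
  have hpi : ∀ (t : Finset ℕ), r ∣ ∏ i ∈ t, (Nat.card K ^ (2 * (i + 1)) - 1) →
      ∃ i ∈ t, r ∣ Nat.card K ^ (2 * (i + 1)) - 1 := fun t h => (Prime.dvd_finsetProd_iff hr.prime _).1 h
  by_cases h2r : r = 2
  · -- `r = 2`
    refine key m 0 (Nat.add_zero m) (by omega) (Or.inr ⟨h2r, ?_⟩)
    obtain ⟨e, he⟩ := odd_dvd_top K h2 ho (p := p) (m := m) (by omega)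
    refine sixteen_dvd ho hp (by rw [← h2r]; exact hrp) (Dvd.dvd.trans ?_ he)
    refine Dvd.dvd.mul_left ?_ _
    rw [← Finset.prod_range_mul_prod_Ico _ (show 2 ≤ m - 1 by omega), Finset.prod_range_succ, Finset.prod_range_one]
    exact Dvd.intro _ rfl
  by_cases hA : r ∣ (Nat.card K ^ m + 1) * ∏ i ∈ Finset.range (m - 1), (Nat.card K ^ (2 * (i + 1)) - 1)
  · refine key m 0 (Nat.add_zero m) (by omega) (Or.inl ⟨h2r, ?_⟩)
    obtain ⟨e, he⟩ := odd_dvd_top K h2 ho (p := p) (m := m) (by omega)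
    have := prime_pow_dvd (t := 1) hr hp hrp (by rw [pow_one]; exact hA.trans he)
    rwa [pow_one] at this
  · have hA1 : ¬ r ∣ Nat.card K ^ m + 1 := fun h => hA (Dvd.dvd.mul_right h _)
    have hA2 : ∀ i, i < m - 1 → ¬ r ∣ Nat.card K ^ (2 * (i + 1)) - 1 := fun i hi h =>
      hA (Dvd.dvd.mul_left (h.trans (Finset.dvd_prod_of_mem (fun i => Nat.card K ^ (2 * (i + 1)) - 1)
        (Finset.mem_range.2 hi))) _)
    have hB : r ∣ Nat.card K ^ (2 * m) - 1 := by
      have h3 : r ∣ ∏ i ∈ Finset.range m, (Nat.card K ^ (2 * (i + 1)) - 1) := by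
        rcases hr.dvd_mul.1 hd2 with h | h
        · rcases hr.dvd_mul.1 h with h' | h'
          · exact absurd ((Nat.prime_dvd_prime_iff_eq hr Nat.prime_two).1 h') h2r
          · exact absurd (hr.dvd_of_dvd_pow h') hrq
        · exact h
      obtain ⟨i, hi, hi'⟩ := hpi _ h3
      rw [Finset.mem_range] at hi
      rcases Nat.lt_or_ge i (m - 1) with h | h
      · exact absurd hi' (hA2 i h)
      · have : i + 1 = m := by omega
        rwa [this] at hi'
    have hm1 : m - 1 + 1 = m := by omega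
    refine key (m - 1) 1 hm1 (by omega) (Or.inl ⟨h2r, ?_⟩)
    obtain ⟨e, he⟩ := odd_dvd K h2 ho (p := p) (k := m - 1) (n := 1) (by omega)
    have h6 : r ∣ p ^ e * (dg (CForm.oddF K (m - 1 + 1) h2) (m - 1) * (Nat.card K ^ (m - 1) - 1)) := by
      refine Dvd.dvd.trans ?_ he
      refine Dvd.dvd.trans ?_ (Finset.dvd_prod_of_mem _ (Finset.mem_Ico.2 ⟨(by omega : 1 ≤ m - 1), by omega⟩))
      rw [hm1]
      exact hB
    have h7 : r ∣ dg (CForm.oddF K (m - 1 + 1) h2) (m - 1) * (Nat.card K ^ (m - 1) - 1) := by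
      have := prime_pow_dvd (t := 1) hr hp hrp (by rw [pow_one]; exact h6)
      rwa [pow_one] at this
    refine (hr.dvd_mul.1 h7).resolve_right fun h => ?_
    apply hA2 (m - 2) (by omega)
    have h9 : m - 2 + 1 = m - 1 := by omega
    rw [h9]
    exact h.trans (pow_sub_dvd _ _)

/-- the index of `Ω⁺` -/
theorem plus_idx (K : Type u) [Field K] [Finite K] {m : ℕ} (hm : 4 ≤ m) :
    (Omega K (quadFormPlus m K)).index ∣ 8 := by
  let _ := Fintype.ofFinite K
  have h3 := idx_eq (quadFormPlus m K) (g := Nat.gcd 4 (Nat.card K ^ m - 1))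
    (X := Nat.card K ^ (m * (m - 1)) * (Nat.card K ^ m - 1) *
      ∏ i ∈ Finset.range (m - 1), (Nat.card K ^ (2 * (i + 1)) - 1)) (by
      rw [Nat.card_eq_fintype_card (α := K)]
      rw [Cfsg.Agent.S0287.result rfl m (by omega)]
      ring) (by
      rw [Nat.card_eq_fintype_card (α := K)]
      exact Cfsg.Agent.S0293.result rfl m hm)
  refine (Dvd.intro _ h3).trans ?_
  exact (Nat.mul_dvd_mul_left 2 (Nat.gcd_dvd_left 4 _)).trans (by norm_num)

/-- **`Ω⁺_{2m}(q)`** -/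
theorem im_plus_main (K : Type u) [Field K] [Finite K] {p : ℕ} [Fact p.Prime] [CharP K p] {m : ℕ}
    (hm : 4 ≤ m) {r : ℕ} (hr : r.Prime) (hrp : r ≠ p) (hd : r ∣ Nat.card (POmega K (quadFormPlus m K))) :
    IM r (POmega K (quadFormPlus m K)) := by
  classical
  have hp : p.Prime := Fact.out
  obtain ⟨s, hs⟩ := card_pow K p
  have hq2 : 2 ≤ Nat.card K := Finite.one_lt_card
  have hrq : ¬ r ∣ Nat.card K := by
    rw [hs]; intro h; exact hrp ((Nat.prime_dvd_prime_iff_eq hr hp).1 (hr.dvd_of_dvd_pow h))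
  have hd1 : r ∣ Nat.card (isometryGroup K (quadFormPlus m K)) :=
    hd.trans ((Subgroup.card_quotient_dvd_card _).trans (Subgroup.card_subgroup_dvd_card _))
  have hd2 : r ∣ Nat.card (CForm.plusF K m).iso := by
    rwa [← Nat.card_congr (isoQuad (CForm.plusF K m) (plus_hB K m)).toEquiv]
  rw [card_plusF K (by omega)] at hd2
  have key : ∀ (k n : ℕ), k + n = m → 3 ≤ k → (r ≠ 2 ∧ r ∣ dg (CForm.plusF K (k + n)) k) ∨
      (r = 2 ∧ 16 ∣ dg (CForm.plusF K (k + n)) k) → IM r (POmega K (quadFormPlus m K)) := by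
    rintro k n rfl hk hdeg
    obtain ⟨c, hc⟩ := exists_cus_sq K rfl k (by omega) (fun _ => hk) (fun _ => hk) (fun _ => by omega)
    obtain ⟨⟨W₀, hW₀⟩, -⟩ := CForm.plusF_frame (K := K) (p := p) k n
    exact im_omega (CForm.plusF K (k + n)) (plus_hB K (k + n)) hW₀ hc
      (fun z hz => scal_of (cen_plus K (by omega) z hz)) (plus_idx K hm) hr hdeg
  obtain ⟨e, he⟩ := plus_dvd_top K (p := p) (m := m) (by omega)
  by_cases h2r : r = 2
  · refine key m 0 (Nat.add_zero m) (by omega) (Or.inr ⟨h2r, ?_⟩)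
    refine sixteen_dvd (odd_of_two_ne (K := K) (by rw [← h2r]; exact hrp.symm)) hp (by rw [← h2r]; exact hrp)
      (Dvd.dvd.trans ?_ he)
    rw [← Finset.prod_range_mul_prod_Ico _ (show 2 ≤ m - 1 by omega), Finset.prod_range_succ, Finset.prod_range_one]
    exact Dvd.intro _ rfl
  by_cases hA : r ∣ ∏ i ∈ Finset.range (m - 1), (Nat.card K ^ (2 * (i + 1)) - 1)
  · refine key m 0 (Nat.add_zero m) (by omega) (Or.inl ⟨h2r, ?_⟩)
    have := prime_pow_dvd (t := 1) hr hp hrp (by rw [pow_one]; exact hA.trans he)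
    rwa [pow_one] at this
  · have hA2 : ∀ i, i < m - 1 → ¬ r ∣ Nat.card K ^ (2 * (i + 1)) - 1 := fun i hi h =>
      hA (h.trans (Finset.dvd_prod_of_mem (fun i => Nat.card K ^ (2 * (i + 1)) - 1) (Finset.mem_range.2 hi)))
    have hB : r ∣ Nat.card K ^ m - 1 := by
      rcases hr.dvd_mul.1 hd2 with h | h
      · rcases hr.dvd_mul.1 h with h' | h'
        · rcases hr.dvd_mul.1 h' with h'' | h''
          · exact absurd ((Nat.prime_dvd_prime_iff_eq hr Nat.prime_two).1 h'') h2r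
          · exact absurd (hr.dvd_of_dvd_pow h'') hrq
        · exact h'
      · exact absurd h hA
    have hm1 : m - 1 + 1 = m := by omega
    refine key (m - 1) 1 hm1 (by omega) (Or.inl ⟨h2r, ?_⟩)
    obtain ⟨e', he'⟩ := plus_dvd K (p := p) (k := m - 1) (n := 1) (by omega) le_rfl
    have h6 : r ∣ p ^ e' * (dg (CForm.plusF K (m - 1 + 1)) (m - 1) * (Nat.card K ^ (m - 1) - 1)) := by
      refine Dvd.dvd.trans ?_ he'
      rw [mul_assoc]
      refine Dvd.dvd.mul_right ?_ _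
      rw [hm1]
      exact hB
    have h7 : r ∣ dg (CForm.plusF K (m - 1 + 1)) (m - 1) * (Nat.card K ^ (m - 1) - 1) := by
      have := prime_pow_dvd (t := 1) hr hp hrp (by rw [pow_one]; exact h6)
      rwa [pow_one] at this
    refine (hr.dvd_mul.1 h7).resolve_right fun h => ?_
    apply hA2 (m - 2) (by omega)
    have h9 : m - 2 + 1 = m - 1 := by omega
    rw [h9]
    exact h.trans (pow_sub_dvd _ _)

end rows

end Cfsg.Agent.H477.HC

private theorem dce_b6f02a2e67fc : _root_.True := by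
  try have : _root_.True := by simp only [_root_.Cfsg.POmega.congr_simp]
  exact _root_.True.intro
end

-- part: H477/HC/RowMinus
section
set_option linter.all false
open scoped Cfsg.Agent.FastGrp

/-!
# Characters of the orthogonal groups of minus type (hub H5, helper477)
-/

set_option autoImplicit false

open scoped ComplexConjugate
open Cfsg

namespace Cfsg.Agent.H477.HC

open Cfsg.Agent.Characters Module Cfsg.Agent.H53.HC Cfsg.Agent.H33

universe u v w

section rows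

variable (K : Type u) [Field K] [Finite K]

theorem minus_dvd_top {p : ℕ} [Fact p.Prime] [CharP K p] (a b : K)
    (hab : ∀ z₁ z₂ : K, z₁ ^ 2 + a * z₁ * z₂ + b * z₂ ^ 2 = 0 → z₁ = 0 ∧ z₂ = 0) {l : ℕ} (hl : 2 ≤ l) :
    ∃ e, (Nat.card K ^ (l + 1) + 1) * (Nat.card K - 1) * (Nat.card K ^ l + 1) *
        ∏ i ∈ Finset.Ico 1 (l - 1), (Nat.card K ^ (2 * (i + 1)) - 1) ∣
      p ^ e * dg (CForm.minusF K (l + 0) a b hab) l := by
  refine key_div (by omega) ?_
  obtain ⟨e, he⟩ := minus_dvd K (p := p) a b hab (k := l) (n := 0) (by omega)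
  refine ⟨e, ?_⟩
  refine (dvd_of_eq ?_).trans he
  obtain ⟨j, rfl⟩ : ∃ j, l = j + 1 := ⟨l - 1, by omega⟩
  rw [Nat.add_zero, Finset.prod_Ico_succ_top (show 0 + 1 ≤ j by omega), Nat.add_sub_cancel, sq_sub, Nat.zero_add, pow_one]
  ring

/-- index and centre of `Ω⁻` -/
theorem minus_idx_mul (a b : K)
    (hab : ∀ z₁ z₂ : K, z₁ ^ 2 + a * z₁ * z₂ + b * z₂ ^ 2 = 0 → z₁ = 0 ∧ z₂ = 0) {l : ℕ} (hl : 3 ≤ l) :
    (Omega K (quadFormMinus l K a b)).index * Nat.card (Subgroup.center (Omega K (quadFormMinus l K a b))) =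
      2 * Nat.gcd 4 (Nat.card K ^ (l + 1) + 1) := by
  let _ := Fintype.ofFinite K
  refine idx_eq (quadFormMinus l K a b) (g := Nat.gcd 4 (Nat.card K ^ (l + 1) + 1))
    (X := Nat.card K ^ ((l + 1) * l) * (Nat.card K ^ (l + 1) + 1) *
      ∏ i ∈ Finset.range l, (Nat.card K ^ (2 * (i + 1)) - 1)) ?_ ?_
  · rw [Nat.card_eq_fintype_card (α := K)]
    have := Cfsg.Agent.S0288.result (F := K) rfl (l + 1) (by omega) a b hab
    rw [Nat.add_sub_cancel] at this
    rw [this]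
    ring
  · rw [Nat.card_eq_fintype_card (α := K)]
    exact Cfsg.Agent.S0294.result (F := K) rfl (l + 1) (by omega) a b hab

theorem minus_idx (a b : K)
    (hab : ∀ z₁ z₂ : K, z₁ ^ 2 + a * z₁ * z₂ + b * z₂ ^ 2 = 0 → z₁ = 0 ∧ z₂ = 0) {l : ℕ} (hl : 3 ≤ l) :
    (Omega K (quadFormMinus l K a b)).index ∣ 8 :=
  (Dvd.intro _ (minus_idx_mul K a b hab hl)).trans
    ((Nat.mul_dvd_mul_left 2 (Nat.gcd_dvd_left 4 _)).trans (by norm_num))

theorem minus_idx_four {p : ℕ} [Fact p.Prime] [CharP K p] (ho : Odd (Nat.card K)) (a b : K)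
    (hab : ∀ z₁ z₂ : K, z₁ ^ 2 + a * z₁ * z₂ + b * z₂ ^ 2 = 0 → z₁ = 0 ∧ z₂ = 0) (l : ℕ) :
    (Omega K (quadFormMinus l K a b)).index = 4 := by
  have h2 := two_ne_zero_of_odd (K := K) (p := p) ho
  rw [← LieClassical.OrthForms.coe_minusForm l K a b]
  refine Cfsg.Agent.ClassicalGeometry.OmegaIndex.index_Omega h2 ?_ _
    (LieClassical.OmegaReindex.nondegenerate_of_left _
      (fun x hx => LieClassical.OrthForms.nondeg_minusForm l K a b hab x hx))
  simp only [Fintype.card_sum, Fintype.card_fin]; omega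

/-- **`Ω⁻_{2l+2}(q)`**, apart from `(Ω⁻_8(2), 7)` -/
theorem im_minus_main {p : ℕ} [Fact p.Prime] [CharP K p] (a b : K)
    (hab : ∀ z₁ z₂ : K, z₁ ^ 2 + a * z₁ * z₂ + b * z₂ ^ 2 = 0 → z₁ = 0 ∧ z₂ = 0) {l : ℕ}
    (hl : 3 ≤ l) {r : ℕ} (hr : r.Prime) (hrp : r ≠ p) (hd : r ∣ Nat.card (POmega K (quadFormMinus l K a b)))
    (hex : l = 3 → Nat.card K = 2 → r ≠ 7) :
    IM r (POmega K (quadFormMinus l K a b)) := by
  classical
  have hp : p.Prime := Fact.out
  obtain ⟨s, hs⟩ := card_pow K p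
  have hq2 : 2 ≤ Nat.card K := Finite.one_lt_card
  have hrq : ¬ r ∣ Nat.card K := by
    rw [hs]; intro h; exact hrp ((Nat.prime_dvd_prime_iff_eq hr hp).1 (hr.dvd_of_dvd_pow h))
  have hd1 : r ∣ Nat.card (isometryGroup K (quadFormMinus l K a b)) :=
    hd.trans ((Subgroup.card_quotient_dvd_card _).trans (Subgroup.card_subgroup_dvd_card _))
  have hd2 : r ∣ Nat.card (CForm.minusF K l a b hab).iso := by
    rwa [← Nat.card_congr (isoQuad (CForm.minusF K l a b hab) (minus_hB K l a b hab)).toEquiv]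
  rw [card_minusF] at hd2
  have key : ∀ (k n : ℕ), k + n = l → 2 ≤ k → (Nat.card K = 2 → 3 ≤ k) → (Nat.card K = 3 → 3 ≤ k) →
      (r ≠ 2 ∧ r ∣ dg (CForm.minusF K (k + n) a b hab) k) ∨
      (r = 2 ∧ 16 ∣ dg (CForm.minusF K (k + n) a b hab) k) → IM r (POmega K (quadFormMinus l K a b)) := by
    rintro k n rfl hk hk2 hk3 hdeg
    obtain ⟨c, hc⟩ := exists_cus_sq K rfl k (by omega) hk2 hk3 (fun _ => hk)
    obtain ⟨⟨W₀, hW₀⟩, -⟩ := CForm.minusF_frame (K := K) (p := p) hab k n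
    exact im_omega (CForm.minusF K (k + n) a b hab) (minus_hB K (k + n) a b hab) hW₀ hc
      (fun z hz => scal_of (cen_minus K (by omega) a b hab z hz)) (minus_idx K a b hab hl) hr hdeg
  obtain ⟨e, he⟩ := minus_dvd_top K (p := p) a b hab (l := l) (by omega)
  by_cases h2r : r = 2
  · refine key l 0 (Nat.add_zero l) (by omega) (by omega) (by omega) (Or.inr ⟨h2r, ?_⟩)
    have hpo : p ≠ 2 := by rw [← h2r]; exact hrp.symm
    have ho := odd_of_two_ne (K := K) hpo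
    have h8 : 8 ∣ Nat.card K ^ 2 - 1 := Nat.eight_dvd_sq_sub_one_of_odd ho
    have h16 : 16 ∣ Nat.card K ^ (2 * (1 + 1)) - 1 := by
      have h1 : Nat.card K ^ (2 * (1 + 1)) - 1 = (Nat.card K ^ 2 + 1) * (Nat.card K ^ 2 - 1) := sq_sub _ 2
      have h3 : 2 ∣ Nat.card K ^ 2 + 1 := (ho.pow (n := 2)).add_one.two_dvd
      rw [h1]
      exact Nat.mul_dvd_mul h3 h8
    have h17 : 2 ^ 4 ∣ p ^ e * dg (CForm.minusF K (l + 0) a b hab) l := by
      refine Dvd.dvd.trans ?_ he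
      refine Dvd.dvd.mul_left ?_ _
      exact (show 2 ^ 4 ∣ Nat.card K ^ (2 * (1 + 1)) - 1 from h16).trans
        (Finset.dvd_prod_of_mem (fun i => Nat.card K ^ (2 * (i + 1)) - 1) (Finset.mem_Ico.2 ⟨le_rfl, by omega⟩))
    exact prime_pow_dvd Nat.prime_two hp hpo.symm h17
  by_cases hA : r ∣ (Nat.card K ^ (l + 1) + 1) * (Nat.card K - 1) * (Nat.card K ^ l + 1) *
        ∏ i ∈ Finset.Ico 1 (l - 1), (Nat.card K ^ (2 * (i + 1)) - 1)
  · refine key l 0 (Nat.add_zero l) (by omega) (by omega) (by omega) (Or.inl ⟨h2r, ?_⟩)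
    have := prime_pow_dvd (t := 1) hr hp hrp (by rw [pow_one]; exact hA.trans he)
    rwa [pow_one] at this
  · have hA1 : ¬ r ∣ Nat.card K ^ (l + 1) + 1 := fun h =>
      hA (Dvd.dvd.mul_right (Dvd.dvd.mul_right (Dvd.dvd.mul_right h _) _) _)
    have hA3 : ¬ r ∣ Nat.card K ^ l + 1 := fun h => hA (Dvd.dvd.mul_right (Dvd.dvd.mul_left h _) _)
    have hA2 : ∀ i, 1 ≤ i → i < l - 1 → ¬ r ∣ Nat.card K ^ (2 * (i + 1)) - 1 := fun i hi hi' h =>
      hA (Dvd.dvd.mul_left (h.trans (Finset.dvd_prod_of_mem (fun i => Nat.card K ^ (2 * (i + 1)) - 1)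
        (Finset.mem_Ico.2 ⟨hi, hi'⟩))) _)
    have hA0 : ¬ r ∣ Nat.card K ^ (2 * (0 + 1)) - 1 := fun h => hA2 1 le_rfl (by omega) (h.trans (pow_sub_dvd _ 2))
    have hB : r ∣ Nat.card K ^ (2 * l) - 1 := by
      have h3 : r ∣ ∏ i ∈ Finset.range l, (Nat.card K ^ (2 * (i + 1)) - 1) := by
        rcases hr.dvd_mul.1 hd2 with h | h
        · rcases hr.dvd_mul.1 h with h' | h'
          · rcases hr.dvd_mul.1 h' with h'' | h''
            · exact absurd ((Nat.prime_dvd_prime_iff_eq hr Nat.prime_two).1 h'') h2r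
            · exact absurd (hr.dvd_of_dvd_pow h'') hrq
          · exact absurd h' hA1
        · exact h
      obtain ⟨i, hi, hi'⟩ := (Prime.dvd_finsetProd_iff hr.prime _).1 h3
      rw [Finset.mem_range] at hi
      rcases Nat.eq_zero_or_pos i with rfl | h0
      · exact absurd hi' hA0
      rcases Nat.lt_or_ge i (l - 1) with h | h
      · exact absurd hi' (hA2 i h0 h)
      · have : i + 1 = l := by omega
        rwa [this] at hi'
    have hB' : r ∣ Nat.card K ^ l - 1 := by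
      rw [sq_sub] at hB
      exact (hr.dvd_mul.1 hB).resolve_left hA3
    have hm1 : l - 1 + 1 = l := by omega
    obtain ⟨e', he'⟩ := minus_dvd K (p := p) a b hab (k := l - 1) (n := 1) (by omega)
    have h6 : r ∣ p ^ e' * (dg (CForm.minusF K (l - 1 + 1) a b hab) (l - 1) * (Nat.card K ^ (l - 1) - 1)) := by
      refine Dvd.dvd.trans ?_ he'
      refine Dvd.dvd.mul_left ?_ _
      have h7 := Finset.dvd_prod_of_mem (fun i => Nat.card K ^ (2 * (i + 1)) - 1)
        (Finset.mem_Ico.2 (⟨by omega, by omega⟩ : 1 + 1 ≤ l - 1 ∧ l - 1 < l - 1 + 1))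
      refine Dvd.dvd.trans ?_ h7
      change r ∣ Nat.card K ^ (2 * (l - 1 + 1)) - 1
      rw [hm1]
      exact hB
    have h7 : r ∣ dg (CForm.minusF K (l - 1 + 1) a b hab) (l - 1) * (Nat.card K ^ (l - 1) - 1) := by
      have := prime_pow_dvd (t := 1) hr hp hrp (by rw [pow_one]; exact h6)
      rwa [pow_one] at this
    have h8 : r ∣ dg (CForm.minusF K (l - 1 + 1) a b hab) (l - 1) := by
      refine (hr.dvd_mul.1 h7).resolve_right fun h => ?_
      apply hA2 (l - 2) (by omega) (by omega)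
      have h9 : l - 2 + 1 = l - 1 := by omega
      rw [h9]
      exact h.trans (pow_sub_dvd _ _)
    by_cases hl3 : l = 3 ∧ Nat.card K = 3
    · -- `Ω⁻_8(3)`: the centre is trivial
      obtain ⟨hl3, hq3⟩ := hl3
      have ho : Odd (Nat.card K) := by rw [hq3]; decide
      have hidx := minus_idx_four K (p := p) ho a b hab l
      have hmul := minus_idx_mul K a b hab hl
      have hg : Nat.gcd 4 (Nat.card K ^ (l + 1) + 1) = 2 := by rw [hl3, hq3]; decide
      rw [hidx, hg] at hmul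
      have hc1 : Nat.card (Subgroup.center (Omega K (quadFormMinus l K a b))) = 1 := by omega
      have hcen : ∀ z : Omega K (quadFormMinus l K a b), z ∈ Subgroup.center (Omega K (quadFormMinus l K a b)) →
          z = 1 := by
        intro z hz
        rw [Subgroup.eq_bot_of_card_eq _ hc1] at hz
        exact Subgroup.mem_bot.1 hz
      subst hl3
      obtain ⟨c, hc⟩ := exists_cus_one (K := K) hq3 2 (by norm_num) (by norm_num) (by rintro ⟨h, -⟩; omega)
      obtain ⟨⟨W₀, hW₀⟩, -⟩ := CForm.minusF_frame (K := K) (p := p) hab 2 1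
      exact im_omega (CForm.minusF K (2 + 1) a b hab) (minus_hB K (2 + 1) a b hab) hW₀ hc
        (fun z hz => ⟨1, one_pow 1, fun v => by
          rw [hcen z hz]
          change (1 : Matrix _ _ K).mulVec v = _
          rw [Matrix.one_mulVec, Units.val_one, one_smul]⟩) (minus_idx K a b hab hl) hr (Or.inl ⟨h2r, h8⟩)
    · refine key (l - 1) 1 hm1 (by omega) (fun h => ?_) (fun h => ?_) (Or.inl ⟨h2r, h8⟩)
      · by_contra h'
        have hl3' : l = 3 := by omega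
        apply hex hl3' h
        rw [hl3', h] at hB'
        exact ((Nat.prime_dvd_prime_iff_eq hr (by norm_num)).1 (by norm_num at hB'; exact hB'))
      · by_contra h'
        exact hl3 ⟨by omega, h⟩

end rows

end Cfsg.Agent.H477.HC
end

-- part: H477/HC/Adj
section
set_option linter.all false
open scoped Cfsg.Agent.FastGrp

/-!
# Adjacent primes in the degree graphs of the symplectic and orthogonal groups (hub H5, helper477)

`Ch S d` : `S` has an irreducible character of degree `d`; `adj_of_ch`;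
`om_ch` : the degrees of `PΩ` coming from `dg F k`;
`bc_cases`, `d_cases`, `td_cases` : the arithmetic of two primes `≠ p`.
-/

set_option autoImplicit false

open scoped ComplexConjugate
open Cfsg

namespace Cfsg.Agent.H477.HC

open Cfsg.Agent.Characters Module Cfsg.Agent.H53.HC Cfsg.Agent.H671.H5

universe u v w

/-- `S` has an irreducible character of degree `d` -/
def Ch (S : Type*) [Group S] (d : ℕ) : Prop := ∃ χ : S → ℂ, IsIrrCharacter S χ ∧ χ 1 = (d : ℂ)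

theorem Ch.exists_irr {S : Type*} [Group S] {d : ℕ} (h : Ch S d) : ∃ χ : IrrCharacter S, charDegree (χ : S → ℂ) = d := by
  obtain ⟨χ, hχ, h1⟩ := h
  exact ⟨⟨χ, hχ⟩, H670.PSing.charDegree_eq_of h1⟩

theorem Ch.im {S : Type*} [Group S] {d t : ℕ} (h : Ch S d) (ht : t ∣ d) : H33.IM t S := by
  obtain ⟨χ, hχ⟩ := h.exists_irr
  exact ⟨χ, by rwa [hχ]⟩

theorem Ch.congr {S : Type*} {S' : Type*} [Group S] [Group S'] (e : S ≃* S') {d : ℕ} (h : Ch S' d) : Ch S d := by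
  obtain ⟨χ, hχ, h1⟩ := h
  exact ⟨χ ∘ e.toMonoidHom, Core.isIrr_comp e.toMonoidHom e.surjective hχ, by
    rw [Function.comp_apply, map_one, h1]⟩

theorem adj_of_ch {S : Type*} [Group S] {d : ℕ} (h : Ch S d) {r s : ℕ} (hr : r.Prime) (hs : s.Prime) (hrs : r ≠ s)
    (h1 : r ∣ d) (h2 : s ∣ d) : Adj r s S := by
  obtain ⟨χ, hχ⟩ := h.exists_irr
  rw [adj_iff]
  refine ⟨hrs, hr, hs, χ, ?_⟩
  rw [hχ]
  exact Nat.Coprime.mul_dvd_of_dvd_of_dvd ((Nat.coprime_primes hr hs).2 hrs) h1 h2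

/-- descent: the degrees -/
theorem ch_down {I : Type u} [Group I] [Finite I] (N : Subgroup I) [N.Normal] {χ : I → ℂ} (hχ : IsIrrCharacter I χ)
    {d : ℕ} (hd : χ 1 = d) (hz : ∀ z : N, z ∈ Subgroup.center N → χ z = χ 1) :
    ∃ e : ℕ, Ch (N ⧸ Subgroup.center N) e ∧ e ∣ d ∧ d / e ∣ N.index ∧ 0 < e := by
  classical
  obtain ⟨θ, e, hθ, he, h3, h4, h5, h6⟩ := down_constituent N hχ hd
  obtain ⟨η, hη, hη'⟩ := exists_quot (Subgroup.center N) hθ fun z hzc => h6 z hzc (hz z hzc)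
  refine ⟨e, ⟨η, hη, ?_⟩, h3, h4, h5⟩
  rw [← he, ← hη' 1]
  rfl

theorem pow_dvd_of_down {d e n t a b : ℕ} (ht : t.Prime) (h1 : e ∣ d) (h2 : d / e ∣ n) (h3 : 0 < e)
    (h4 : t ^ (a + b) ∣ d) (h5 : ¬ t ^ (b + 1) ∣ n) : t ^ a ∣ e := by
  obtain ⟨f, rfl⟩ := h1
  rw [Nat.mul_div_cancel_left _ h3] at h2
  have h6 : ¬ t ^ (b + 1) ∣ f := fun h => h5 (h.trans h2)
  by_contra h7
  rcases Nat.eq_zero_or_pos f with rfl | hf
  · exact h6 (dvd_zero _)
  have h8 : (e * f).factorization t < a + b := by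
    rw [Nat.factorization_mul h3.ne' hf.ne', Finsupp.add_apply]
    have h9 : e.factorization t < a := by
      by_contra h
      exact h7 ((ht.pow_dvd_iff_le_factorization h3.ne').2 (not_lt.1 h))
    have h10 : f.factorization t < b + 1 := by
      by_contra h
      exact h6 ((ht.pow_dvd_iff_le_factorization hf.ne').2 (not_lt.1 h))
    omega
  have h9 := (ht.pow_dvd_iff_le_factorization (Nat.mul_pos h3 hf).ne').1 h4
  omega

/-- the degrees of `PΩ` -/
theorem om_ch {ι : Type} [Fintype ι] [DecidableEq ι] {K : Type u} [Field K] [Finite K] (F : CForm K (ι → K))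
    (hB : ∀ u v, F.B u v = F.Q (u + v) - F.Q u - F.Q v) {k : ℕ} {W₀ : Submodule K (ι → K)} (hW₀ : W₀ ∈ F.Om k)
    {Z : Kˣ → Prop} {c : GL (Fin k) K → ℂ} (hc : Cus K k F.σ Z c)
    (hcen : ∀ z : Omega K F.Q, z ∈ Subgroup.center (Omega K F.Q) → ∃ a : Kˣ, Z a ∧ ∀ v, (omMat z).mulVec v = (a : K) • v)
    (hidx : (Omega K F.Q).index ∣ 8) :
    ∃ e, Ch (POmega K F.Q) e ∧ (∀ t a : ℕ, t.Prime → t ≠ 2 → t ^ a ∣ dg F k → t ^ a ∣ e) ∧
      ∀ a, 2 ^ (a + 3) ∣ dg F k → 2 ^ a ∣ e := by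
  obtain ⟨χ, hχ, hχ1, hχz⟩ := om_char F hB hW₀ hc
  have hz : ∀ z : Omega K F.Q, z ∈ Subgroup.center (Omega K F.Q) → χ z = χ 1 := by
    intro z hz
    obtain ⟨a, ha, h⟩ := hcen z hz
    exact hχz z a ha h
  obtain ⟨e, h1, h2, h3, h4⟩ := ch_down (Omega K F.Q) hχ hχ1 hz
  refine ⟨e, h1, fun t a ht ht2 hd => ?_, fun a hd => ?_⟩
  · refine pow_dvd_of_down ht h2 h3 h4 (b := 0) hd fun h => ?_
    rw [zero_add, pow_one] at h
    have h5 : t ∣ 2 ^ 3 := h.trans hidx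
    exact ht2 ((Nat.prime_dvd_prime_iff_eq ht Nat.prime_two).1 (ht.dvd_of_dvd_pow h5))
  · refine pow_dvd_of_down Nat.prime_two h2 h3 h4 (b := 3) hd fun h => ?_
    have h5 := Nat.le_of_dvd (by norm_num) (h.trans hidx)
    norm_num at h5

/-! ### arithmetic -/

section arith

variable {q m r s : ℕ}

/-- the first product, types `B`, `C` -/
def P1 (q m : ℕ) : ℕ := (q ^ m + 1) * ∏ i ∈ Finset.range (m - 1), (q ^ (2 * (i + 1)) - 1)

/-- the second product, types `B`, `C` -/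
def P2 (q m : ℕ) : ℕ := (q ^ (m - 1) + 1) * (q ^ (2 * m) - 1) * ∏ i ∈ Finset.Ico 1 (m - 2), (q ^ (2 * (i + 1)) - 1)

theorem pow_sub_one_dvd (q : ℕ) {i j : ℕ} (h : i ∣ j) : q ^ i - 1 ∣ q ^ j - 1 := by
  obtain ⟨c, rfl⟩ := h
  rw [pow_mul]
  simpa using Nat.sub_dvd_pow_sub_pow (q ^ i) 1 c

theorem exists_idx {t : Finset ℕ} (hr : r.Prime) (h : r ∣ ∏ i ∈ t, (q ^ (2 * (i + 1)) - 1)) :
    ∃ i ∈ t, r ∣ q ^ (2 * (i + 1)) - 1 := (Prime.dvd_finsetProd_iff hr.prime _).1 h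

theorem dvd_prod_idx {t : Finset ℕ} {i : ℕ} (hi : i ∈ t) (h : r ∣ q ^ (2 * (i + 1)) - 1) :
    r ∣ ∏ i ∈ t, (q ^ (2 * (i + 1)) - 1) := h.trans (Finset.dvd_prod_of_mem (fun i => q ^ (2 * (i + 1)) - 1) hi)

theorem bc_one (hr : r.Prime) (h : r ∣ ∏ i ∈ Finset.range m, (q ^ (2 * (i + 1)) - 1)) (h1 : ¬ r ∣ P1 q m) :
    r ∣ q ^ m - 1 := by
  obtain ⟨i, hi, h2⟩ := exists_idx hr h
  rw [Finset.mem_range] at hi
  rcases Nat.lt_or_ge i (m - 1) with h3 | h3
  · exact absurd (Dvd.dvd.mul_left (dvd_prod_idx (Finset.mem_range.2 h3) h2) _) h1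
  · have h4 : i + 1 = m := by omega
    rw [h4, sq_sub] at h2
    exact (hr.dvd_mul.1 h2).resolve_left fun h5 => h1 (Dvd.dvd.mul_right h5 _)

theorem bc_odd (hm : 2 ≤ m) (h1 : ¬ r ∣ P1 q m) (h2 : r ∣ q ^ m - 1) : Odd m ∧ 3 ≤ m := by
  have h3 : Odd m := by
    by_contra h
    rw [Nat.not_odd_iff_even] at h
    obtain ⟨j, hj⟩ := h
    apply h1
    refine Dvd.dvd.mul_left (dvd_prod_idx (i := j - 1) (Finset.mem_range.2 (by omega)) ?_) _
    have h4 : 2 * (j - 1 + 1) = m := by omega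
    rwa [h4]
  refine ⟨h3, ?_⟩
  obtain ⟨j, hj⟩ := h3
  omega

theorem bc_two (hm : Odd m) (hm3 : 3 ≤ m) (hs : s.Prime)
    (h : s ∣ ∏ i ∈ Finset.range m, (q ^ (2 * (i + 1)) - 1)) : s ∣ P2 q m := by
  obtain ⟨i, hi, h2⟩ := exists_idx hs h
  rw [Finset.mem_range] at hi
  obtain ⟨j, hj⟩ := hm
  have hm' : ∀ x, x ∣ 2 * m → s ∣ q ^ x - 1 → s ∣ P2 q m := fun x hx hx' =>
    Dvd.dvd.mul_right (Dvd.dvd.mul_left (hx'.trans (pow_sub_one_dvd q hx)) _) _
  have hmid : ∀ i, i ≤ m - 3 → s ∣ q ^ (2 * (i + 1)) - 1 → s ∣ P2 q m := by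
    intro i hi h2
    rcases Nat.eq_zero_or_pos i with rfl | h0
    · exact hm' _ ⟨m, by ring⟩ h2
    · exact Dvd.dvd.mul_left (dvd_prod_idx (Finset.mem_Ico.2 ⟨h0, by omega⟩) h2) _
  rcases Nat.lt_or_ge i (m - 2) with h3 | h3
  · exact hmid i (by omega) h2
  · rcases Nat.lt_or_ge i (m - 1) with h4 | h4
    · have h5 : i + 1 = m - 1 := by omega
      rw [h5, sq_sub] at h2
      rcases hs.dvd_mul.1 h2 with h6 | h6
      · exact Dvd.dvd.mul_right (Dvd.dvd.mul_right h6 _) _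
      · refine hmid (j - 1) (by omega) ?_
        have h7 : 2 * (j - 1 + 1) = m - 1 := by omega
        rwa [h7]
    · have h5 : i + 1 = m := by omega
      rw [h5] at h2
      exact hm' _ dvd_rfl h2

/-- two primes, types `B`, `C` -/
theorem bc_cases (hm : 2 ≤ m) (hr : r.Prime) (hs : s.Prime)
    (h : r ∣ ∏ i ∈ Finset.range m, (q ^ (2 * (i + 1)) - 1)) (h' : s ∣ ∏ i ∈ Finset.range m, (q ^ (2 * (i + 1)) - 1)) :
    (r ∣ P1 q m ∧ s ∣ P1 q m) ∨ (Odd m ∧ 3 ≤ m ∧ r ∣ P2 q m ∧ s ∣ P2 q m ∧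
      ((r ∣ q ^ m - 1 ∧ ¬ r ∣ P1 q m) ∨ (s ∣ q ^ m - 1 ∧ ¬ s ∣ P1 q m))) := by
  by_cases h1 : r ∣ P1 q m
  · by_cases h2 : s ∣ P1 q m
    · exact Or.inl ⟨h1, h2⟩
    · have h3 := bc_one hs h' h2
      obtain ⟨h4, h5⟩ := bc_odd hm h2 h3
      exact Or.inr ⟨h4, h5, bc_two h4 h5 hr h, bc_two h4 h5 hs h', Or.inr ⟨h3, h2⟩⟩
  · have h3 := bc_one hr h h1
    obtain ⟨h4, h5⟩ := bc_odd hm h1 h3
    exact Or.inr ⟨h4, h5, bc_two h4 h5 hr h, bc_two h4 h5 hs h', Or.inl ⟨h3, h1⟩⟩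

/-- `P2` divides the degree of the second character -/
theorem bc_key (hm3 : 3 ≤ m) (hq : 2 ≤ q) {p d : ℕ}
    (h : ∃ e, ∏ i ∈ Finset.Ico 1 (m - 1 + 1), (q ^ (2 * (i + 1)) - 1) ∣ p ^ e * (d * (q ^ (m - 1) - 1))) :
    ∃ e, P2 q m ∣ p ^ e * d := by
  obtain ⟨e, he⟩ := h
  refine ⟨e, ?_⟩
  have h1 : ∏ i ∈ Finset.Ico 1 (m - 1 + 1), (q ^ (2 * (i + 1)) - 1) = P2 q m * (q ^ (m - 1) - 1) := by
    obtain ⟨j, rfl⟩ : ∃ j, m = j + 3 := ⟨m - 3, by omega⟩
    have e1 : j + 3 - 1 + 1 = j + 1 + 1 + 1 := by omega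
    have e2 : j + 3 - 2 = j + 1 := by omega
    have e3 : j + 3 - 1 = j + 1 + 1 := by omega
    rw [P2, e1, e2, e3, Finset.prod_Ico_succ_top (by omega), Finset.prod_Ico_succ_top (by omega)]
    have e4 : q ^ (2 * (j + 1 + 1)) - 1 = (q ^ (j + 1 + 1) + 1) * (q ^ (j + 1 + 1) - 1) := sq_sub q _
    rw [e4]
    ring
  rw [h1, ← mul_assoc] at he
  have h2 : 1 < q ^ (m - 1) := Nat.one_lt_pow (by omega) (by omega)
  exact Nat.dvd_of_mul_dvd_mul_right (by omega) he

end arith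

end Cfsg.Agent.H477.HC

private theorem dce_3588ad78f249 : _root_.True := by
  try have : _root_.True := by simp only [_root_.Cfsg.Agent.H477.HC.P2.eq_1]
  exact _root_.True.intro
end

-- part: H477/HC/Rk3Chars
section
prune_inst 0x100400118c00000000400002000184307000092004300004044004600408842800006012ca01010000080000030004811000000020000000000000000000000000006008048a008000000000080000000000000000000000000000000000000000000000
set_option linter.all false
open scoped Cfsg.Agent.FastGrp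

/-!
# The rank 3 characters of the classical groups (hub H5, helper477)

`exists_chars_of` : for a subgroup `H` of `F.iso` with `F.iso = H · Stab(x, y)` for all points `x`, `y`;
`rk3_plus`, `rk3_minus`, `rk3_odd` : the characters of `PΩ` (exact degrees).
-/

set_option autoImplicit false

open scoped ComplexConjugate
open Cfsg

namespace Cfsg.Agent.H477.HC

open Module Cfsg.Agent.H53.HC Cfsg.Agent.H690.Spor.RankThree Cfsg.Agent.H690.Spor.RankThree.R3
open Cfsg.Agent.Characters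

universe u v w

namespace CForm

section

variable {K : Type u} [Field K] {V : Type v} [AddCommGroup V] [Module K V] {F : CForm K V}
  {X : Type w} [AddCommGroup X] [Module K X] {F' : CForm K X} {e f : V} {j : X →ₗ[K] V}

theorem card_sing [Finite V] [Finite K] :
    (Nat.card K - 1) * Nat.card F.Pt + 1 = Nat.card {v : V // F.Sing v} := by
  have h1 := card_pts (F := F) (fun _ => True) (fun c _ v hv => trivial)
  have h2 : Nat.card F.Pt = Nat.card {x : F.Pt // ∀ v ∈ x.1, v ≠ 0 → True} := by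
    rw [← Nat.card_congr (Equiv.subtypeUnivEquiv (p := fun x : F.Pt => ∀ v ∈ x.1, v ≠ 0 → True)
      (fun x v _ _ => trivial))]
  have h3 := card_ne_zero (V := V) (fun v => F.Sing v) sing_zero
  have h5 : Nat.card {v : V // v ≠ 0 ∧ F.Sing v ∧ True} = Nat.card {v : V // v ≠ 0 ∧ F.Sing v} :=
    Nat.card_congr (Equiv.subtypeEquivRight fun v => by simp)
  rw [h2, h1, h5, h3]

/-- **the two characters** -/
theorem exists_chars_of [FiniteDimensional K V] [Finite V] [Finite K] [Finite X] (h : Hyp F F' e f j) {P P' : ℕ}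
    (hP : 2 ≤ P) (hP' : 1 ≤ P')
    (hX : Nat.card {x : X // F'.Sing x} = (P - 1) * (P' + 1) + 1)
    (hV : Nat.card {v : V // F.Sing v} = (Nat.card K * P - 1) * (Nat.card K * P' + 1) + 1)
    (H : Subgroup F.iso) (hH : ∀ (g : F.iso) (x y : F.Pt), ∃ h ∈ H, h • x = g • x ∧ h • y = g • y) :
    ∃ (χ₁ χ₂ : IrrCharacter H) (a b : ℕ), (χ₁ : H → ℂ) 1 = a ∧ (χ₂ : H → ℂ) 1 = b ∧
      ((Nat.card K : ℤ) - 1) * (P + P') * a = Nat.card K * P' * (P' + 1) * (Nat.card K * P - 1) ∧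
      ((Nat.card K : ℤ) - 1) * (P + P') * b = Nat.card K * P * (P - 1) * (Nat.card K * P' + 1) ∧
      ∀ x : H, (∀ y : F.Pt, (x : F.iso) • y = y) → (χ₁ : H → ℂ) x = a ∧ (χ₂ : H → ℂ) x = b := by
  classical
  have hq : 1 < Nat.card K := Finite.one_lt_card
  obtain ⟨q, hq'⟩ : ∃ q, q = Nat.card K := ⟨_, rfl⟩
  obtain ⟨n, hn⟩ : ∃ n, n = Nat.card F'.Pt := ⟨_, rfl⟩
  have hb := card_sing (F := F')
  rw [← hn] at hb
  rw [← hq'] at hq hV hb ⊢
  have hb1 : (q - 1) * n = (P - 1) * (P' + 1) := by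
    rw [hX] at hb
    exact Nat.add_right_cancel hb
  have hn0 : 0 < n := by
    rcases Nat.eq_zero_or_pos n with h0 | h0
    · exfalso
      rw [h0, mul_zero] at hb1
      have : 0 < (P - 1) * (P' + 1) := Nat.mul_pos (by omega) (by omega)
      omega
    · exact h0
  obtain ⟨s, rfl⟩ : ∃ s, q = s + 1 := ⟨q - 1, by omega⟩
  obtain ⟨t, rfl⟩ : ∃ t, P = t + 1 := ⟨P - 1, by omega⟩
  rw [Nat.add_sub_cancel, Nat.add_sub_cancel] at hb1
  have hl : (Nat.card K - 1) * (1 + Nat.card K * n + (s + 1) * ((t + 1) * P')) + 1 = Nat.card {v : V // F.Sing v} := by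
    rw [hV, ← hq', Nat.add_sub_cancel]
    have e1 : (s + 1) * (t + 1) - 1 = s * t + s + t := by
      have : (s + 1) * (t + 1) = s * t + s + t + 1 := by ring
      omega
    rw [e1]
    have e2 : s * (1 + (s + 1) * n + (s + 1) * ((t + 1) * P')) + 1 =
        s + (s + 1) * (s * n) + s * ((s + 1) * ((t + 1) * P')) + 1 := by ring
    rw [e2, hb1]
    ring
  obtain ⟨hr3, x₀, y₀, hxy, hR, hcom⟩ := r3 h (b := n) (l := (s + 1) * ((t + 1) * P')) (by rw [← hq']; exact hb) hl hn0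
    (by (clear * - hP'; positivity)) H hH
  have hbZ : (s : ℤ) * n = t * (P' + 1) := by exact_mod_cast hb1
  have := Fintype.ofFinite F.Pt
  have : Finite F.iso := finite_iso F
  have hnP : (t : ℤ) - (-(P' : ℤ) - 1) = t + 1 + P' := by ring
  obtain ⟨χ₁, χ₂, a, b, h1, h2, h3, h4, -, h6⟩ := H113.PSU.Rank3.frame_exact hr3 hxy hR hcom
    (r := (t : ℤ)) (s := -(P' : ℤ) - 1) (by
      intro h0
      have : (t : ℤ) + 1 + P' = 0 := by rw [h0]; ring
      omega)
    (by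
      rw [← hq']
      push_cast
      linear_combination hbZ)
    (by
      rw [← hq']
      push_cast
      linear_combination (-(((s : ℤ) + 1) * n)) * hbZ)
  rw [← hq'] at h3 h4
  push_cast at h3 h4
  refine ⟨χ₁, χ₂, a, b, h1, h2, ?_, ?_, fun x hx => h6 x hx⟩
  · push_cast
    linear_combination (s : ℤ) * h3 + (((s : ℤ) + 1) * P') * hbZ
  · push_cast
    linear_combination (s : ℤ) * h4 + (((s : ℤ) + 1) * (t + 1)) * hbZ

end

/-! ### `Ω` -/

section Omega

open LieClassical LieClassical.OrthCore LieClassical.OrthTrans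

variable {K : Type u} [Field K] {V : Type v} [AddCommGroup V] [Module K V]

/-- correcting an isometry by one fixing `S` pointwise -/
theorem exists_correct [FiniteDimensional K V] {Q : QuadraticForm K V} (hG : Good Q) {S : Submodule K V}
    (hS : ∀ t : K, ∃ v, Q v = t ∧ ∀ w ∈ S, QuadraticMap.polar Q v w = 0) {g : V ≃ₗ[K] V} (hg : g ∈ O Q) :
    ∃ s ∈ O Q, (∀ w ∈ S, s w = w) ∧ g * s ∈ E Q := by
  have hg' := hg
  rw [O_eq_closure hG.nondeg] at hg
  have key : ∀ x ∈ Subgroup.closure (reflSet Q ∪ siegelSet Q), ∃ s ∈ O Q, (∀ w ∈ S, s w = w) ∧ x * s ∈ E Q := by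
    intro x hx
    induction hx using Subgroup.closure_induction with
    | mem x hx =>
      rcases hx with ⟨v, hv, rfl⟩ | ⟨u, w, hu, hw, rfl⟩
      · obtain ⟨v', hv1, hv2⟩ := hS (Q v)
        have hv' : Q v' ≠ 0 := by rwa [hv1]
        refine ⟨refl Q v' hv', refl_mem_O hv', fun w hw => ?_, hG.refl_mul_refl_mem hv' hv hv1⟩
        rw [refl_apply, hv2 w hw, mul_zero, zero_smul, sub_zero]
      · exact ⟨1, one_mem _, fun w _ => rfl, by rw [mul_one]; exact siegel_mem_E hu hw⟩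
    | one => exact ⟨1, one_mem _, fun w _ => rfl, by rw [mul_one]; exact one_mem _⟩
    | mul x y hx hy ihx ihy =>
      obtain ⟨s, hs, hs1, hs2⟩ := ihx
      obtain ⟨t, ht, ht1, ht2⟩ := ihy
      rw [← O_eq_closure hG.nondeg] at hx
      refine ⟨t * s, mul_mem ht hs, fun w hw => ?_, ?_⟩
      · change t (s w) = w
        rw [hs1 w hw, ht1 w hw]
      · have e : x * y * (t * s) = (x * (y * t) * x⁻¹) * (x * s) := by group
        rw [e]
        exact mul_mem (conj_mem_E hx ht2) hs2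
    | inv x hx ih =>
      obtain ⟨s, hs, hs1, hs2⟩ := ih
      rw [← O_eq_closure hG.nondeg] at hx
      refine ⟨s⁻¹, inv_mem hs, fun w hw => ?_, ?_⟩
      · have h1 := hs1 w hw
        have h2 : s⁻¹ (s w) = w := s.symm_apply_apply w
        rwa [h1] at h2
      · have e : x⁻¹ * s⁻¹ = x⁻¹ * (x * s)⁻¹ * x⁻¹⁻¹ := by group
        rw [e]
        exact conj_mem_E (inv_mem hx) (inv_mem hs2)
  exact key g hg

variable {F : CForm K V} {X : Type w} [AddCommGroup X] [Module K X] {F' : CForm K X}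

/-- vectors of given norm perpendicular to two points -/
theorem exists_perp_norm [FiniteDimensional K V] {e f : Fin 3 → V} {j : X →ₗ[K] V} (h : Frm F F' e f j)
    (hT : ∀ x, F.T x = x) (hσ : ∀ x, F.σ x = x) (x y : F.Pt) (t : K) :
    ∃ v, F.Q v = t ∧ (∀ w ∈ x.1, F.B v w = 0) ∧ ∀ w ∈ y.1, F.B v w = 0 := by
  have hs : ∀ i, F.Sing (e i) := fun i => ⟨h.hQe i, h.hee i i⟩
  have hsf : ∀ i, F.Sing (f i) := fun i => ⟨h.hQf i, h.hff i i⟩
  have he0 : ∀ i, e i ≠ 0 := by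
    intro i h0
    have := h.hef i i
    rw [h0, F.B_zero_left, if_pos rfl] at this
    exact zero_ne_one this
  have hf0 : ∀ i, f i ≠ 0 := by
    intro i h0
    have := h.hef i i
    rw [h0, F.B_zero_right, if_pos rfl] at this
    exact zero_ne_one this
  obtain ⟨z, hz⟩ : ∃ z, z = e 2 + t • f 2 := ⟨_, rfl⟩
  have hQz : F.Q z = t := by
    rw [hz, F.Q_add, h.hQe, F.Q_smul, h.hQf, F.B_smul_right, h.hef, if_pos rfl, hT, hσ]
    ring
  have hze : ∀ i, i ≠ 2 → F.B z (e i) = 0 := by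
    intro i hi
    rw [hz, F.B_add_left, h.hee, F.B_smul_left, F.B_eq_zero (show F.B (e i) (f 2) = 0 by rw [h.hef, if_neg hi])]
    ring
  have hzf : ∀ i, i ≠ 2 → F.B z (f i) = 0 := by
    intro i hi
    rw [hz, F.B_add_left, F.B_smul_left, h.hff, h.hef, if_neg (Ne.symm hi)]
    ring
  -- transport
  have key : ∀ (g : F.iso) (a b : V) (ha0 : a ≠ 0) (ha : F.Sing a) (hb0 : b ≠ 0) (hb : F.Sing b),
      g • F.pt a ha0 ha = x → g • F.pt b hb0 hb = y → F.B z a = 0 → F.B z b = 0 →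
      ∃ v, F.Q v = t ∧ (∀ w ∈ x.1, F.B v w = 0) ∧ ∀ w ∈ y.1, F.B v w = 0 := by
    intro g a b ha0 ha hb0 hb hx hy hza hzb
    refine ⟨(g : V ≃ₗ[K] V) z, by rw [F.iso_Q, hQz], fun w hw => ?_, fun w hw => ?_⟩
    · rw [← hx, F.smul_pt] at hw
      obtain ⟨c, rfl⟩ := Submodule.mem_span_singleton.1 hw
      rw [F.B_smul_right, F.iso_B, hza, mul_zero]
    · rw [← hy, F.smul_pt] at hw
      obtain ⟨c, rfl⟩ := Submodule.mem_span_singleton.1 hw
      rw [F.B_smul_right, F.iso_B, hzb, mul_zero]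
  by_cases hp : F.Perp x y
  · by_cases hxy : x = y
    · obtain ⟨g, hg⟩ := F.trans_Om (F.pt (e 0) (he0 0) (hs 0)).2 x.2
      exact key g (e 0) (e 0) (he0 0) (hs 0) (he0 0) (hs 0) (Subtype.ext hg) ((Subtype.ext hg).trans hxy)
        (hze 0 (by decide)) (hze 0 (by decide))
    · have h01 : F.Rel (F.pt (e 0) (he0 0) (hs 0)) (F.pt (e 1) (he0 1) (hs 1)) := by
        refine ⟨fun h1 => ?_, F.perp_pt.2 (h.hee 0 1)⟩
        obtain ⟨c, hc, hc'⟩ := F.pt_eq_iff.1 h1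
        have h2 := h.hef 0 0
        rw [hc', F.B_smul_left, h.hef, if_neg (by decide), if_pos rfl, mul_zero] at h2
        exact zero_ne_one h2
      obtain ⟨g, hg1, hg2⟩ := F.trans_rel h01 ⟨hxy, hp⟩
      exact key g (e 0) (e 1) (he0 0) (hs 0) (he0 1) (hs 1) hg1 hg2 (hze 0 (by decide)) (hze 1 (by decide))
  · have h01 : ¬ F.Perp (F.pt (e 0) (he0 0) (hs 0)) (F.pt (f 0) (hf0 0) (hsf 0)) := by
      rw [F.perp_pt, h.hef, if_pos rfl]
      exact one_ne_zero
    obtain ⟨g, hg1, hg2⟩ := F.trans_opp h01 hp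
    exact key g (e 0) (f 0) (he0 0) (hs 0) (hf0 0) (hsf 0) hg1 hg2 (hze 0 (by decide)) (hzf 0 (by decide))

/-- `F.iso = Ω · Stab(x, y)` -/
theorem om_stab [FiniteDimensional K V] {Q : QuadraticForm K V} (hG : Good Q) (hQ : ∀ v, Q v = F.Q v)
    (hB : ∀ u v, F.B u v = F.Q (u + v) - F.Q u - F.Q v)
    {e f : Fin 3 → V} {j : X →ₗ[K] V} (h : Frm F F' e f j) (hT : ∀ x, F.T x = x) (hσ : ∀ x, F.σ x = x)
    (g : F.iso) (x y : F.Pt) : ∃ k ∈ commutator F.iso, k • x = g • x ∧ k • y = g • y := by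
  have hpol : ∀ u v, QuadraticMap.polar Q u v = F.B u v := fun u v => by
    rw [hB, QuadraticMap.polar, hQ, hQ, hQ]
  have hO : O Q = F.iso := by
    ext k
    constructor
    · intro hk
      have hk' : ∀ v, F.Q (k v) = F.Q v := fun v => by rw [← hQ, ← hQ]; exact hk v
      exact ⟨fun u v => by rw [hB, hB, ← map_add, hk', hk', hk'], hk'⟩
    · intro hk v
      rw [hQ, hQ]
      exact hk.2 v
  have hS : ∀ t : K, ∃ v, Q v = t ∧ ∀ w ∈ x.1 ⊔ y.1, QuadraticMap.polar Q v w = 0 := by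
    intro t
    obtain ⟨v, h1, h2, h3⟩ := exists_perp_norm h hT hσ x y t
    refine ⟨v, by rw [hQ, h1], fun w hw => ?_⟩
    obtain ⟨a, ha, b, hb, rfl⟩ := Submodule.mem_sup.1 hw
    rw [hpol, F.B_add_right, h2 a ha, h3 b hb, add_zero]
  obtain ⟨s, hs, hs1, hs2⟩ := exists_correct hG hS (g := (g : V ≃ₗ[K] V)) (by rw [hO]; exact g.2)
  rw [hO] at hs
  rw [← hG.commutator_eq_E, hO] at hs2
  have h1 : (commutator F.iso).map F.iso.subtype = ⁅F.iso, F.iso⁆ := by
    rw [commutator_def, Subgroup.map_commutator, ← MonoidHom.range_eq_map, Subgroup.range_subtype]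
  rw [← h1] at hs2
  obtain ⟨k, hk, hk'⟩ := hs2
  have hk'' : k = g * ⟨s, hs⟩ := Subtype.ext hk'
  have hfix : ∀ z : F.Pt, z.1 ≤ x.1 ⊔ y.1 → (⟨s, hs⟩ : F.iso) • z = z := by
    intro z hz
    apply Subtype.ext
    rw [F.smul_val]
    apply le_antisymm
    · rintro _ ⟨w, hw, rfl⟩
      change s w ∈ z.1
      rw [hs1 w (hz hw)]
      exact hw
    · intro w hw
      exact ⟨w, hw, hs1 w (hz hw)⟩
  refine ⟨k, hk, ?_, ?_⟩
  · rw [hk'', mul_smul, hfix x le_sup_left]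
  · rw [hk'', mul_smul, hfix y le_sup_right]

end Omega

end CForm

/-! ### `PΩ` -/

/-- from the commutator subgroup of `F.iso` to `PΩ` -/
theorem ch_of_comm {ι : Type} [Fintype ι] [DecidableEq ι] {K : Type u} [Field K] [Finite K] (F : CForm K (ι → K))
    (hB : ∀ u v, F.B u v = F.Q (u + v) - F.Q u - F.Q v)
    (hcen : ∀ z : Omega K F.Q, z ∈ Subgroup.center (Omega K F.Q) → ∃ a : Kˣ, ∀ v, (omMat z).mulVec v = (a : K) • v)
    (χ : IrrCharacter (commutator F.iso)) {a : ℕ} (ha : (χ : commutator F.iso → ℂ) 1 = a)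
    (hker : ∀ x : commutator F.iso, (∀ y : F.Pt, (x : F.iso) • y = y) → (χ : commutator F.iso → ℂ) x = a) :
    Ch (POmega K F.Q) a := by
  have h1 : (Omega K F.Q).map (isoQuad F hB).toMonoidHom = commutator F.iso := by
    change (commutator (isometryGroup K F.Q)).map (isoQuad F hB).toMonoidHom = commutator F.iso
    rw [commutator_def, commutator_def, Subgroup.map_commutator, ← MonoidHom.range_eq_map]
    have : (isoQuad F hB).toMonoidHom.range = ⊤ := MonoidHom.range_eq_top.2 (isoQuad F hB).surjective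
    rw [this]
  let φ : Omega K F.Q →* commutator F.iso :=
    ((isoQuad F hB).toMonoidHom.comp (Omega K F.Q).subtype).codRestrict (commutator F.iso) fun z => by
      rw [← h1]
      exact ⟨z, z.2, rfl⟩
  have hφ : Function.Surjective φ := by
    rintro ⟨y, hy⟩
    rw [← h1] at hy
    obtain ⟨z, hz, hzy⟩ := hy
    exact ⟨⟨z, hz⟩, Subtype.ext hzy⟩
  obtain ⟨η, hη, hη'⟩ := exists_quot (Subgroup.center (Omega K F.Q)) (Core.isIrr_comp φ hφ χ.2) (fun z hz => by
    rw [Function.comp_apply, Function.comp_apply, map_one, ha]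
    refine hker _ fun y => ?_
    obtain ⟨c, hc⟩ := hcen z hz
    apply Subtype.ext
    rw [F.smul_val]
    have h2 : ∀ v, ((isoQuad F hB z : F.iso) : (ι → K) ≃ₗ[K] (ι → K)) v = (c : K) • v := fun v => hc v
    apply le_antisymm
    · rintro _ ⟨w, hw, rfl⟩
      change ((isoQuad F hB z : F.iso) : (ι → K) ≃ₗ[K] (ι → K)) w ∈ y.1
      rw [h2]
      exact y.1.smul_mem _ hw
    · intro w hw
      refine ⟨(c : K)⁻¹ • w, y.1.smul_mem _ hw, ?_⟩
      change ((isoQuad F hB z : F.iso) : (ι → K) ≃ₗ[K] (ι → K)) ((c : K)⁻¹ • w) = w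
      rw [h2, smul_smul, mul_inv_cancel₀ c.ne_zero, one_smul])
  refine ⟨η, hη, ?_⟩
  rw [← ha]
  have := hη' 1
  rw [Function.comp_apply, map_one] at this
  exact this

theorem card_Sing_quad {K : Type u} [Field K] {V : Type v} [AddCommGroup V] [Module K V] (F : CForm K V) :
    Nat.card {v : V // F.Sing v} = Nat.card {v : V // F.Q v = 0} :=
  Nat.card_congr (Equiv.subtypeEquivRight fun v => ⟨fun h => h.1, fun h => ⟨h, F.alt v h⟩⟩)

theorem num_plus {Q : ℕ} (hQ : 2 ≤ Q) (n : ℕ) :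
    Q ^ (2 * (n + 1) - 1) + Q ^ (n + 1) - Q ^ n = (Q ^ (n + 1) - 1) * (Q ^ n + 1) + 1 := by
  have e2 : 2 * (n + 1) - 1 = n + 1 + n := by omega
  have h1 : Q ^ n ≤ Q ^ (n + 1) := Nat.pow_le_pow_right (by omega) (by omega)
  have h2 : 1 ≤ Q ^ n := Nat.one_le_pow _ _ (by omega)
  obtain ⟨t, ht⟩ : ∃ t, Q ^ (n + 1) = t + 1 := ⟨Q ^ (n + 1) - 1, by omega⟩
  rw [e2, pow_add Q (n + 1) n, ht, Nat.add_sub_cancel]
  have : (t + 1) * Q ^ n + (t + 1) = (t * (Q ^ n + 1) + 1) + Q ^ n := by ring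
  omega

theorem num_minus {Q : ℕ} (hQ : 2 ≤ Q) (n : ℕ) :
    Q ^ (2 * (n + 1) - 1) + Q ^ n - Q ^ (n + 1) = (Q ^ n - 1) * (Q ^ (n + 1) + 1) + 1 := by
  have e2 : 2 * (n + 1) - 1 = n + (n + 1) := by omega
  have h2 : 1 ≤ Q ^ n := Nat.one_le_pow _ _ (by omega)
  obtain ⟨t, ht⟩ : ∃ t, Q ^ n = t + 1 := ⟨Q ^ n - 1, by omega⟩
  rw [e2, pow_add Q n (n + 1), ht, Nat.add_sub_cancel]
  have : (t + 1) * Q ^ (n + 1) + (t + 1) = (t * (Q ^ (n + 1) + 1) + 1) + Q ^ (n + 1) := by ring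
  omega

theorem num_odd {Q : ℕ} (hQ : 2 ≤ Q) (n : ℕ) : Q ^ (2 * n) = (Q ^ n - 1) * (Q ^ n + 1) + 1 := by
  have h2 : 1 ≤ Q ^ n := Nat.one_le_pow _ _ (by omega)
  obtain ⟨t, ht⟩ : ∃ t, Q ^ n = t + 1 := ⟨Q ^ n - 1, by omega⟩
  rw [two_mul, pow_add, ht, Nat.add_sub_cancel]
  ring

theorem two_le_pow {Q : ℕ} (hQ : 2 ≤ Q) {n : ℕ} (hn : 0 < n) : 2 ≤ Q ^ n :=
  hQ.trans (by
    calc Q = Q ^ 1 := (pow_one Q).symm
      _ ≤ Q ^ n := Nat.pow_le_pow_right (by omega) hn)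

section rows

variable (K : Type u) [Field K] [Finite K]

/-- **`PΩ⁺_{2m}(q)`** -/
theorem rk3_plus {m : ℕ} (hm : 4 ≤ m) : ∃ a b : ℕ, Ch (POmega K (quadFormPlus m K)) a ∧
    Ch (POmega K (quadFormPlus m K)) b ∧
    ((Nat.card K : ℤ) ^ 2 - 1) * a = Nat.card K * (Nat.card K ^ (m - 2) + 1) * ((Nat.card K : ℤ) ^ m - 1) ∧
    ((Nat.card K : ℤ) ^ 2 - 1) * b = Nat.card K ^ 2 * ((Nat.card K : ℤ) ^ (2 * m - 2) - 1) := by
  classical
  have hfin := Fintype.ofFinite K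
  have hq : 2 ≤ Nat.card K := Finite.one_lt_card
  obtain ⟨n, rfl⟩ : ∃ n, m = n + 2 := ⟨m - 2, by omega⟩
  obtain ⟨e, f, j, h⟩ := CForm.frm_plus (K := K) (show 1 + (n + 1) = n + 2 by omega)
  obtain ⟨e3, f3, j3, h3⟩ := CForm.frm_plus (K := K) (show 3 + (n - 1) = n + 2 by omega)
  have hc : Fintype.card K = Nat.card K := Nat.card_eq_fintype_card.symm
  have hG : LieClassical.OrthTrans.Good (LieClassical.OrthForms.plusForm (n + 2) K) := by
    apply LieClassical.OrthFinite.good_of_finite (LieClassical.OrthForms.nondeg_plusForm (n + 2) K)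
    rw [Module.finrank_fintype_fun_eq_card, Fintype.card_sum, Fintype.card_fin]
    omega
  have hstab := CForm.om_stab (F := CForm.plusF K (n + 2)) (F' := CForm.plusF K (n - 1)) hG
    (fun v => congrFun (LieClassical.OrthForms.coe_plusForm (n + 2) K) v) (plus_hB K (n + 2)) h3 (fun _ => rfl)
    (fun _ => rfl)
  obtain ⟨χ₁, χ₂, a, b, c1, c2, c3, c4, c5⟩ := CForm.exists_chars_of h.hyp (P := Nat.card K ^ (n + 1))
    (P' := Nat.card K ^ n) (two_le_pow hq (by omega)) (Nat.one_le_pow _ _ (by omega))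
    (by
      rw [card_Sing_quad, ← num_plus hq n]
      exact S0289.result hc (n + 1) (by omega))
    (by
      rw [card_Sing_quad, ← pow_succ', ← pow_succ', ← num_plus hq (n + 1)]
      exact S0289.result hc (n + 2) (by omega))
    (commutator _) hstab
  refine ⟨a, b, ch_of_comm (CForm.plusF K (n + 2)) (plus_hB K (n + 2)) (fun z hz => ?_) χ₁ c1 (fun x hx => (c5 x hx).1),
    ch_of_comm (CForm.plusF K (n + 2)) (plus_hB K (n + 2)) (fun z hz => ?_) χ₂ c2 (fun x hx => (c5 x hx).2), ?_, ?_⟩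
  · obtain ⟨c, -, hc⟩ := scal_of (cen_plus K (by omega) z hz)
    exact ⟨c, hc⟩
  · obtain ⟨c, -, hc⟩ := scal_of (cen_plus K (by omega) z hz)
    exact ⟨c, hc⟩
  · have hz : ((Nat.card K : ℤ) ^ n) ≠ 0 := pow_ne_zero _ (by exact_mod_cast (by omega : Nat.card K ≠ 0))
    apply mul_left_cancel₀ hz
    have e2 : n + 2 - 2 = n := by omega
    rw [e2]
    push_cast at c3
    linear_combination c3
  · have hz : ((Nat.card K : ℤ) ^ n) ≠ 0 := pow_ne_zero _ (by exact_mod_cast (by omega : Nat.card K ≠ 0))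
    apply mul_left_cancel₀ hz
    have e2 : 2 * (n + 2) - 2 = (n + 1) + (n + 1) := by omega
    rw [e2]
    push_cast at c4
    linear_combination c4

/-- **`PΩ⁻_{2l+2}(q)`** -/
theorem rk3_minus (a b : K) (hab : ∀ z₁ z₂ : K, z₁ ^ 2 + a * z₁ * z₂ + b * z₂ ^ 2 = 0 → z₁ = 0 ∧ z₂ = 0) {l : ℕ}
    (hl : 3 ≤ l) : ∃ s t : ℕ, Ch (POmega K (quadFormMinus l K a b)) s ∧
    Ch (POmega K (quadFormMinus l K a b)) t ∧
    ((Nat.card K : ℤ) ^ 2 - 1) * s = Nat.card K ^ 2 * ((Nat.card K : ℤ) ^ (2 * l) - 1) ∧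
    ((Nat.card K : ℤ) ^ 2 - 1) * t = Nat.card K * (Nat.card K ^ (l + 1) + 1) * ((Nat.card K : ℤ) ^ (l - 1) - 1) := by
  classical
  have hfin := Fintype.ofFinite K
  have hq : 2 ≤ Nat.card K := Finite.one_lt_card
  obtain ⟨n, rfl⟩ : ∃ n, l = n + 1 := ⟨l - 1, by omega⟩
  obtain ⟨e, f, j, h⟩ := CForm.frm_minus (K := K) hab (show 1 + n = n + 1 by omega)
  obtain ⟨e3, f3, j3, h3⟩ := CForm.frm_minus (K := K) hab (show 3 + (n - 2) = n + 1 by omega)
  have hc : Fintype.card K = Nat.card K := Nat.card_eq_fintype_card.symm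
  have hG : LieClassical.OrthTrans.Good (LieClassical.OrthForms.minusForm (n + 1) K a b) := by
    apply LieClassical.OrthFinite.good_of_finite (LieClassical.OrthForms.nondeg_minusForm (n + 1) K a b hab)
    rw [Module.finrank_fintype_fun_eq_card, Fintype.card_sum, Fintype.card_sum, Fintype.card_fin, Fintype.card_fin]
    omega
  have hstab := CForm.om_stab (F := CForm.minusF K (n + 1) a b hab) (F' := CForm.minusF K (n - 2) a b hab) hG
    (fun v => congrFun (LieClassical.OrthForms.coe_minusForm (n + 1) K a b) v) (minus_hB K (n + 1) a b hab) h3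
    (fun _ => rfl) (fun _ => rfl)
  obtain ⟨χ₁, χ₂, s, t, c1, c2, c3, c4, c5⟩ := CForm.exists_chars_of h.hyp (P := Nat.card K ^ n)
    (P' := Nat.card K ^ (n + 1)) (two_le_pow hq (by omega)) (Nat.one_le_pow _ _ (by omega))
    (by
      rw [card_Sing_quad, ← num_minus hq n]
      exact S0290.result hc (n + 1) (by omega) a b hab)
    (by
      rw [card_Sing_quad, ← pow_succ', ← pow_succ', ← num_minus hq (n + 1)]
      exact S0290.result hc (n + 2) (by omega) a b hab)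
    (commutator _) hstab
  refine ⟨s, t, (ch_of_comm (CForm.minusF K (n + 1) a b hab) (minus_hB K (n + 1) a b hab) (fun z hz => ?_) χ₁ c1
    (fun x hx => (c5 x hx).1) :),
    (ch_of_comm (CForm.minusF K (n + 1) a b hab) (minus_hB K (n + 1) a b hab) (fun z hz => ?_) χ₂ c2
    (fun x hx => (c5 x hx).2) :), ?_, ?_⟩
  · obtain ⟨c, -, hc⟩ := scal_of (cen_minus K (by omega) a b hab z hz)
    exact ⟨c, hc⟩
  · obtain ⟨c, -, hc⟩ := scal_of (cen_minus K (by omega) a b hab z hz)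
    exact ⟨c, hc⟩
  · have hz : ((Nat.card K : ℤ) ^ n) ≠ 0 := pow_ne_zero _ (by exact_mod_cast (by omega : Nat.card K ≠ 0))
    apply mul_left_cancel₀ hz
    have e2 : 2 * (n + 1) = (n + 1) + (n + 1) := by omega
    rw [e2]
    push_cast at c3
    linear_combination c3
  · have hz : ((Nat.card K : ℤ) ^ n) ≠ 0 := pow_ne_zero _ (by exact_mod_cast (by omega : Nat.card K ≠ 0))
    apply mul_left_cancel₀ hz
    have e2 : n + 1 - 1 = n := by omega
    rw [e2]
    push_cast at c4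
    linear_combination c4

/-- **`PΩ_{2m+1}(q)`** -/
theorem rk3_odd (h2 : (2 : K) ≠ 0) (ho : Odd (Nat.card K)) {m : ℕ}
    (hm : 3 ≤ m) : ∃ s t : ℕ, Ch (POmega K (quadFormOdd m K)) s ∧ Ch (POmega K (quadFormOdd m K)) t ∧
    2 * ((Nat.card K : ℤ) - 1) * s = Nat.card K * (Nat.card K ^ (m - 1) + 1) * ((Nat.card K : ℤ) ^ m - 1) ∧
    2 * ((Nat.card K : ℤ) - 1) * t = Nat.card K * (Nat.card K ^ (m - 1) - 1) * ((Nat.card K : ℤ) ^ m + 1) := by
  classical
  have hfin := Fintype.ofFinite K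
  have hq : 2 ≤ Nat.card K := Finite.one_lt_card
  obtain ⟨p, hp⟩ := CharP.exists K
  have hpr : p.Prime := (CharP.char_is_prime_or_zero K p).resolve_right (CharP.char_ne_zero_of_finite K p)
  have : Fact p.Prime := ⟨hpr⟩
  obtain ⟨-, hcen⟩ := odd_idx K (p := p) ho hm
  obtain ⟨n, rfl⟩ : ∃ n, m = n + 1 := ⟨m - 1, by omega⟩
  obtain ⟨e, f, j, h⟩ := CForm.frm_odd (K := K) h2 (show 1 + n = n + 1 by omega)
  obtain ⟨e3, f3, j3, h3⟩ := CForm.frm_odd (K := K) h2 (show 3 + (n - 2) = n + 1 by omega)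
  have hc : Fintype.card K = Nat.card K := Nat.card_eq_fintype_card.symm
  have hG : LieClassical.OrthTrans.Good (LieClassical.OrthForms.oddForm (n + 1) K) := by
    apply LieClassical.OrthFinite.good_of_finite (LieClassical.OrthForms.nondeg_oddForm (n + 1) K h2)
    rw [Module.finrank_fintype_fun_eq_card, Fintype.card_sum, Fintype.card_sum, Fintype.card_fin, Fintype.card_unit]
    omega
  have hstab := CForm.om_stab (F := CForm.oddF K (n + 1) h2) (F' := CForm.oddF K (n - 2) h2) hG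
    (fun v => congrFun (LieClassical.OrthForms.coe_oddForm (n + 1) K) v) (odd_hB K (n + 1) h2) h3
    (fun _ => rfl) (fun _ => rfl)
  obtain ⟨χ₁, χ₂, s, t, c1, c2, c3, c4, c5⟩ := CForm.exists_chars_of h.hyp (P := Nat.card K ^ n)
    (P' := Nat.card K ^ n) (two_le_pow hq (by omega)) (Nat.one_le_pow _ _ (by omega))
    (by
      rw [card_Sing_quad, ← num_odd hq n]
      exact S0291.result hc ho n)
    (by
      rw [card_Sing_quad, ← pow_succ', ← num_odd hq (n + 1)]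
      exact S0291.result hc ho (n + 1))
    (commutator _) hstab
  have hcen' : ∀ z : Omega K (quadFormOdd (n + 1) K), z ∈ Subgroup.center (Omega K (quadFormOdd (n + 1) K)) →
      ∃ a : Kˣ, ∀ v, (omMat z).mulVec v = (a : K) • v := by
    intro z hz
    refine ⟨1, fun v => ?_⟩
    rw [hcen z hz]
    change (1 : Matrix _ _ K).mulVec v = _
    rw [Matrix.one_mulVec, Units.val_one, one_smul]
  refine ⟨s, t, (ch_of_comm (CForm.oddF K (n + 1) h2) (odd_hB K (n + 1) h2) hcen' χ₁ c1 (fun x hx => (c5 x hx).1) :),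
    (ch_of_comm (CForm.oddF K (n + 1) h2) (odd_hB K (n + 1) h2) hcen' χ₂ c2 (fun x hx => (c5 x hx).2) :), ?_, ?_⟩
  · have hz : ((Nat.card K : ℤ) ^ n) ≠ 0 := pow_ne_zero _ (by exact_mod_cast (by omega : Nat.card K ≠ 0))
    apply mul_left_cancel₀ hz
    have e2 : n + 1 - 1 = n := by omega
    rw [e2]
    push_cast at c3
    linear_combination c3
  · have hz : ((Nat.card K : ℤ) ^ n) ≠ 0 := pow_ne_zero _ (by exact_mod_cast (by omega : Nat.card K ≠ 0))
    apply mul_left_cancel₀ hz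
    have e2 : n + 1 - 1 = n := by omega
    rw [e2]
    push_cast at c4
    linear_combination c4

end rows

end Cfsg.Agent.H477.HC
end

-- part: H477/HC/NPO
section
prune_inst 0x2100744530c0000000040580010020614500019000208001e14402460a018142800009000e801100004022001040000811000000420000000a00000000000020800344008208030c2c0007801080000000000000000000000000000000000004000000000
set_option linter.all false
open scoped Cfsg.Agent.FastGrp

-- part: H477/HC/NP
section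
/-!
# Two primes different from the characteristic are adjacent (hub H5, helper477)

`np_sp`, `np_odd`, `np_plus`, `np_minus`, apart from small cases.
-/

set_option autoImplicit false

open scoped ComplexConjugate
open Cfsg

namespace Cfsg.Agent.H477.HC

open Cfsg.Agent.Characters Module Cfsg.Agent.H53.HC Cfsg.Agent.H671.H5

universe u v w

section

variable (K : Type u) [Field K] [Finite K] {p : ℕ} [Fact p.Prime] [CharP K p]

omit [Finite K] in
theorem ne_card [Finite K] {r : ℕ} (hr : r.Prime) (hrp : r ≠ p) : ¬ r ∣ Nat.card K := by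
  obtain ⟨s, hs⟩ := card_pow K p
  rw [hs]; intro h
  exact hrp ((Nat.prime_dvd_prime_iff_eq hr (Fact.out : p.Prime)).1 (hr.dvd_of_dvd_pow h))

/-- removing the power of `p` -/
theorem rm_p {r e M d : ℕ} (hr : r.Prime) (hrp : r ≠ p) (h : r ∣ M) (h' : M ∣ p ^ e * d) : r ∣ d := by
  have := prime_pow_dvd (t := 1) hr (Fact.out : p.Prime) hrp (by rw [pow_one]; exact h.trans h')
  rwa [pow_one] at this

theorem sp_prod {m r : ℕ} (hr : r.Prime) (hrp : r ≠ p) (hd : r ∣ Nat.card (PSp m K)) :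
    r ∣ ∏ i ∈ Finset.range m, (Nat.card K ^ (2 * (i + 1)) - 1) := by
  have hd1 : r ∣ Nat.card (Matrix.symplecticGroup (Fin m) K) := hd.trans (Subgroup.card_quotient_dvd_card _)
  rw [Nat.card_congr (isoSp m K).toEquiv, card_spF] at hd1
  exact (hr.dvd_mul.1 hd1).resolve_left fun h => ne_card K (p := p) hr hrp (hr.dvd_of_dvd_pow h)

/-- the top character of `PSp` -/
theorem sp_ch_top {m : ℕ} (hm : 2 ≤ m) (h1 : m = 2 → 4 ≤ Nat.card K) :
    ∃ d, Ch (PSp m K) d ∧ ∀ r : ℕ, r.Prime → r ≠ p → r ∣ P1 (Nat.card K) m → r ∣ d := by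
  have hq2 : 2 ≤ Nat.card K := Finite.one_lt_card
  obtain ⟨c, hc⟩ := exists_cus_sq K rfl m (by omega) (fun h => by
    by_contra h'
    have := h1 (by omega)
    omega) (fun h => by
    by_contra h'
    have := h1 (by omega)
    omega) (fun h => by omega)
  obtain ⟨χ, hχ, hχ1⟩ := psp_char (k := m) (n := 0) hc (one_pow 2) (neg_one_sq)
  obtain ⟨e, he⟩ := psp_dvd_top K (p := p) (m := m) (by omega)
  exact ⟨_, ⟨χ, hχ, hχ1⟩, fun r hr hrp h => rm_p (p := p) hr hrp h he⟩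

/-- the second character of `PSp` -/
theorem sp_ch_two {m : ℕ} (hm3 : 3 ≤ m) (h2 : Nat.card K = 2 → 4 ≤ m) (h3 : Nat.card K = 3 → 4 ≤ m) :
    ∃ d, Ch (PSp m K) d ∧ ∀ r : ℕ, r.Prime → r ≠ p → r ∣ P2 (Nat.card K) m → r ∣ d := by
  have hq2 : 2 ≤ Nat.card K := Finite.one_lt_card
  obtain ⟨c, hc⟩ := exists_cus_sq K rfl (m - 1) (by omega) (fun h => by have := h2 h; omega)
    (fun h => by have := h3 h; omega) (fun h => by omega)
  obtain ⟨χ, hχ, hχ1⟩ := psp_char (k := m - 1) (n := 1) hc (one_pow 2) (neg_one_sq)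
  obtain ⟨e, he⟩ := bc_key hm3 hq2 (psp_dvd K (p := p) (k := m - 1) (n := 1) (by omega))
  have hm1 : m - 1 + 1 = m := by omega
  refine ⟨dg (CForm.spF K (m - 1 + 1)) (m - 1), ?_, fun r hr hrp h => rm_p (p := p) hr hrp h he⟩
  have h5 : Ch (PSp (m - 1 + 1) K) (dg (CForm.spF K (m - 1 + 1)) (m - 1)) := ⟨χ, hχ, hχ1⟩
  generalize dg (CForm.spF K (m - 1 + 1)) (m - 1) = D at h5
  rwa [hm1] at h5

/-- **`PSp`** -/
theorem np_sp {m : ℕ} (hm : 2 ≤ m) (h1 : m = 2 → 4 ≤ Nat.card K) {r s : ℕ} (hr : r.Prime) (hs : s.Prime)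
    (hrp : r ≠ p) (hsp : s ≠ p) (hrs : r ≠ s) (hd : r ∣ Nat.card (PSp m K)) (hd' : s ∣ Nat.card (PSp m K))
    (h2 : m = 3 → Nat.card K = 2 → r ≠ 7 ∧ s ≠ 7) (h3 : m = 3 → Nat.card K = 3 → r ≠ 13 ∧ s ≠ 13) :
    Adj r s (PSp m K) := by
  rcases bc_cases hm hr hs (sp_prod K (p := p) hr hrp hd) (sp_prod K (p := p) hs hsp hd') with
    ⟨h4, h5⟩ | ⟨h4, h5, h6, h7, h8⟩
  · obtain ⟨d, hd1, hd2⟩ := sp_ch_top K (p := p) hm h1
    exact adj_of_ch hd1 hr hs hrs (hd2 r hr hrp h4) (hd2 s hs hsp h5)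
  · have h7' : ∀ {r : ℕ}, r.Prime → m = 3 → Nat.card K = 2 → r ∣ Nat.card K ^ m - 1 → r = 7 := by
      intro r hr hm3 hq h
      rw [hm3, hq] at h
      exact (Nat.prime_dvd_prime_iff_eq hr (by norm_num)).1 (by norm_num at h; exact h)
    have h13 : ∀ {r : ℕ}, r.Prime → m = 3 → Nat.card K = 3 → r ∣ Nat.card K ^ m - 1 → ¬ r ∣ P1 (Nat.card K) m →
        r = 13 := by
      intro r hr hm3 hq h h'
      rw [hm3, hq] at h h'
      have h5 : r ∣ 2 * 13 := by norm_num at h; exact h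
      rcases hr.dvd_mul.1 h5 with h6 | h6
      · exfalso
        have h7 : r = 2 := (Nat.prime_dvd_prime_iff_eq hr Nat.prime_two).1 h6
        apply h'
        rw [h7]
        exact Dvd.dvd.mul_right (by norm_num) _
      · exact (Nat.prime_dvd_prime_iff_eq hr (by norm_num)).1 h6
    obtain ⟨d, hd1, hd2⟩ := sp_ch_two K (p := p) h5 (fun hq => by
      by_contra h
      have hm3 : m = 3 := by omega
      obtain ⟨h9, h10⟩ := h2 hm3 hq
      rcases h8 with h8 | h8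
      · exact h9 (h7' hr hm3 hq h8.1)
      · exact h10 (h7' hs hm3 hq h8.1)) (fun hq => by
      by_contra h
      have hm3 : m = 3 := by omega
      obtain ⟨h9, h10⟩ := h3 hm3 hq
      rcases h8 with h8 | h8
      · exact h9 (h13 hr hm3 hq h8.1 h8.2)
      · exact h10 (h13 hs hm3 hq h8.1 h8.2))
    exact adj_of_ch hd1 hr hs hrs (hd2 r hr hrp h6) (hd2 s hs hsp h7)

/-! ### odd dimension -/

include p in
theorem odd_ch {m k n : ℕ} (hkn : k + n = m) (ho : Odd (Nat.card K)) (h2 : (2 : K) ≠ 0) (hm : 3 ≤ m) (hk : 2 ≤ k) :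
    ∃ e, Ch (POmega K (quadFormOdd m K)) e ∧ (∀ t a : ℕ, t.Prime → t ≠ 2 → t ^ a ∣ dg (CForm.oddF K (k + n) h2) k → t ^ a ∣ e) ∧
      ∀ a, 2 ^ (a + 3) ∣ dg (CForm.oddF K (k + n) h2) k → 2 ^ a ∣ e := by
  subst hkn
  have hq3 : 3 ≤ Nat.card K := by
    have : 1 < Nat.card K := Finite.one_lt_card
    rcases ho with ⟨j, hj⟩; omega
  obtain ⟨hidx, hcen⟩ := odd_idx K (p := p) ho hm
  obtain ⟨c, hc⟩ := exists_cus_one (K := K) rfl k (by omega) (by
    have : Nat.card K ^ 2 ≤ Nat.card K ^ k := Nat.pow_le_pow_right (by omega) hk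
    nlinarith only [hq3, this]) (by rintro ⟨h3, -⟩; omega)
  obtain ⟨⟨W₀, hW₀⟩, -⟩ := CForm.oddF_frame (K := K) (p := p) h2 k n
  exact om_ch (CForm.oddF K (k + n) h2) (odd_hB K (k + n) h2) hW₀ hc (fun z hz => ⟨1, one_pow 1, fun v => by
    rw [hcen z hz]
    change (1 : Matrix _ _ K).mulVec v = _
    rw [Matrix.one_mulVec, Units.val_one, one_smul]⟩) (by
      change (Omega K (quadFormOdd (k + n) K)).index ∣ 8
      rw [hidx]; norm_num)

theorem odd_prod {m r : ℕ} (ho : Odd (Nat.card K)) (hr : r.Prime) (hrp : r ≠ p) (hr2 : r ≠ 2)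
    (hd : r ∣ Nat.card (POmega K (quadFormOdd m K))) :
    r ∣ ∏ i ∈ Finset.range m, (Nat.card K ^ (2 * (i + 1)) - 1) := by
  have h2 := two_ne_zero_of_odd (K := K) (p := p) ho
  have hd1 : r ∣ Nat.card (isometryGroup K (quadFormOdd m K)) :=
    hd.trans ((Subgroup.card_quotient_dvd_card _).trans (Subgroup.card_subgroup_dvd_card _))
  have hd2 : r ∣ Nat.card (CForm.oddF K m h2).iso := by
    rwa [← Nat.card_congr (isoQuad (CForm.oddF K m h2) (odd_hB K m h2)).toEquiv]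
  rw [card_oddF K h2 ho] at hd2
  rcases hr.dvd_mul.1 hd2 with h | h
  · rcases hr.dvd_mul.1 h with h' | h'
    · exact absurd ((Nat.prime_dvd_prime_iff_eq hr Nat.prime_two).1 h') hr2
    · exact absurd (hr.dvd_of_dvd_pow h') (ne_card K (p := p) hr hrp)
  · exact h

end

/-- powers of two: `q² - 1`, `q⁴ - 1` -/
theorem two_pow_sq {q : ℕ} (hq : Odd q) : 2 ^ 3 ∣ q ^ 2 - 1 := by
  have : 8 ∣ q ^ 2 - 1 := Nat.eight_dvd_sq_sub_one_of_odd hq
  simpa only [_root_.Nat.reducePow] using this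

theorem two_pow_four {q : ℕ} (hq : Odd q) : 2 ^ 4 ∣ q ^ 4 - 1 := by
  have h1 : q ^ 4 - 1 = (q ^ 2 + 1) * (q ^ 2 - 1) := sq_sub q 2
  rw [h1, show (2 : ℕ) ^ 4 = 2 * 2 ^ 3 by norm_num]
  exact Nat.mul_dvd_mul (hq.pow (n := 2)).add_one.two_dvd (two_pow_sq hq)

theorem two_P1 {q m : ℕ} (hq : Odd q) (hm : 3 ≤ m) : 2 ^ 7 ∣ P1 q m := by
  refine Dvd.dvd.mul_left ?_ _
  rw [← Finset.prod_range_mul_prod_Ico _ (show 2 ≤ m - 1 by omega), Finset.prod_range_succ, Finset.prod_range_one]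
  refine Dvd.dvd.mul_right ?_ _
  rw [show (2 : ℕ) ^ 7 = 2 ^ 3 * 2 ^ 4 by norm_num]
  exact Nat.mul_dvd_mul (two_pow_sq hq) (two_pow_four hq)

theorem two_P2 {q m : ℕ} (hq : Odd q) : 2 ^ 4 ∣ P2 q m := by
  unfold P2
  refine Dvd.dvd.mul_right ?_ _
  rw [show (2 : ℕ) ^ 4 = 2 * 2 ^ 3 by norm_num]
  refine Nat.mul_dvd_mul (hq.pow (n := m - 1)).add_one.two_dvd ?_
  exact (two_pow_sq hq).trans (pow_sub_one_dvd q ⟨m, rfl⟩)

section

variable (K : Type u) [Field K] [Finite K] {p : ℕ} [Fact p.Prime] [CharP K p]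

/-- **`Ω_{2m+1}(q)`** -/
theorem np_odd {m : ℕ} (ho : Odd (Nat.card K)) (hm : 3 ≤ m) {r s : ℕ} (hr : r.Prime) (hs : s.Prime)
    (hrp : r ≠ p) (hsp : s ≠ p) (hrs : r ≠ s) (hd : r ∣ Nat.card (POmega K (quadFormOdd m K)))
    (hd' : s ∣ Nat.card (POmega K (quadFormOdd m K))) : Adj r s (POmega K (quadFormOdd m K)) := by
  have hp : p.Prime := Fact.out
  have h2 := two_ne_zero_of_odd (K := K) (p := p) ho
  have hp2 : p ≠ 2 := char_ne_two_of_odd (K := K) ho
  have hq2 : 2 ≤ Nat.card K := Finite.one_lt_card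
  have hpr : ∀ {r : ℕ}, r.Prime → r ≠ p → r ∣ Nat.card (POmega K (quadFormOdd m K)) →
      r ∣ ∏ i ∈ Finset.range m, (Nat.card K ^ (2 * (i + 1)) - 1) := by
    intro r hr hrp hd
    by_cases hr2 : r = 2
    · subst hr2
      exact dvd_prod_idx (i := 0) (Finset.mem_range.2 (by omega))
        ((dvd_pow_self 2 (by norm_num : 3 ≠ 0)).trans (two_pow_sq ho))
    · exact odd_prod K (p := p) ho hr hrp hr2 hd
  have key : ∀ (k n M : ℕ) (hkn : k + n = m) (hk : 2 ≤ k) (hM : ∃ e, M ∣ p ^ e * dg (CForm.oddF K (k + n) h2) k)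
      (h16 : 2 ^ 4 ∣ M) (h5 : r ∣ M) (h6 : s ∣ M), Adj r s (POmega K (quadFormOdd m K)) := by
    intro k n M hkn hk hM h16 h5 h6
    obtain ⟨e, he⟩ := hM
    obtain ⟨d, hd1, hd2, hd3⟩ := odd_ch K (p := p) hkn ho h2 hm hk
    have h7 : ∀ r : ℕ, r.Prime → r ≠ p → r ∣ M → r ∣ d := by
      intro r hr hrp h
      by_cases hr2 : r = 2
      · have := hd3 1 (prime_pow_dvd Nat.prime_two hp hp2.symm (h16.trans he))
        rwa [hr2, ← pow_one 2]
      · have := hd2 r 1 hr hr2 (by rw [pow_one]; exact rm_p (p := p) hr hrp h he)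
        rwa [pow_one] at this
    exact adj_of_ch hd1 hr hs hrs (h7 r hr hrp h5) (h7 s hs hsp h6)
  rcases bc_cases (by omega) hr hs (hpr hr hrp hd) (hpr hs hsp hd') with ⟨h4, h5⟩ | ⟨h4, h5, h6, h7, -⟩
  · exact key m 0 _ (Nat.add_zero m) (by omega) (odd_dvd_top K h2 ho (p := p) (m := m) (by omega))
      ((pow_dvd_pow 2 (by norm_num)).trans (two_P1 ho hm)) h4 h5
  · exact key (m - 1) 1 _ (by omega) (by omega) (bc_key h5 hq2 (odd_dvd K h2 ho (p := p) (k := m - 1) (n := 1) (by omega)))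
      (two_P2 ho) h6 h7

end

end Cfsg.Agent.H477.HC
end

-- part: H477/HC/NPO
section
/-!
# Two primes different from the characteristic are adjacent: `PΩ⁺`, `PΩ⁻` (hub H5, helper477)
-/

set_option autoImplicit false

open scoped ComplexConjugate
open Cfsg

namespace Cfsg.Agent.H477.HC

open Cfsg.Agent.Characters Module Cfsg.Agent.H53.HC Cfsg.Agent.H671.H5

universe u v w

section arith

variable {q m l r s : ℕ}

/-- the first product, type `D` -/
def D1 (q m : ℕ) : ℕ := ∏ i ∈ Finset.range (m - 1), (q ^ (2 * (i + 1)) - 1)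

/-- the second product, type `D` -/
def D2 (q m : ℕ) : ℕ := (q ^ m - 1) * (q + 1) * (q ^ (m - 1) + 1) * ∏ i ∈ Finset.Ico 1 (m - 2), (q ^ (2 * (i + 1)) - 1)

theorem d_two (hm : Odd m) (hm4 : 4 ≤ m) (hs : s.Prime) (h : s ∣ (q ^ m - 1) * D1 q m) : s ∣ D2 q m := by
  obtain ⟨j, hj⟩ := hm
  rcases hs.dvd_mul.1 h with h1 | h1
  · exact Dvd.dvd.mul_right (Dvd.dvd.mul_right (Dvd.dvd.mul_right h1 _) _) _
  obtain ⟨i, hi, h2⟩ := exists_idx hs h1
  rw [Finset.mem_range] at hi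
  have hmid : ∀ i, i ≤ m - 3 → s ∣ q ^ (2 * (i + 1)) - 1 → s ∣ D2 q m := by
    intro i hi h2
    rcases Nat.eq_zero_or_pos i with rfl | h0
    · exact Dvd.dvd.mul_left (dvd_prod_idx (i := 1) (Finset.mem_Ico.2 ⟨le_rfl, by omega⟩)
        (h2.trans (pow_sub_one_dvd q ⟨2, by norm_num⟩))) _
    · exact Dvd.dvd.mul_left (dvd_prod_idx (Finset.mem_Ico.2 ⟨h0, by omega⟩) h2) _
  rcases Nat.lt_or_ge i (m - 2) with h3 | h3
  · exact hmid i (by omega) h2
  · have h5 : i + 1 = m - 1 := by omega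
    rw [h5, sq_sub] at h2
    rcases hs.dvd_mul.1 h2 with h6 | h6
    · exact Dvd.dvd.mul_right (Dvd.dvd.mul_left h6 _) _
    · refine hmid (j - 1) (by omega) ?_
      have h7 : 2 * (j - 1 + 1) = m - 1 := by omega
      rwa [h7]

theorem d_odd (h : r ∣ q ^ m - 1) (h1 : ¬ r ∣ D1 q m) (hm : 2 ≤ m) : Odd m := by
  by_contra h2
  rw [Nat.not_odd_iff_even] at h2
  obtain ⟨j, hj⟩ := h2
  apply h1
  refine dvd_prod_idx (i := j - 1) (Finset.mem_range.2 (by omega)) ?_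
  have h4 : 2 * (j - 1 + 1) = m := by omega
  rwa [h4]

/-- two primes, type `D` -/
theorem d_cases (hm : 4 ≤ m) (hr : r.Prime) (hs : s.Prime) (h : r ∣ (q ^ m - 1) * D1 q m)
    (h' : s ∣ (q ^ m - 1) * D1 q m) :
    (r ∣ D1 q m ∧ s ∣ D1 q m) ∨ (Odd m ∧ r ∣ D2 q m ∧ s ∣ D2 q m) := by
  by_cases h1 : r ∣ D1 q m
  · by_cases h2 : s ∣ D1 q m
    · exact Or.inl ⟨h1, h2⟩
    · have h4 := d_odd ((hs.dvd_mul.1 h').resolve_right h2) h2 (by omega)
      exact Or.inr ⟨h4, d_two h4 hm hr h, d_two h4 hm hs h'⟩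
  · have h4 := d_odd ((hr.dvd_mul.1 h).resolve_right h1) h1 (by omega)
    exact Or.inr ⟨h4, d_two h4 hm hr h, d_two h4 hm hs h'⟩

theorem d_key (hm : 4 ≤ m) (hq : 2 ≤ q) {p d : ℕ}
    (h : ∃ e, (q ^ (m - 1 + 1) - 1) * (q ^ 1 + 1) * ∏ i ∈ Finset.Ico 1 (m - 1 + 1 - 1), (q ^ (2 * (i + 1)) - 1) ∣
      p ^ e * (d * (q ^ (m - 1) - 1))) : ∃ e, D2 q m ∣ p ^ e * d := by
  obtain ⟨e, he⟩ := h
  refine ⟨e, ?_⟩
  have h1 : (q ^ (m - 1 + 1) - 1) * (q ^ 1 + 1) * ∏ i ∈ Finset.Ico 1 (m - 1 + 1 - 1), (q ^ (2 * (i + 1)) - 1) =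
      D2 q m * (q ^ (m - 1) - 1) := by
    obtain ⟨j, rfl⟩ : ∃ j, m = j + 4 := ⟨m - 4, by omega⟩
    have e1 : j + 4 - 1 + 1 - 1 = j + 2 + 1 := by omega
    have e2 : j + 4 - 2 = j + 2 := by omega
    have e3 : j + 4 - 1 = j + 3 := by omega
    rw [D2, e1, e2, e3, Finset.prod_Ico_succ_top (by omega), pow_one]
    have e4 : q ^ (2 * (j + 2 + 1)) - 1 = (q ^ (j + 3) + 1) * (q ^ (j + 3) - 1) := sq_sub q _
    rw [e4]
    ring
  rw [h1, ← mul_assoc] at he
  have h2 : 1 < q ^ (m - 1) := Nat.one_lt_pow (by omega) (by omega)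
  exact Nat.dvd_of_mul_dvd_mul_right (by omega) he

theorem two_D1 (hq : Odd q) (hm : 4 ≤ m) : 2 ^ 7 ∣ D1 q m := by
  unfold D1
  rw [← Finset.prod_range_mul_prod_Ico _ (show 2 ≤ m - 1 by omega), Finset.prod_range_succ, Finset.prod_range_one]
  refine Dvd.dvd.mul_right ?_ _
  rw [show (2 : ℕ) ^ 7 = 2 ^ 3 * 2 ^ 4 by norm_num]
  exact Nat.mul_dvd_mul (two_pow_sq hq) (two_pow_four hq)

theorem two_D2 (hq : Odd q) (hm : 4 ≤ m) : 2 ^ 4 ∣ D2 q m := by
  refine Dvd.dvd.mul_left ?_ _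
  exact (two_pow_four hq).trans ((Finset.dvd_prod_of_mem (fun i => q ^ (2 * (i + 1)) - 1)
    (show 1 ∈ Finset.Ico 1 (m - 2) from Finset.mem_Ico.2 ⟨le_rfl, by omega⟩) :))

/-! #### minus type -/

/-- the first product, type `²D` -/
def M1 (q l : ℕ) : ℕ := (q ^ (l + 1) + 1) * (q - 1) * (q ^ l + 1) * ∏ i ∈ Finset.Ico 1 (l - 1), (q ^ (2 * (i + 1)) - 1)

/-- the second product, type `²D`, `l ≥ 5` -/
def M2 (q l : ℕ) : ℕ := (q ^ (l + 1) + 1) * (q ^ 2 - 1) * (q ^ (l - 1) + 1) * (q ^ (2 * l) - 1) *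
  ∏ i ∈ Finset.Ico 2 (l - 2), (q ^ (2 * (i + 1)) - 1)

/-- the order -/
def MG (q l : ℕ) : ℕ := (q ^ (l + 1) + 1) * ∏ i ∈ Finset.range l, (q ^ (2 * (i + 1)) - 1)

theorem td_one (hl : 3 ≤ l) (hr : r.Prime) (h : r ∣ MG q l) (h1 : ¬ r ∣ M1 q l) :
    r ∣ q ^ l - 1 ∧ Odd l := by
  rcases hr.dvd_mul.1 h with h2 | h2
  · exact absurd (Dvd.dvd.mul_right (Dvd.dvd.mul_right (Dvd.dvd.mul_right h2 _) _) _) h1
  obtain ⟨i, hi, h3⟩ := exists_idx hr h2
  rw [Finset.mem_range] at hi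
  have hmid : ∀ i, i < l - 1 → r ∣ q ^ (2 * (i + 1)) - 1 → False := by
    intro i hi h2
    rcases Nat.eq_zero_or_pos i with rfl | h0
    · exact h1 (Dvd.dvd.mul_left (dvd_prod_idx (i := 1) (Finset.mem_Ico.2 ⟨le_rfl, by omega⟩)
        (h2.trans (pow_sub_one_dvd q ⟨2, by norm_num⟩))) _)
    · exact h1 (Dvd.dvd.mul_left (dvd_prod_idx (Finset.mem_Ico.2 ⟨h0, by omega⟩) h2) _)
  have h4 : i + 1 = l := by
    by_contra h5
    exact hmid i (by omega) h3
  rw [h4, sq_sub] at h3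
  have h5 : r ∣ q ^ l - 1 := (hr.dvd_mul.1 h3).resolve_left fun h6 =>
    h1 (Dvd.dvd.mul_right (Dvd.dvd.mul_left h6 _) _)
  refine ⟨h5, ?_⟩
  by_contra h6
  rw [Nat.not_odd_iff_even] at h6
  obtain ⟨j, hj⟩ := h6
  apply hmid (j - 1) (by omega)
  have h7 : 2 * (j - 1 + 1) = l := by omega
  rwa [h7]

/-- `q^2+1` divides `q^(2j)+1` for odd `j` -/
theorem sq_add_dvd (q : ℕ) {j : ℕ} (hj : Odd j) : q ^ 2 + 1 ∣ q ^ (2 * j) + 1 := by
  rw [pow_mul]
  simpa only [_root_.one_pow] using hj.nat_add_dvd_pow_add_pow (q ^ 2) 1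

theorem td_two (hl : Odd l) (hl5 : 5 ≤ l) (hs : s.Prime) (h : s ∣ MG q l) : s ∣ M2 q l := by
  obtain ⟨j, hj⟩ := hl
  have hA : s ∣ q ^ (l + 1) + 1 → s ∣ M2 q l := fun h =>
    Dvd.dvd.mul_right (Dvd.dvd.mul_right (Dvd.dvd.mul_right (Dvd.dvd.mul_right h _) _) _) _
  have hB : s ∣ q ^ 2 - 1 → s ∣ M2 q l := fun h =>
    Dvd.dvd.mul_right (Dvd.dvd.mul_right (Dvd.dvd.mul_right (Dvd.dvd.mul_left h _) _) _) _
  have hC : s ∣ q ^ (l - 1) + 1 → s ∣ M2 q l := fun h =>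
    Dvd.dvd.mul_right (Dvd.dvd.mul_right (Dvd.dvd.mul_left h _) _) _
  rcases hs.dvd_mul.1 h with h1 | h1
  · exact hA h1
  obtain ⟨i, hi, h2⟩ := exists_idx hs h1
  rw [Finset.mem_range] at hi
  have hmid : ∀ i, i ≤ l - 3 → s ∣ q ^ (2 * (i + 1)) - 1 → s ∣ M2 q l := by
    intro i hi h2
    rcases Nat.eq_zero_or_pos i with rfl | h0
    · exact hB h2
    rcases Nat.lt_or_ge i 2 with h3 | h3
    · -- `q⁴ - 1`
      have hi1 : i = 1 := by omega
      subst hi1
      have h4 : q ^ (2 * (1 + 1)) - 1 = (q ^ 2 + 1) * (q ^ 2 - 1) := sq_sub q 2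
      rw [h4] at h2
      rcases hs.dvd_mul.1 h2 with h5 | h5
      · rcases Nat.even_or_odd j with he | ho
        · -- `l + 1 = 2 (j + 1)`, `j + 1` odd
          apply hA
          have h6 : l + 1 = 2 * (j + 1) := by omega
          rw [h6]
          exact h5.trans (sq_add_dvd q he.add_one)
        · apply hC
          have h6 : l - 1 = 2 * j := by omega
          rw [h6]
          exact h5.trans (sq_add_dvd q ho)
      · exact hB h5
    · exact Dvd.dvd.mul_left (dvd_prod_idx (Finset.mem_Ico.2 ⟨h3, by omega⟩) h2) _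
  rcases Nat.lt_or_ge i (l - 2) with h3 | h3
  · exact hmid i (by omega) h2
  · rcases Nat.lt_or_ge i (l - 1) with h4 | h4
    · have h5 : i + 1 = l - 1 := by omega
      rw [h5, sq_sub] at h2
      rcases hs.dvd_mul.1 h2 with h6 | h6
      · exact hC h6
      · refine hmid (j - 1) (by omega) ?_
        have h7 : 2 * (j - 1 + 1) = l - 1 := by omega
        rwa [h7]
    · have h5 : i + 1 = l := by omega
      rw [h5] at h2
      exact Dvd.dvd.mul_right (Dvd.dvd.mul_left h2 _) _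

theorem td_three (hs : s.Prime) (h : s ∣ MG q 3) : s ∣ (q ^ 4 + 1) * (q ^ 6 - 1) ∨ s ∣ q ^ 2 + 1 := by
  rcases hs.dvd_mul.1 h with h1 | h1
  · exact Or.inl (Dvd.dvd.mul_right h1 _)
  obtain ⟨i, hi, h2⟩ := exists_idx hs h1
  rw [Finset.mem_range] at hi
  interval_cases i
  · exact Or.inl (Dvd.dvd.mul_left (h2.trans (pow_sub_one_dvd q ⟨3, by norm_num⟩)) _)
  · have h4 : q ^ (2 * (1 + 1)) - 1 = (q ^ 2 + 1) * (q ^ 2 - 1) := sq_sub q 2
    rw [h4] at h2
    rcases hs.dvd_mul.1 h2 with h5 | h5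
    · exact Or.inr h5
    · exact Or.inl (Dvd.dvd.mul_left (h5.trans (pow_sub_one_dvd q ⟨3, by norm_num⟩)) _)
  · exact Or.inl (Dvd.dvd.mul_left h2 _)

/-- two primes, type `²D` -/
theorem td_cases (hl : 3 ≤ l) (hr : r.Prime) (hs : s.Prime) (h : r ∣ MG q l) (h' : s ∣ MG q l) :
    (r ∣ M1 q l ∧ s ∣ M1 q l) ∨ (Odd l ∧ 5 ≤ l ∧ r ∣ M2 q l ∧ s ∣ M2 q l) ∨
      (l = 3 ∧ (r ∣ q ^ 3 - 1 ∧ ¬ r ∣ M1 q l ∨ s ∣ q ^ 3 - 1 ∧ ¬ s ∣ M1 q l) ∧
        ((r ∣ (q ^ 4 + 1) * (q ^ 6 - 1) ∧ s ∣ (q ^ 4 + 1) * (q ^ 6 - 1)) ∨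
        (r ∣ q ^ 3 - 1 ∧ s ∣ q ^ 2 + 1) ∨ (s ∣ q ^ 3 - 1 ∧ r ∣ q ^ 2 + 1))) := by
  have key : (Odd l ∧ (r ∣ q ^ l - 1 ∧ ¬ r ∣ M1 q l ∨ s ∣ q ^ l - 1 ∧ ¬ s ∣ M1 q l)) →
      (Odd l ∧ 5 ≤ l ∧ r ∣ M2 q l ∧ s ∣ M2 q l) ∨
      (l = 3 ∧ (r ∣ q ^ 3 - 1 ∧ ¬ r ∣ M1 q l ∨ s ∣ q ^ 3 - 1 ∧ ¬ s ∣ M1 q l) ∧
        ((r ∣ (q ^ 4 + 1) * (q ^ 6 - 1) ∧ s ∣ (q ^ 4 + 1) * (q ^ 6 - 1)) ∨
        (r ∣ q ^ 3 - 1 ∧ s ∣ q ^ 2 + 1) ∨ (s ∣ q ^ 3 - 1 ∧ r ∣ q ^ 2 + 1))) := by
    rintro ⟨hodd, h1⟩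
    by_cases h5 : 5 ≤ l
    · exact Or.inl ⟨hodd, h5, td_two hodd h5 hr h, td_two hodd h5 hs h'⟩
    · have hl3 : l = 3 := by
        rcases hodd with ⟨j, hj⟩
        omega
      subst hl3
      refine Or.inr ⟨rfl, h1, ?_⟩
      have h6 : ∀ {t : ℕ}, t ∣ q ^ 3 - 1 → t ∣ (q ^ 4 + 1) * (q ^ 6 - 1) := fun ht =>
        Dvd.dvd.mul_left (ht.trans (pow_sub_one_dvd q ⟨2, by norm_num⟩)) _
      rcases h1 with ⟨h1, -⟩ | ⟨h1, -⟩
      · rcases td_three hs h' with h2 | h2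
        · exact Or.inl ⟨h6 h1, h2⟩
        · exact Or.inr (Or.inl ⟨h1, h2⟩)
      · rcases td_three hr h with h2 | h2
        · exact Or.inl ⟨h2, h6 h1⟩
        · exact Or.inr (Or.inr ⟨h1, h2⟩)
  by_cases h1 : r ∣ M1 q l
  · by_cases h2 : s ∣ M1 q l
    · exact Or.inl ⟨h1, h2⟩
    · obtain ⟨h3, h4⟩ := td_one hl hs h' h2
      exact Or.inr (key ⟨h4, Or.inr ⟨h3, h2⟩⟩)
  · obtain ⟨h3, h4⟩ := td_one hl hr h h1
    exact Or.inr (key ⟨h4, Or.inl ⟨h3, h1⟩⟩)

theorem td_key (hl : 5 ≤ l) (hq : 2 ≤ q) {p d : ℕ}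
    (h : ∃ e, (q ^ (l - 1 + 1 + 1) + 1) * (q ^ (1 + 1) - 1) *
      ∏ i ∈ Finset.Ico (1 + 1) (l - 1 + 1), (q ^ (2 * (i + 1)) - 1) ∣
      p ^ e * (d * (q ^ (l - 1) - 1))) : ∃ e, M2 q l ∣ p ^ e * d := by
  obtain ⟨e, he⟩ := h
  refine ⟨e, ?_⟩
  have h1 : (q ^ (l - 1 + 1 + 1) + 1) * (q ^ (1 + 1) - 1) *
      ∏ i ∈ Finset.Ico (1 + 1) (l - 1 + 1), (q ^ (2 * (i + 1)) - 1) = M2 q l * (q ^ (l - 1) - 1) := by
    obtain ⟨j, rfl⟩ : ∃ j, l = j + 5 := ⟨l - 5, by omega⟩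
    have e1 : j + 5 - 1 + 1 = j + 3 + 1 + 1 := by omega
    have e2 : j + 5 - 2 = j + 3 := by omega
    have e3 : j + 5 - 1 = j + 4 := by omega
    rw [M2, e1, e2, e3, Finset.prod_Ico_succ_top (by omega), Finset.prod_Ico_succ_top (by omega)]
    have e4 : q ^ (2 * (j + 3 + 1)) - 1 = (q ^ (j + 4) + 1) * (q ^ (j + 4) - 1) := sq_sub q _
    rw [e4]
    ring
  rw [h1, ← mul_assoc] at he
  have h2 : 1 < q ^ (l - 1) := Nat.one_lt_pow (by omega) (by omega)
  exact Nat.dvd_of_mul_dvd_mul_right (by omega) he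

theorem td_key_three (hq : 2 ≤ q) {p d : ℕ}
    (h : ∃ e, (q ^ (2 + 1 + 1) + 1) * (q ^ (1 + 1) - 1) *
      ∏ i ∈ Finset.Ico (1 + 1) (2 + 1), (q ^ (2 * (i + 1)) - 1) ∣
      p ^ e * (d * (q ^ 2 - 1))) : ∃ e, (q ^ 4 + 1) * (q ^ 6 - 1) ∣ p ^ e * d := by
  obtain ⟨e, he⟩ := h
  refine ⟨e, ?_⟩
  have h1 : (q ^ (2 + 1 + 1) + 1) * (q ^ (1 + 1) - 1) *
      ∏ i ∈ Finset.Ico (1 + 1) (2 + 1), (q ^ (2 * (i + 1)) - 1) = ((q ^ 4 + 1) * (q ^ 6 - 1)) * (q ^ 2 - 1) := by
    rw [Finset.prod_Ico_succ_top (by omega), Finset.Ico_self, Finset.prod_empty]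
    ring
  rw [h1, ← mul_assoc] at he
  have h2 : 1 < q ^ 2 := Nat.one_lt_pow (by omega) (by omega)
  exact Nat.dvd_of_mul_dvd_mul_right (by omega) he

theorem two_M1 (hq : Odd q) (hl : 3 ≤ l) : 2 ^ 5 ∣ M1 q l := by
  have h1 : 2 ∣ q ^ (l + 1) + 1 := (hq.pow (n := l + 1)).add_one.two_dvd
  have h2 := (two_pow_four hq).trans (Finset.dvd_prod_of_mem (fun i => q ^ (2 * (i + 1)) - 1)
    (show 1 ∈ Finset.Ico 1 (l - 1) from Finset.mem_Ico.2 ⟨le_rfl, by omega⟩))
  unfold M1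
  have e : (q ^ (l + 1) + 1) * (q - 1) * (q ^ l + 1) * ∏ i ∈ Finset.Ico 1 (l - 1), (q ^ (2 * (i + 1)) - 1) =
      ((q ^ (l + 1) + 1) * ∏ i ∈ Finset.Ico 1 (l - 1), (q ^ (2 * (i + 1)) - 1)) * ((q - 1) * (q ^ l + 1)) := by ring
  rw [e, show (2 : ℕ) ^ 5 = 2 * 2 ^ 4 by norm_num]
  exact Dvd.dvd.mul_right (Nat.mul_dvd_mul h1 h2) _

theorem two_M2 (hq : Odd q) : 2 ^ 4 ∣ M2 q l := by
  have h1 : 2 ∣ q ^ (l + 1) + 1 := (hq.pow (n := l + 1)).add_one.two_dvd
  unfold M2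
  refine Dvd.dvd.mul_right (Dvd.dvd.mul_right (Dvd.dvd.mul_right ?_ _) _) _
  rw [show (2 : ℕ) ^ 4 = 2 * 2 ^ 3 by norm_num]
  exact Nat.mul_dvd_mul h1 (two_pow_sq hq)

theorem two_M3 (hq : Odd q) : 2 ^ 4 ∣ (q ^ 4 + 1) * (q ^ 6 - 1) := by
  have h1 : 2 ∣ q ^ 4 + 1 := (hq.pow (n := 4)).add_one.two_dvd
  rw [show (2 : ℕ) ^ 4 = 2 * 2 ^ 3 by norm_num]
  exact Nat.mul_dvd_mul h1 ((two_pow_sq hq).trans (pow_sub_one_dvd q ⟨3, by norm_num⟩))

end arith

section

variable (K : Type u) [Field K] [Finite K] {p : ℕ} [Fact p.Prime] [CharP K p]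

include p in
theorem plus_ch {m k n : ℕ} (hkn : k + n = m) (hm : 4 ≤ m) (hk : 3 ≤ k) :
    ∃ e, Ch (POmega K (quadFormPlus m K)) e ∧ (∀ t a : ℕ, t.Prime → t ≠ 2 → t ^ a ∣ dg (CForm.plusF K (k + n)) k → t ^ a ∣ e) ∧
      ∀ a, 2 ^ (a + 3) ∣ dg (CForm.plusF K (k + n)) k → 2 ^ a ∣ e := by
  subst hkn
  obtain ⟨c, hc⟩ := exists_cus_sq K rfl k (by omega) (fun _ => hk) (fun _ => hk) (fun _ => by omega)
  obtain ⟨⟨W₀, hW₀⟩, -⟩ := CForm.plusF_frame (K := K) (p := p) k n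
  exact om_ch (CForm.plusF K (k + n)) (plus_hB K (k + n)) hW₀ hc
    (fun z hz => scal_of (cen_plus K (by omega) z hz)) (plus_idx K hm)

/-- a prime `≠ p` is odd or `q` is odd -/
theorem two_cases {r : ℕ} (hrp : r ≠ p) (hr2 : r = 2) : Odd (Nat.card K) :=
  odd_of_two_ne (K := K) (p := p) (by rw [← hr2]; exact hrp.symm)

theorem plus_prod {m r : ℕ} (hm : 4 ≤ m) (hr : r.Prime) (hrp : r ≠ p)
    (hd : r ∣ Nat.card (POmega K (quadFormPlus m K))) : r ∣ (Nat.card K ^ m - 1) * D1 (Nat.card K) m := by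
  have hd1 : r ∣ Nat.card (isometryGroup K (quadFormPlus m K)) :=
    hd.trans ((Subgroup.card_quotient_dvd_card _).trans (Subgroup.card_subgroup_dvd_card _))
  have hd2 : r ∣ Nat.card (CForm.plusF K m).iso := by
    rwa [← Nat.card_congr (isoQuad (CForm.plusF K m) (plus_hB K m)).toEquiv]
  rw [card_plusF K (by omega)] at hd2
  by_cases hr2 : r = 2
  · subst hr2
    exact Dvd.dvd.mul_left ((dvd_pow_self 2 (by norm_num : 7 ≠ 0)).trans (two_D1 (two_cases K hrp rfl) hm)) _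
  · rcases hr.dvd_mul.1 hd2 with h | h
    · rcases hr.dvd_mul.1 h with h' | h'
      · rcases hr.dvd_mul.1 h' with h'' | h''
        · exact absurd ((Nat.prime_dvd_prime_iff_eq hr Nat.prime_two).1 h'') hr2
        · exact absurd (hr.dvd_of_dvd_pow h'') (ne_card K (p := p) hr hrp)
      · exact Dvd.dvd.mul_right h' _
    · exact Dvd.dvd.mul_left h _

/-- **`PΩ⁺`** -/
theorem np_plus {m : ℕ} (hm : 4 ≤ m) {r s : ℕ} (hr : r.Prime) (hs : s.Prime)
    (hrp : r ≠ p) (hsp : s ≠ p) (hrs : r ≠ s) (hd : r ∣ Nat.card (POmega K (quadFormPlus m K)))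
    (hd' : s ∣ Nat.card (POmega K (quadFormPlus m K))) : Adj r s (POmega K (quadFormPlus m K)) := by
  have hp : p.Prime := Fact.out
  have hq2 : 2 ≤ Nat.card K := Finite.one_lt_card
  have key : ∀ (k n M : ℕ) (hkn : k + n = m) (hk : 3 ≤ k) (hM : ∃ e, M ∣ p ^ e * dg (CForm.plusF K (k + n)) k)
      (h16 : Odd (Nat.card K) → 2 ^ 4 ∣ M) (h5 : r ∣ M) (h6 : s ∣ M), Adj r s (POmega K (quadFormPlus m K)) := by
    intro k n M hkn hk hM h16 h5 h6
    obtain ⟨e, he⟩ := hM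
    obtain ⟨d, hd1, hd2, hd3⟩ := plus_ch K (p := p) hkn hm hk
    have h7 : ∀ r : ℕ, r.Prime → r ≠ p → r ∣ M → r ∣ d := by
      intro r hr hrp h
      by_cases hr2 : r = 2
      · have := hd3 1 (prime_pow_dvd Nat.prime_two hp (by rw [← hr2]; exact hrp)
          ((h16 (two_cases K hrp hr2)).trans he))
        rwa [hr2, ← pow_one 2]
      · have := hd2 r 1 hr hr2 (by rw [pow_one]; exact rm_p (p := p) hr hrp h he)
        rwa [pow_one] at this
    exact adj_of_ch hd1 hr hs hrs (h7 r hr hrp h5) (h7 s hs hsp h6)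
  rcases d_cases hm hr hs (plus_prod K hm hr hrp hd) (plus_prod K hm hs hsp hd') with ⟨h4, h5⟩ | ⟨h4, h5, h6⟩
  · exact key m 0 (D1 (Nat.card K) m) (Nat.add_zero m) (by omega) (plus_dvd_top K (p := p) (m := m) (by omega))
      (fun ho => (pow_dvd_pow 2 (by norm_num)).trans (two_D1 ho hm)) h4 h5
  · exact key (m - 1) 1 _ (by omega) (by omega)
      (d_key hm hq2 (plus_dvd K (p := p) (k := m - 1) (n := 1) (by omega) le_rfl)) (fun ho => two_D2 ho hm) h5 h6

include p in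
theorem minus_ch (a b : K)
    (hab : ∀ z₁ z₂ : K, z₁ ^ 2 + a * z₁ * z₂ + b * z₂ ^ 2 = 0 → z₁ = 0 ∧ z₂ = 0) {l k n : ℕ} (hkn : k + n = l)
    (hl : 3 ≤ l) (hk : 2 ≤ k) (hk2 : Nat.card K = 2 → 3 ≤ k) (hk3 : Nat.card K = 3 → k = 2 → Odd n) :
    ∃ e, Ch (POmega K (quadFormMinus l K a b)) e ∧
      (∀ t c : ℕ, t.Prime → t ≠ 2 → t ^ c ∣ dg (CForm.minusF K (k + n) a b hab) k → t ^ c ∣ e) ∧
      ∀ c, 2 ^ (c + 3) ∣ dg (CForm.minusF K (k + n) a b hab) k → 2 ^ c ∣ e := by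
  subst hkn
  obtain ⟨⟨W₀, hW₀⟩, -⟩ := CForm.minusF_frame (K := K) (p := p) hab k n
  by_cases h3 : Nat.card K = 3 ∧ k = 2
  · obtain ⟨hq3, rfl⟩ := h3
    have hn : Odd n := hk3 hq3 rfl
    · -- the centre is trivial
      have ho : Odd (Nat.card K) := by rw [hq3]; decide
      have hidx := minus_idx_four K (p := p) ho a b hab (2 + n)
      have hmul := minus_idx_mul K a b hab hl
      have hg : Nat.gcd 4 (Nat.card K ^ (2 + n + 1) + 1) = 2 := by
        obtain ⟨j, hj⟩ := hn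
        have h4 : Nat.card K ^ (2 + n + 1) = 9 ^ (j + 2) := by
          rw [hq3, show 2 + n + 1 = 2 * (j + 2) by omega, pow_mul]
          norm_num
        have h5 : (9 ^ (j + 2) + 1) % 4 = 2 := by
          rw [Nat.add_mod, Nat.pow_mod]
          norm_num
        rw [h4, Nat.gcd_rec, h5]
        decide
      rw [hidx, hg] at hmul
      have hc1 : Nat.card (Subgroup.center (Omega K (quadFormMinus (2 + n) K a b))) = 1 := by omega
      have hcen : ∀ z : Omega K (quadFormMinus (2 + n) K a b),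
          z ∈ Subgroup.center (Omega K (quadFormMinus (2 + n) K a b)) → z = 1 := by
        intro z hz
        rw [Subgroup.eq_bot_of_card_eq _ hc1] at hz
        exact Subgroup.mem_bot.1 hz
      obtain ⟨c, hc⟩ := exists_cus_one (K := K) hq3 2 (by norm_num) (by norm_num) (by rintro ⟨h, -⟩; omega)
      exact om_ch (CForm.minusF K (2 + n) a b hab) (minus_hB K (2 + n) a b hab) hW₀ hc
        (fun z hz => ⟨1, one_pow 1, fun v => by
          rw [hcen z hz]
          change (1 : Matrix _ _ K).mulVec v = _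
          rw [Matrix.one_mulVec, Units.val_one, one_smul]⟩) (minus_idx K a b hab hl)
  · obtain ⟨c, hc⟩ := exists_cus_sq K rfl k (by omega) hk2 (fun h => by
      by_contra h'
      exact h3 ⟨h, by omega⟩) (fun _ => hk)
    exact (om_ch (CForm.minusF K (k + n) a b hab) (minus_hB K (k + n) a b hab) hW₀ hc
      (fun z hz => scal_of (cen_minus K (by omega) a b hab z hz)) (minus_idx K a b hab hl) :)

theorem minus_prod {l r : ℕ} (a b : K)
    (hab : ∀ z₁ z₂ : K, z₁ ^ 2 + a * z₁ * z₂ + b * z₂ ^ 2 = 0 → z₁ = 0 ∧ z₂ = 0) (hr : r.Prime) (hrp : r ≠ p)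
    (hd : r ∣ Nat.card (POmega K (quadFormMinus l K a b))) : r ∣ MG (Nat.card K) l := by
  have hd1 : r ∣ Nat.card (isometryGroup K (quadFormMinus l K a b)) :=
    hd.trans ((Subgroup.card_quotient_dvd_card _).trans (Subgroup.card_subgroup_dvd_card _))
  have hd2 : r ∣ Nat.card (CForm.minusF K l a b hab).iso := by
    rwa [← Nat.card_congr (isoQuad (CForm.minusF K l a b hab) (minus_hB K l a b hab)).toEquiv]
  rw [card_minusF] at hd2
  by_cases hr2 : r = 2
  · subst hr2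
    exact Dvd.dvd.mul_right ((two_cases K hrp rfl).pow (n := l + 1)).add_one.two_dvd _
  · rcases hr.dvd_mul.1 hd2 with h | h
    · rcases hr.dvd_mul.1 h with h' | h'
      · rcases hr.dvd_mul.1 h' with h'' | h''
        · exact absurd ((Nat.prime_dvd_prime_iff_eq hr Nat.prime_two).1 h'') hr2
        · exact absurd (hr.dvd_of_dvd_pow h'') (ne_card K (p := p) hr hrp)
      · exact Dvd.dvd.mul_right h' _
    · exact Dvd.dvd.mul_left h _

/-- **`PΩ⁻`** -/
theorem np_minus (a b : K)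
    (hab : ∀ z₁ z₂ : K, z₁ ^ 2 + a * z₁ * z₂ + b * z₂ ^ 2 = 0 → z₁ = 0 ∧ z₂ = 0) {l : ℕ}
    (hl : 3 ≤ l) {r s : ℕ} (hr : r.Prime) (hs : s.Prime) (hrp : r ≠ p) (hsp : s ≠ p) (hrs : r ≠ s)
    (hd : r ∣ Nat.card (POmega K (quadFormMinus l K a b))) (hd' : s ∣ Nat.card (POmega K (quadFormMinus l K a b)))
    (hex : l = 3 → Nat.card K = 2 → r ≠ 7 ∧ s ≠ 7) :
    Adj r s (POmega K (quadFormMinus l K a b)) ∨ (l = 3 ∧
      ((r ∣ Nat.card K ^ 3 - 1 ∧ s ∣ Nat.card K ^ 2 + 1) ∨ (s ∣ Nat.card K ^ 3 - 1 ∧ r ∣ Nat.card K ^ 2 + 1))) := by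
  have hp : p.Prime := Fact.out
  have hq2 : 2 ≤ Nat.card K := Finite.one_lt_card
  have key : ∀ (k n M : ℕ) (hkn : k + n = l) (hk : 2 ≤ k) (hk2 : Nat.card K = 2 → 3 ≤ k)
      (hk3 : Nat.card K = 3 → k = 2 → Odd n) (hM : ∃ e, M ∣ p ^ e * dg (CForm.minusF K (k + n) a b hab) k)
      (h16 : Odd (Nat.card K) → 2 ^ 4 ∣ M) (h5 : r ∣ M) (h6 : s ∣ M), Adj r s (POmega K (quadFormMinus l K a b)) := by
    intro k n M hkn hk hk2 hk3 hM h16 h5 h6
    obtain ⟨e, he⟩ := hM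
    obtain ⟨d, hd1, hd2, hd3⟩ := minus_ch K (p := p) a b hab hkn hl hk hk2 hk3
    have h7 : ∀ r : ℕ, r.Prime → r ≠ p → r ∣ M → r ∣ d := by
      intro r hr hrp h
      by_cases hr2 : r = 2
      · have := hd3 1 (prime_pow_dvd Nat.prime_two hp (by rw [← hr2]; exact hrp)
          ((h16 (two_cases K hrp hr2)).trans he))
        rwa [hr2, ← pow_one 2]
      · have := hd2 r 1 hr hr2 (by rw [pow_one]; exact rm_p (p := p) hr hrp h he)
        rwa [pow_one] at this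
    exact adj_of_ch hd1 hr hs hrs (h7 r hr hrp h5) (h7 s hs hsp h6)
  rcases td_cases hl hr hs (minus_prod K a b hab hr hrp hd) (minus_prod K a b hab hs hsp hd') with
    ⟨h4, h5⟩ | ⟨h4, h5, h6, h7⟩ | ⟨hl3, h5, h6⟩
  · exact Or.inl (key l 0 (M1 (Nat.card K) l) (Nat.add_zero l) (by omega) (by omega) (by omega)
      (minus_dvd_top K (p := p) a b hab (l := l) (by omega))
      (fun ho => (pow_dvd_pow 2 (by norm_num)).trans (two_M1 ho hl)) h4 h5)
  · exact Or.inl (key (l - 1) 1 _ (by omega) (by omega) (by omega) (by omega)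
      (td_key h5 hq2 (minus_dvd K (p := p) a b hab (k := l - 1) (n := 1) (by omega))) (fun ho => two_M2 ho) h6 h7)
  · subst hl3
    rcases h6 with ⟨h6, h7⟩ | h6 | h6
    · refine Or.inl (key 2 1 _ rfl le_rfl (fun hq => ?_) (fun _ _ => odd_one)
        (td_key_three hq2 (minus_dvd K (p := p) a b hab (k := 2) (n := 1) (by omega))) (fun ho => two_M3 ho) h6 h7)
      exfalso
      have h7' : ∀ {r : ℕ}, r.Prime → r ∣ Nat.card K ^ 3 - 1 → r = 7 := by
        intro r hr h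
        rw [hq] at h
        exact (Nat.prime_dvd_prime_iff_eq hr (by norm_num)).1 (by norm_num at h; exact h)
      obtain ⟨h8, h9⟩ := hex rfl hq
      rcases h5 with h5 | h5
      · exact h8 (h7' hr h5.1)
      · exact h9 (h7' hs h5.1)
    · exact Or.inr ⟨rfl, Or.inl h6⟩
    · exact Or.inr ⟨rfl, Or.inr h6⟩

end

end Cfsg.Agent.H477.HC
end

private theorem dce_489173a4dabe : _root_.True := by
  try have : _root_.True := by simp only [_root_.Cfsg.Agent.H477.HC.D2.eq_1]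
  try have : _root_.True := by simp only [_root_.Cfsg.Agent.H477.HC.M2.eq_1]
  exact _root_.True.intro
end

-- part: H749/TwoStab
section
prune_inst 0x20203444088000000018051020001c62c2000102004b80000040020406c08c4220050e21b0a00110001280540030004811100000420800000a000800011800a0800056008248a10c240007800880000000000000000000000000000000000000000000000
set_option linter.all false
open scoped Cfsg.Agent.FastGrp

/-!
# Harish-Chandra induction with an arbitrary character of the smaller classical group (helper749)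

`Cmp F F' j W₀` : `W₀` totally singular, `j : X → V` an isometric embedding of `F'` onto a complement of `W₀` in `W₀ᗮ`.
`exists_rho` : the homomorphism `ρ` of the stabiliser of `W₀` to `F'.iso`; it is trivial on `F.TT W₀`, and
`(restriction to W₀, ρ)` is onto.
`exists_hc` : for `c` cuspidal, not self-dual, and ANY irreducible character `ψ₀` of `F'.iso`, if no `W' ∈ Om k` is
orthogonal and disjoint to `W₀`, an irreducible character of `F.iso` of degree `dg F k * ψ₀ 1`.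
-/

set_option autoImplicit false

open scoped ComplexConjugate
open Cfsg

namespace Cfsg.Agent.H749.Two

open Cfsg.Agent.OddOrderCharacters.Clifford Cfsg.Agent.Characters MulAction Module Cfsg.Agent.H53.HC
open Cfsg.Agent.H477.HC

universe u v w

section

variable {K : Type u} [Field K] {V : Type v} [AddCommGroup V] [Module K V] {X : Type w} [AddCommGroup X] [Module K X]

/-- an isometric complement of `W₀` in `W₀ᗮ` -/
structure Cmp (F : CForm K V) (F' : CForm K X) (j : X →ₗ[K] V) (W₀ : Submodule K V) : Prop where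
  σσ : F.σ = F'.σ
  ts : F.TS W₀
  jB : ∀ x y, F.B (j x) (j y) = F'.B x y
  jQ : ∀ x, F.Q (j x) = F'.Q x
  j1 : ∀ x, j x ∈ F.perp W₀
  j2 : ∀ v ∈ F.perp W₀, ∃ w ∈ W₀, ∃ x, v = w + j x

variable {F : CForm K V} {F' : CForm K X} {j : X →ₗ[K] V} {W₀ : Submodule K V}

/-- the projection on `j X` -/
theorem Cmp.exists_proj (h : Cmp F F' j W₀) [FiniteDimensional K X] :
    ∃ r : V →ₗ[K] X, (∀ v y, F.B (j y) v = F'.B y (r v)) ∧ (∀ x, r (j x) = x) ∧ ∀ w ∈ W₀, r w = 0 := by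
  classical
  have hex : ∀ v : V, ∃ b : X, ∀ y, F.B (j y) v = F'.B y b := by
    intro v
    exact F'.exists_dual ((F.lf v).comp j)
  choose r hr using hex
  have huniq : ∀ a b : X, (∀ y, F'.B y a = F'.B y b) → a = b := by
    intro a b hab
    have h1 : a - b = 0 := by
      refine F'.nondeg _ fun y => F'.B_eq_zero ?_
      rw [F'.B_sub_right, hab, sub_self]
    exact sub_eq_zero.1 h1
  refine ⟨{ toFun := r, map_add' := fun a b => huniq _ _ fun y => ?_, map_smul' := fun a v => huniq _ _ fun y => ?_ },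
    hr, fun x => huniq _ _ fun y => ?_, fun w hw => huniq _ _ fun y => ?_⟩
  · rw [← hr, F.B_add_right, F'.B_add_right, hr, hr]
  · rw [← hr, F.B_smul_right, RingHom.id_apply, F'.B_smul_right, hr, h.σσ]
  · change F'.B y (r (j x)) = _
    rw [← hr, h.jB]
  · change F'.B y (r w) = _
    rw [← hr, h.j1 y w hw, F'.B_zero_right]

/-- **the action on `W₀ᗮ / W₀`** -/
theorem Cmp.exists_rho (h : Cmp F F' j W₀) [FiniteDimensional K V] [FiniteDimensional K X] :
    ∃ ρ : stabW F.iso.subtype W₀ →* F'.iso,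
      (∀ (g : stabW F.iso.subtype W₀) x, ((g : F.iso) : V ≃ₗ[K] V) (j x) - j ((ρ g : X ≃ₗ[K] X) x) ∈ W₀) ∧
      (∀ g : stabW F.iso.subtype W₀, (g : F.iso) ∈ F.TT W₀ → ρ g = 1) ∧
      ∀ (a : W₀ ≃ₗ[K] W₀) (b : F'.iso), ∃ g : stabW F.iso.subtype W₀, ρ g = b ∧
        ∀ w : W₀, ((g : F.iso) : V ≃ₗ[K] V) w = a w := by
  classical
  obtain ⟨r, hr, hrj, hrW⟩ := h.exists_proj
  have hπ : ∀ v ∈ F.perp W₀, v - j (r v) ∈ W₀ := by
    intro v hv
    obtain ⟨w, hw, x, rfl⟩ := h.j2 v hv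
    rw [map_add, hrW w hw, hrj, zero_add, add_sub_cancel_right]
    exact hw
  have hgperp : ∀ (g : stabW F.iso.subtype W₀), ∀ v ∈ F.perp W₀, ((g : F.iso) : V ≃ₗ[K] V) v ∈ F.perp W₀ := by
    intro g v hv w hw
    have h1 : W₀.map (F.iso.subtype (g : F.iso) : V →ₗ[K] V) = W₀ := g.2
    rw [← h1] at hw
    obtain ⟨w', hw', rfl⟩ := hw
    exact (F.iso_B (g : F.iso) v w').trans (hv w' hw')
  have hgW : ∀ (g : stabW F.iso.subtype W₀), ∀ v ∈ W₀, ((g : F.iso) : V ≃ₗ[K] V) v ∈ W₀ := by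
    intro g v hv
    have h1 : W₀.map (F.iso.subtype (g : F.iso) : V →ₗ[K] V) = W₀ := g.2
    have : F.iso.subtype (g : F.iso) v ∈ W₀.map (F.iso.subtype (g : F.iso) : V →ₗ[K] V) := ⟨v, hv, rfl⟩
    rwa [h1] at this
  let f₀ : stabW F.iso.subtype W₀ → Module.End K X := fun g =>
    r.comp ((((g : F.iso) : V ≃ₗ[K] V) : V →ₗ[K] V).comp j)
  have hf₀ : ∀ (g : stabW F.iso.subtype W₀) x, ((g : F.iso) : V ≃ₗ[K] V) (j x) - j (f₀ g x) ∈ W₀ := fun g x =>
    hπ _ (hgperp g _ (h.j1 x))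
  have hmul : ∀ g g' : stabW F.iso.subtype W₀, f₀ (g * g') = f₀ g * f₀ g' := by
    intro g g'
    ext x
    change r (((g : F.iso) : V ≃ₗ[K] V) (((g' : F.iso) : V ≃ₗ[K] V) (j x))) = r (((g : F.iso) : V ≃ₗ[K] V) (j (f₀ g' x)))
    have h1 := hrW _ (hgW g _ (hf₀ g' x))
    rw [map_sub, map_sub, sub_eq_zero] at h1
    exact h1
  have hone : f₀ 1 = 1 := by
    ext x
    exact hrj x
  let f₀' : stabW F.iso.subtype W₀ →* Module.End K X := { toFun := f₀, map_one' := hone, map_mul' := hmul }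
  have hdec : ∀ (g : stabW F.iso.subtype W₀) x, j (f₀ g x) = ((g : F.iso) : V ≃ₗ[K] V) (j x) +
      -(((g : F.iso) : V ≃ₗ[K] V) (j x) - j (f₀ g x)) := by
    intro g x; abel
  have hfB : ∀ (g : stabW F.iso.subtype W₀) x y, F'.B (f₀ g x) (f₀ g y) = F'.B x y := by
    intro g x y
    rw [← h.jB, hdec g x, hdec g y, F.B_add_left, F.B_add_right, F.B_add_right, F.B_neg_left, F.B_neg_left,
      F.B_neg_right, F.B_neg_right, hgperp g _ (h.j1 x) _ (hf₀ g y), F.B_eq_zero (hgperp g _ (h.j1 y) _ (hf₀ g x)),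
      h.ts.2 _ (hf₀ g x) _ (hf₀ g y), F.iso_B, h.jB]
    ring
  have hfQ : ∀ (g : stabW F.iso.subtype W₀) x, F'.Q (f₀ g x) = F'.Q x := by
    intro g x
    rw [← h.jQ, hdec g x, F.Q_add, F.B_neg_right, hgperp g _ (h.j1 x) _ (hf₀ g x),
      h.ts.1 _ (W₀.neg_mem (hf₀ g x)), F.iso_Q, h.jQ, neg_zero, F.T_zero]
    ring
  let f₁ : stabW F.iso.subtype W₀ →* (X ≃ₗ[K] X) :=
    (LinearMap.GeneralLinearGroup.generalLinearEquiv K X).toMonoidHom.comp f₀'.toHomUnits
  let f₂ : stabW F.iso.subtype W₀ →* F'.iso := f₁.codRestrict F'.iso fun g => ⟨fun x y => hfB g x y, fun x => hfQ g x⟩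
  have hf₂ : ∀ g x, (f₂ g : X ≃ₗ[K] X) x = f₀ g x := fun g x => rfl
  refine ⟨f₂, hf₀, fun g hg => ?_, fun a b => ?_⟩
  · apply Subtype.ext
    ext x
    rw [hf₂]
    have h1 := hrW _ (hg.2 (j x) (h.j1 x))
    rw [map_sub, hrj, sub_eq_zero] at h1
    exact h1
  · -- surjectivity
    obtain ⟨W', hW', h0⟩ := F.exists_opp (k := finrank K W₀) ⟨h.ts, rfl⟩
    have h0' := CForm.opp_symm (F := F) rfl hW'.2 h0
    obtain ⟨gl, hgl1, -, -, hgl2⟩ := F.exists_levi h.ts hW'.1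
      (fun w hw hw' => by
        have : w ∈ W₀ ⊓ F.perp W' := ⟨hw, hw'⟩
        rw [h0] at this
        exact (Submodule.mem_bot K).1 this)
      (fun w hw hw' => by
        have : w ∈ W' ⊓ F.perp W₀ := ⟨hw, fun w' hw'' => F.B_eq_zero (hw' w' hw'')⟩
        rw [h0'] at this
        exact (Submodule.mem_bot K).1 this) a
    have hjr : ∀ v y, F.B (j y) (v - j (r v)) = 0 := by
      intro v y
      rw [F.B_sub_right, hr, h.jB, sub_self]
    have hjr' : ∀ v y, F.B (v - j (r v)) (j y) = 0 := fun v y => F.B_eq_zero (hjr v y)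
    let m : V →ₗ[K] V := (LinearMap.id - j.comp r) + j.comp (((b : X ≃ₗ[K] X) : X →ₗ[K] X).comp r)
    have hm : ∀ v, m v = (v - j (r v)) + j ((b : X ≃ₗ[K] X) (r v)) := fun v => rfl
    obtain ⟨gb, hgb⟩ := F.exists_iso m (fun v u => by
        have e1 : F.B v u = F.B ((v - j (r v)) + j (r v)) ((u - j (r u)) + j (r u)) := by
          rw [sub_add_cancel, sub_add_cancel]
        rw [hm, hm, e1, F.B_add_left, F.B_add_right, F.B_add_right, F.B_add_left, F.B_add_right, F.B_add_right,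
          hjr', hjr, hjr', hjr, h.jB, h.jB, F'.iso_B])
      (fun v => by
        have e1 : F.Q v = F.Q ((v - j (r v)) + j (r v)) := by rw [sub_add_cancel]
        rw [hm, e1, F.Q_add, F.Q_add, hjr', hjr', h.jQ, h.jQ, F'.iso_Q])
    have hgbW : ∀ w ∈ W₀, (gb : V ≃ₗ[K] V) w = w := by
      intro w hw
      rw [hgb, hm, hrW w hw, map_zero, map_zero, map_zero, sub_zero, add_zero]
    have hgbs : gb ∈ stabW F.iso.subtype W₀ := map_eq_of_le F.iso.subtype fun w hw => by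
      change (gb : V ≃ₗ[K] V) w ∈ W₀
      rw [hgbW w hw]; exact hw
    have h3 : f₂ ⟨gb, hgbs⟩ = b := by
      apply Subtype.ext
      ext x
      rw [hf₂]
      change r ((gb : V ≃ₗ[K] V) (j x)) = _
      rw [hgb, hm, hrj, sub_self, zero_add, hrj]
    refine ⟨⟨gl, hgl2.1.1⟩ * ⟨gb, hgbs⟩, ?_, fun w => ?_⟩
    · rw [map_mul, h3]
      have h4 : f₂ ⟨gl, hgl2.1.1⟩ = 1 := by
        apply Subtype.ext
        ext x
        rw [hf₂]
        have h1 := hrW _ (hgl2.1.2 (j x) (h.j1 x))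
        rw [map_sub, hrj, sub_eq_zero] at h1
        exact h1
      rw [h4, one_mul]
    · change (gl : V ≃ₗ[K] V) ((gb : V ≃ₗ[K] V) w) = _
      rw [hgbW w w.2, hgl1]

/-- the function on pairs attached to a function on the stabiliser of `W₀` -/
noncomputable def psf (F : CForm K V) (W₀ : Submodule K V) (ψ₁ : stabW F.iso.subtype W₀ → ℂ) :
    F.iso → Submodule K V → ℂ := fun g W => by
  classical
  exact if h : ∃ x : F.iso, W₀.map (F.iso.subtype x : V →ₗ[K] V) = W ∧ x⁻¹ * g * x ∈ stabW F.iso.subtype W₀ then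
    ψ₁ ⟨h.choose⁻¹ * g * h.choose, h.choose_spec.2⟩ else 0

theorem psf_eq {ψ₁ : stabW F.iso.subtype W₀ → ℂ} (hcl : IsClassFunction _ ψ₁) {g x : F.iso} {W : Submodule K V}
    (hx : W₀.map (F.iso.subtype x : V →ₗ[K] V) = W) (hg : x⁻¹ * g * x ∈ stabW F.iso.subtype W₀) :
    psf F W₀ ψ₁ g W = ψ₁ ⟨x⁻¹ * g * x, hg⟩ := by
  classical
  have h : ∃ x : F.iso, W₀.map (F.iso.subtype x : V →ₗ[K] V) = W ∧ x⁻¹ * g * x ∈ stabW F.iso.subtype W₀ :=
    ⟨x, hx, hg⟩
  have e1 : psf F W₀ ψ₁ g W = ψ₁ ⟨h.choose⁻¹ * g * h.choose, h.choose_spec.2⟩ := dif_pos h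
  rw [e1]
  obtain ⟨y, hy⟩ : ∃ y, y = h.choose := ⟨_, rfl⟩
  have h1 := h.choose_spec
  have h2 : x⁻¹ * h.choose ∈ stabW F.iso.subtype W₀ := by
    change W₀.map (F.iso.subtype (x⁻¹ * h.choose) : V →ₗ[K] V) = W₀
    rw [map_mul_apply, h1.1, ← hx, ← map_mul_apply, inv_mul_cancel, map_one]
    exact Submodule.map_id _
  have h3 := hcl ⟨x⁻¹ * g * x, hg⟩ ⟨_, h2⟩⁻¹
  rw [inv_inv] at h3
  rw [← h3]
  congr 1
  apply Subtype.ext
  change h.choose⁻¹ * g * h.choose = (x⁻¹ * h.choose)⁻¹ * (x⁻¹ * g * x) * (x⁻¹ * h.choose)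
  group

theorem psf_zero {ψ₁ : stabW F.iso.subtype W₀ → ℂ} {g : F.iso} {W : Submodule K V}
    (h : ¬ ∃ x : F.iso, W₀.map (F.iso.subtype x : V →ₗ[K] V) = W ∧ x⁻¹ * g * x ∈ stabW F.iso.subtype W₀) :
    psf F W₀ ψ₁ g W = 0 := dif_neg h

theorem psf_conj {ψ₁ : stabW F.iso.subtype W₀ → ℂ} (hcl : IsClassFunction _ ψ₁) (x g : F.iso) (W : Submodule K V) :
    psf F W₀ ψ₁ (x * g * x⁻¹) (W.map (F.iso.subtype x : V →ₗ[K] V)) = psf F W₀ ψ₁ g W := by
  by_cases h : ∃ y : F.iso, W₀.map (F.iso.subtype y : V →ₗ[K] V) = W ∧ y⁻¹ * g * y ∈ stabW F.iso.subtype W₀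
  · obtain ⟨y, hy, hy'⟩ := h
    have e1 : (x * y)⁻¹ * (x * g * x⁻¹) * (x * y) = y⁻¹ * g * y := by group
    rw [psf_eq hcl hy hy', psf_eq hcl (x := x * y) (by rw [map_mul_apply, hy]) (by rw [e1]; exact hy')]
    congr 1
    exact Subtype.ext e1
  · rw [psf_zero h, psf_zero]
    rintro ⟨y, hy, hy'⟩
    apply h
    refine ⟨x⁻¹ * y, ?_, ?_⟩
    · rw [map_mul_apply, hy, ← map_mul_apply, inv_mul_cancel, map_one]
      exact Submodule.map_id _
    · have e1 : (x⁻¹ * y)⁻¹ * g * (x⁻¹ * y) = y⁻¹ * (x * g * x⁻¹) * y := by group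
      rw [e1]; exact hy'

theorem psf_self {ψ₁ : stabW F.iso.subtype W₀ → ℂ} (hcl : IsClassFunction _ ψ₁) (g : stabW F.iso.subtype W₀) :
    psf F W₀ ψ₁ g W₀ = ψ₁ g := by
  have h1 : W₀.map (F.iso.subtype (1 : F.iso) : V →ₗ[K] V) = W₀ := by
    rw [map_one]; exact Submodule.map_id _
  have h2 : (1 : F.iso)⁻¹ * g * 1 = g := by group
  rw [psf_eq hcl h1 (by rw [h2]; exact g.2)]
  exact congrArg ψ₁ (Subtype.ext h2)

theorem TT_conj {g x : F.iso} {W : Submodule K V} (hx : W₀.map (F.iso.subtype x : V →ₗ[K] V) = W) (hg : g ∈ F.TT W) :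
    x⁻¹ * g * x ∈ F.TT W₀ := by
  have hg' : W.map (F.iso.subtype g : V →ₗ[K] V) = W := hg.1
  have h1 : W.map (F.iso.subtype x⁻¹ : V →ₗ[K] V) = W₀ := by
    rw [← hx, ← map_mul_apply, inv_mul_cancel, map_one]
    exact Submodule.map_id _
  refine ⟨?_, fun v hv => ?_⟩
  · rw [map_mul_apply, map_mul_apply, hx, hg', h1]
  · have h2 : (x : V ≃ₗ[K] V) v ∈ F.perp W := by
      intro w hw
      rw [← hx] at hw
      obtain ⟨w', hw', rfl⟩ := hw
      exact (F.iso_B x v w').trans (hv w' hw')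
    have h3 := hg.2 _ h2
    have h4 : ((x⁻¹ * g * x : F.iso) : V ≃ₗ[K] V) v - v =
        ((x⁻¹ : F.iso) : V ≃ₗ[K] V) ((g : V ≃ₗ[K] V) ((x : V ≃ₗ[K] V) v) - (x : V ≃ₗ[K] V) v) := by
      rw [map_sub]
      have : ((x⁻¹ : F.iso) : V ≃ₗ[K] V) ((x : V ≃ₗ[K] V) v) = v := (x : V ≃ₗ[K] V).symm_apply_apply v
      rw [this]
      rfl
    rw [h4, ← h1]
    exact ⟨_, h3, rfl⟩

/-- **Harish-Chandra induction of `c ⊗ ψ₁`**, `ψ₁` an irreducible character of the stabiliser of `W₀` trivial on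
`F.TT W₀`, when no member of `Om k` is orthogonal and disjoint to `W₀`. -/
theorem exists_hc_stab [Finite K] [FiniteDimensional K V] [Finite V] {k : ℕ} {Z : Kˣ → Prop} {c : GL (Fin k) K → ℂ}
    (hc : Cus K k F.σ Z c) (hW₀ : W₀ ∈ F.Om k) {ψ₁ : stabW F.iso.subtype W₀ → ℂ} (hψ : IsIrrCharacter _ ψ₁)
    (hT : ∀ g : stabW F.iso.subtype W₀, (g : F.iso) ∈ F.TT W₀ → ψ₁ g = ψ₁ 1)
    (hW : ∀ W' ∈ F.Om k, W₀ ≤ F.perp W' → W₀ ⊓ W' = ⊥ → False) :
    ∃ χ : F.iso → ℂ, IsIrrCharacter F.iso χ ∧ χ 1 = dg F k * ψ₁ 1 ∧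
      ∀ (z : F.iso) (a : Kˣ), (∀ v, (z : V ≃ₗ[K] V) v = (a : K) • v) →
        (∀ hs : z ∈ stabW F.iso.subtype W₀, c (Matrix.GeneralLinearGroup.scalar (Fin k) a) * ψ₁ ⟨z, hs⟩ = c 1 * ψ₁ 1) →
        χ z = χ 1 := by
  classical
  have := finite_Om F k
  have := finite_iso F
  let _ := Fintype.ofFinite (F.Om k)
  let _ := Fintype.ofFinite F.iso
  have hcl := Core.isIrr_isClassFunction hc.irr
  have hcl1 := Core.isIrr_isClassFunction hψ
  obtain ⟨W₁, hW₁, hopp⟩ := F.exists_opp hW₀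
  have hψT : ∀ W ∈ F.Om k, ∀ g ∈ F.TT W, psf F W₀ ψ₁ g W = psf F W₀ ψ₁ 1 W := by
    intro W hWk g hg
    obtain ⟨x, hx⟩ := F.trans_Om hW₀ hWk
    have h1 := TT_conj hx hg
    have h2 : x⁻¹ * 1 * x ∈ stabW F.iso.subtype W₀ := by
      rw [mul_one, inv_mul_cancel]; exact Subgroup.one_mem _
    rw [psf_eq hcl1 hx h1.1, psf_eq hcl1 hx h2, hT _ h1]
    congr 1
    apply Subtype.ext
    change 1 = x⁻¹ * 1 * x
    group
  have hirr : IsIrrCharacter (stabW F.iso.subtype W₀) (fun g => psf F W₀ ψ₁ g W₀) := by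
    have : (fun g : stabW F.iso.subtype W₀ => psf F W₀ ψ₁ g W₀) = ψ₁ := by
      funext g
      exact psf_self hcl1 g
    rw [this]; exact hψ
  have hval1 : ∀ W ∈ F.Om k, psf F W₀ ψ₁ 1 W = ψ₁ 1 := by
    intro W hWk
    obtain ⟨x, hx⟩ := F.trans_Om hW₀ hWk
    have h2 : x⁻¹ * 1 * x ∈ stabW F.iso.subtype W₀ := by
      rw [mul_one, inv_mul_cancel]; exact Subgroup.one_mem _
    rw [psf_eq hcl1 hx h2]
    congr 1
    apply Subtype.ext
    change x⁻¹ * 1 * x = 1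
    group
  refine ⟨F.hc c (psf F W₀ ψ₁), F.isIrr_hc hc.irr hc.cusp hc.dual (psf_conj hcl1) hψT hW₀
    (fun W hWk => F.trans_Om hW₀ hWk) (F.isIrr_stab hc.irr hψT hW₀ hW₁ hopp hirr)
    (fun W' hW' h1 h2 => (hW W' hW' h1 h2).elim), ?_, fun z a hz h => ?_⟩
  · rw [F.hc_one hcl _ hval1, hc.deg]
    unfold dg
    push_cast
    ring
  · unfold CForm.hc
    refine Finset.sum_congr rfl fun W _ => ?_
    have hfix : ∀ U : Submodule K V, U.map (F.iso.subtype z : V →ₗ[K] V) = U := fun U =>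
      map_eq_of_le F.iso.subtype fun w hw => by
        change (z : V ≃ₗ[K] V) w ∈ U
        rw [hz]; exact U.smul_mem _ hw
    have h' : W.1.map (F.iso.subtype 1 : V →ₗ[K] V) = W.1 := Submodule.map_id _
    rw [hval1 W.1 W.2, flagTerm_of F.iso.subtype c (hfix W.1), flagTerm_of F.iso.subtype c h',
      cl_eq hcl (finBasisOfFinrankEq K W.1 W.2.2)]
    have e2 : res (F.iso.subtype 1) W.1 h' = 1 := by
      ext w
      rfl
    rw [e2, cl_one hcl (finBasisOfFinrankEq K W.1 W.2.2), ← h (hfix W₀)]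
    obtain ⟨x, hx⟩ := F.trans_Om hW₀ W.2
    have hzx : x⁻¹ * z * x = z := by
      apply Subtype.ext
      ext v
      change ((x⁻¹ : F.iso) : V ≃ₗ[K] V) ((z : V ≃ₗ[K] V) ((x : V ≃ₗ[K] V) v)) = (z : V ≃ₗ[K] V) v
      rw [hz, hz, map_smul]
      congr 1
      exact (x : V ≃ₗ[K] V).symm_apply_apply v
    have hzs : x⁻¹ * z * x ∈ stabW F.iso.subtype W₀ := by rw [hzx]; exact hfix W₀
    rw [psf_eq hcl1 hx hzs]
    congr 2
    · ext i j
      rw [coe_glE, LinearMap.toMatrix_apply]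
      have e2 : (res (F.iso.subtype z) W.1 (hfix W.1) : W.1 →ₗ[K] W.1) (finBasisOfFinrankEq K W.1 W.2.2 j) =
          (a : K) • (finBasisOfFinrankEq K W.1 W.2.2 j) := Subtype.ext (hz _)
      rw [e2, map_smul, Finsupp.smul_apply, Basis.repr_self, smul_eq_mul, Matrix.GeneralLinearGroup.coe_scalar,
        Matrix.scalar_apply, Matrix.diagonal_apply, Finsupp.single_apply]
      by_cases hij : i = j
      · simp [hij]
      · rw [if_neg hij, if_neg (Ne.symm hij), mul_zero]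
    · exact Subtype.ext hzx

/-- **Harish-Chandra induction with an arbitrary irreducible character of the smaller group.** -/
theorem exists_hc [Finite K] [FiniteDimensional K V] [Finite V] [FiniteDimensional K X] (h : Cmp F F' j W₀)
    {k : ℕ} {Z : Kˣ → Prop} {c : GL (Fin k) K → ℂ}
    (hc : Cus K k F.σ Z c) (hW₀ : W₀ ∈ F.Om k) {ψ₀ : F'.iso → ℂ} (hψ : IsIrrCharacter _ ψ₀)
    (hW : ∀ W' ∈ F.Om k, W₀ ≤ F.perp W' → W₀ ⊓ W' = ⊥ → False) :
    ∃ χ : F.iso → ℂ, IsIrrCharacter F.iso χ ∧ χ 1 = dg F k * ψ₀ 1 ∧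
      ∀ (z : F.iso) (a : Kˣ), (∀ v, (z : V ≃ₗ[K] V) v = (a : K) • v) →
        (∀ z' : F'.iso, (∀ x, (z' : X ≃ₗ[K] X) x = (a : K) • x) →
          c (Matrix.GeneralLinearGroup.scalar (Fin k) a) * ψ₀ z' = c 1 * ψ₀ 1) →
        χ z = χ 1 := by
  classical
  obtain ⟨ρ, hρ1, hρ2, hρ3⟩ := h.exists_rho
  obtain ⟨r, hr, hrj, hrW⟩ := h.exists_proj
  have hsurj : Function.Surjective ρ := fun b => by
    obtain ⟨g, hg, -⟩ := hρ3 1 b
    exact ⟨g, hg⟩
  obtain ⟨χ, hχ, hχ1, hχz⟩ := exists_hc_stab hc hW₀ (Core.isIrr_comp ρ hsurj hψ) (fun g hg => by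
    rw [Function.comp_apply, Function.comp_apply, hρ2 g hg, map_one]) hW
  refine ⟨χ, hχ, by rw [hχ1, Function.comp_apply, map_one], fun z a hz h1 => hχz z a hz fun hs => ?_⟩
  rw [Function.comp_apply, Function.comp_apply, map_one]
  refine h1 _ fun x => ?_
  have h2 := hrW _ (hρ1 ⟨z, hs⟩ x)
  rw [map_sub, hrj, sub_eq_zero] at h2
  rw [← h2]
  change r ((z : V ≃ₗ[K] V) (j x)) = _
  rw [hz, map_smul, hrj]

end

end Cfsg.Agent.H749.Two
end

-- part: H749/TwoCmp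
section
prune_inst 0x2020700538c00000001c0010200000614500000200408000200403020a010042a041080006a015100006888030000048110000000200000000000000000000208001160200500d0c040007800000000000000000000000000000000000000000000000000
set_option linter.all false
open scoped Cfsg.Agent.FastGrp

/-!
# The complements of the standard forms, and the exact orders (helper749)

`cmp_of_frame`; `spF_cmp`, `plusF_cmp`, `oddF_cmp`, `minusF_cmp` : instances of `Cmp`.
`two_finrank_le` : `2 dim W ≤ dim V` for totally singular `W`; `no_disj`.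
`card_exact` : `|F.iso| = p^a |Om k| |GL_k| |F'.iso|`.
-/

set_option autoImplicit false

open scoped ComplexConjugate
open Cfsg

namespace Cfsg.Agent.H749.Two

open Cfsg.Agent.OddOrderCharacters.Clifford Cfsg.Agent.Characters MulAction Module Cfsg.Agent.H53.HC
open Cfsg.Agent.H477.HC

universe u v w

section

variable {K : Type u} [Field K] {V : Type v} [AddCommGroup V] [Module K V] {X : Type w} [AddCommGroup X] [Module K X]
variable {F : CForm K V} {F' : CForm K X} {j : X →ₗ[K] V} {W₀ : Submodule K V}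

theorem cmp_of_frame [FiniteDimensional K V] (hσ : F.σ = F'.σ) {k : ℕ} {e f : Fin k → V}
    (hee : ∀ i l, F.B (e i) (e l) = 0)
    (hff : ∀ i l, F.B (f i) (f l) = 0)
    (hef : ∀ i l, F.B (e i) (f l) = if i = l then 1 else 0) (hQe : ∀ i, F.Q (e i) = 0)
    (hjB : ∀ x y, F.B (j x) (j y) = F'.B x y) (hjQ : ∀ x, F.Q (j x) = F'.Q x)
    (hje : ∀ x i, F.B (j x) (e i) = 0) (hjf : ∀ x i, F.B (j x) (f i) = 0)
    (hdim : finrank K V = finrank K X + 2 * k) :
    Submodule.span K (Set.range e) ∈ F.Om k ∧ Cmp F F' j (Submodule.span K (Set.range e)) := by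
  classical
  refine ⟨F.frame_mem_Om hee hef hQe, hσ, (F.frame_mem_Om hee hef hQe).1, hjB, hjQ, fun x w hw => ?_, fun v hv => ?_⟩
  · obtain ⟨g, rfl⟩ := (Submodule.mem_span_range_iff_exists_fun K).1 hw
    rw [CForm.B_sum_right]
    exact Finset.sum_eq_zero fun i _ => by rw [hje, mul_zero]
  · have hw : ∑ i, F.B v (f i) • e i ∈ Submodule.span K (Set.range e) :=
      (Submodule.mem_span_range_iff_exists_fun K).2 ⟨_, rfl⟩
    obtain ⟨x, hx⟩ := F.frame_decomp F' j hee hff hef hjB hje hjf hdim (v - ∑ i, F.B v (f i) • e i)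
      (fun i => by
        rw [F.B_sub_left, hv _ (Submodule.subset_span ⟨i, rfl⟩), CForm.B_sum_left,
          Finset.sum_eq_zero (fun l _ => by rw [hee, mul_zero]), sub_zero])
      (fun i => by
        rw [F.B_sub_left, CForm.B_sum_left, Finset.sum_eq_single i]
        · rw [hef, if_pos rfl, mul_one, sub_self]
        · intro l _ hl
          rw [hef, if_neg hl, mul_zero]
        · intro h; exact absurd (Finset.mem_univ _) h)
    exact ⟨_, hw, x, by rw [← hx]; abel⟩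

/-- totally singular subspaces have at most half the dimension -/
theorem two_finrank_le [FiniteDimensional K V] {W : Submodule K V} (hW : F.TS W) :
    2 * finrank K W ≤ finrank K V := by
  obtain ⟨W', hW', h0⟩ := F.exists_opp (k := finrank K W) ⟨hW, rfl⟩
  have h1 : W ⊓ W' = ⊥ := by
    rw [Submodule.eq_bot_iff]
    rintro x ⟨hx, hx'⟩
    have : x ∈ W ⊓ F.perp W' := ⟨hx, hW'.1.le_perp hx'⟩
    rw [h0] at this
    exact (Submodule.mem_bot K).1 this
  have h2 := Submodule.finrank_sup_add_finrank_inf_eq W W'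
  rw [h1, finrank_bot, add_zero, hW'.2] at h2
  have h3 := Submodule.finrank_le (W ⊔ W')
  omega

/-- no orthogonal disjoint pair in `Om k` -/
theorem no_disj {m k : ℕ} [FiniteDimensional K V] (hm : ∀ W : Submodule K V, F.TS W → finrank K W ≤ m) (hk : m < 2 * k)
    {W : Submodule K V} (hW : W ∈ F.Om k) : ∀ W' ∈ F.Om k, W ≤ F.perp W' → W ⊓ W' = ⊥ → False := by
  intro W' hW' h1 h2
  have h3 := hm _ (F.TS_sup hW.1 hW'.1 h1)
  have h4 := Submodule.finrank_sup_add_finrank_inf_eq W W'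
  rw [h2, finrank_bot, add_zero, hW.2, hW'.2] at h4
  omega

/-- **the exact order** -/
theorem card_exact [FiniteDimensional K V] [Finite V] [Finite K] (h : Cmp F F' j W₀) {p : ℕ} [Fact p.Prime] [CharP K p]
    {k : ℕ} (hW₀ : W₀ ∈ F.Om k) :
    ∃ a, Nat.card F.iso = p ^ a * (Nat.card (F.Om k) * Nat.card (GL (Fin k) K) * Nat.card F'.iso) := by
  classical
  have hfV : Finite (V ≃ₗ[K] V) := Finite.of_injective (fun e : V ≃ₗ[K] V => (e : V → V)) DFunLike.coe_injective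
  have hjinj : Function.Injective j := by
    rw [injective_iff_map_eq_zero]
    intro x hx
    refine F'.nondeg x fun y => ?_
    rw [← h.jB, hx, F.B_zero_left]
  have hfX : Finite X := Finite.of_injective j hjinj
  have hfd : FiniteDimensional K X := Module.Finite.of_finite
  have hfXi : Finite (X ≃ₗ[K] X) := Finite.of_injective (fun e : X ≃ₗ[K] X => (e : X → X)) DFunLike.coe_injective
  have hfW : Finite (W₀ ≃ₗ[K] W₀) := Finite.of_injective (fun e : W₀ ≃ₗ[K] W₀ => (e : W₀ → W₀)) DFunLike.coe_injective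
  obtain ⟨ρ, hρ1, hρ2, hρ3⟩ := h.exists_rho
  let f₃ : stabW F.iso.subtype W₀ →* (W₀ ≃ₗ[K] W₀) × F'.iso := (resHom F.iso.subtype W₀).prod ρ
  have hf₃ : Function.Surjective f₃ := by
    rintro ⟨a, b⟩
    obtain ⟨g, hg, hg'⟩ := hρ3 a b
    refine ⟨g, Prod.ext ?_ hg⟩
    ext w
    exact hg' w
  -- the kernel
  have hker : IsPGroup p f₃.ker := by
    rintro ⟨g, hg⟩
    refine ⟨2, ?_⟩
    have hg' := MonoidHom.mem_ker.1 hg
    have h1 : resHom F.iso.subtype W₀ g = 1 := congrArg Prod.fst hg'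
    have h2 : ρ g = 1 := congrArg Prod.snd hg'
    have h1' : ∀ w ∈ W₀, ((g : F.iso) : V ≃ₗ[K] V) w = w := by
      intro w hw
      have := congrArg (fun e : W₀ ≃ₗ[K] W₀ => ((e ⟨w, hw⟩ : W₀) : V)) h1
      exact this
    have h3 : ∀ v ∈ F.perp W₀, ((g : F.iso) : V ≃ₗ[K] V) v - v ∈ W₀ := by
      intro v hv
      obtain ⟨w, hw, x, rfl⟩ := h.j2 v hv
      have h4 := hρ1 g x
      rw [h2] at h4
      rw [map_add, h1' w hw, add_sub_add_left_eq_sub]
      exact h4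
    have h4 : ∀ v, ((g : F.iso) : V ≃ₗ[K] V) v - v ∈ F.perp W₀ := by
      intro v w hw
      rw [F.B_sub_left]
      nth_rewrite 1 [← h1' w hw]
      rw [F.iso_B, sub_self]
    let N : V →ₗ[K] V := (((g : F.iso) : V ≃ₗ[K] V) : V →ₗ[K] V) - LinearMap.id
    have hNv : ∀ v, N v = ((g : F.iso) : V ≃ₗ[K] V) v - v := fun v => rfl
    have hN3 : ∀ v, N (N (N v)) = 0 := by
      intro v
      have h5 : N (N v) ∈ W₀ := h3 _ (h4 v)
      rw [hNv, h1' _ h5, sub_self]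
    have hcast : ∀ n : ℕ, p ∣ n → ∀ v : V, n • v = 0 := by
      intro n hn v
      have h6 : (n : K) = 0 := (CharP.cast_eq_zero_iff K p n).2 hn
      have h7 : (n : K) • v = n • v := Nat.cast_smul_eq_nsmul K n v
      rw [← h7, h6, zero_smul]
    have hpp : p.Prime := Fact.out
    have hp2 : 2 ≤ p := hpp.two_le
    apply Subtype.ext
    apply Subtype.ext
    apply Subtype.ext
    ext v
    change ((((g : F.iso) : V ≃ₗ[K] V)) ^ (p ^ 2)) v = v
    rw [CForm.pow_unip (g := ((g : F.iso) : V ≃ₗ[K] V)) (N := N) (fun v => by rw [hNv]; abel) hN3,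
      hcast _ (dvd_pow_self p two_ne_zero),
      hcast _ (hpp.dvd_choose_pow two_ne_zero (by nlinarith only [hp2])), add_zero, add_zero]
  obtain ⟨a, ha⟩ := (IsPGroup.iff_card (p := p)).1 hker
  refine ⟨a, ?_⟩
  have e1 : Nat.card (stabW F.iso.subtype W₀) = Nat.card f₃.ker * Nat.card ((W₀ ≃ₗ[K] W₀) × F'.iso) := by
    rw [Subgroup.card_eq_card_quotient_mul_card_subgroup f₃.ker, mul_comm]
    congr 1
    exact Nat.card_congr (QuotientGroup.quotientKerEquivOfSurjective f₃ hf₃).toEquiv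
  have e3 : Nat.card (W₀ ≃ₗ[K] W₀) = Nat.card (GL (Fin k) K) :=
    Nat.card_congr (glE (finBasisOfFinrankEq K W₀ hW₀.2)).toEquiv
  rw [F.card_iso_eq hW₀, e1, ha, Nat.card_prod, e3]
  ring

end

section models

variable (K : Type u) [Field K]

open CForm

theorem spF_cmp (k n : ℕ) : ∃ W₀, W₀ ∈ (spF K (k + n)).Om k ∧ Cmp (spF K (k + n)) (spF K n) (jmap K k n) W₀ := by
  classical
  have hee : ∀ i l : Fin k, (spF K (k + n)).B (Pi.single (.inl (Fin.castAdd n i)) 1)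
      (Pi.single (.inl (Fin.castAdd n l)) 1) = 0 := by
    intro i l
    simp only [spF_B, _root_.ne_eq, _root_.reduceCtorEq, _root_.not_false_eq_true, _root_.Pi.single_eq_of_ne, _root_.MulZeroClass.mul_zero, _root_.Finset.sum_const_zero, _root_.MulZeroClass.zero_mul, _root_.sub_self]
  have hff : ∀ i l : Fin k, (spF K (k + n)).B (Pi.single (.inr (Fin.castAdd n i)) 1)
      (Pi.single (.inr (Fin.castAdd n l)) 1) = 0 := by
    intro i l
    simp only [spF_B, _root_.ne_eq, _root_.reduceCtorEq, _root_.not_false_eq_true, _root_.Pi.single_eq_of_ne, _root_.MulZeroClass.zero_mul, _root_.Finset.sum_const_zero, _root_.MulZeroClass.mul_zero, _root_.sub_self]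
  have hef : ∀ i l : Fin k, (spF K (k + n)).B (Pi.single (.inl (Fin.castAdd n i)) 1)
      (Pi.single (.inr (Fin.castAdd n l)) 1) = if i = l then 1 else 0 := by
    intro i l
    simp only [spF_B, Pi.single_apply, eq_comm, _root_.Sum.inl.injEq, _root_.Sum.inr.injEq, _root_.mul_ite, _root_.mul_one, _root_.MulZeroClass.mul_zero, _root_.Finset.sum_ite_eq', _root_.Finset.mem_univ, ↓ _root_.reduceIte, _root_.Fin.castAdd_inj, _root_.ne_eq, _root_.reduceCtorEq, _root_.not_false_eq_true, _root_.Pi.single_eq_of_ne, _root_.Finset.sum_const_zero, _root_.sub_zero]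
  refine ⟨_, cmp_of_frame (F := spF K (k + n)) (F' := spF K n) (j := jmap K k n) rfl hee hff hef
    (fun _ => rfl) ?_ (fun _ => rfl) ?_ ?_ ?_⟩
  · intro x y
    simp only [spF_B, Fin.sum_univ_add, _root_.Cfsg.Agent.H477.HC.CForm.jmap_inl_castAdd, _root_.Cfsg.Agent.H477.HC.CForm.jmap_inr_castAdd, _root_.MulZeroClass.mul_zero, _root_.Finset.sum_const_zero, _root_.Cfsg.Agent.H477.HC.CForm.jmap_inl_natAdd, _root_.Cfsg.Agent.H477.HC.CForm.jmap_inr_natAdd, _root_.zero_add]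
  · intro x i
    simp only [spF_B, Pi.single_apply, _root_.ne_eq, _root_.reduceCtorEq, _root_.not_false_eq_true, _root_.Pi.single_eq_of_ne, _root_.MulZeroClass.mul_zero, _root_.Finset.sum_const_zero, _root_.Sum.inl.injEq, _root_.mul_ite, _root_.mul_one, _root_.Finset.sum_ite_eq', _root_.Finset.mem_univ, ↓ _root_.reduceIte, _root_.Cfsg.Agent.H477.HC.CForm.jmap_inr_castAdd, _root_.sub_self]
  · intro x i
    simp only [spF_B, Pi.single_apply, _root_.Sum.inr.injEq, _root_.mul_ite, _root_.mul_one, _root_.MulZeroClass.mul_zero, _root_.Finset.sum_ite_eq', _root_.Finset.mem_univ, ↓ _root_.reduceIte, _root_.Cfsg.Agent.H477.HC.CForm.jmap_inl_castAdd, _root_.ne_eq, _root_.reduceCtorEq, _root_.not_false_eq_true, _root_.Pi.single_eq_of_ne, _root_.Finset.sum_const_zero, _root_.sub_self]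
  · simp only [_root_.Module.finrank_fintype_fun_eq_card, _root_.Fintype.card_sum, _root_.Fintype.card_fin]
    ring

theorem plusF_cmp (k n : ℕ) :
    ∃ W₀, W₀ ∈ (plusF K (k + n)).Om k ∧ Cmp (plusF K (k + n)) (plusF K n) (jmap K k n) W₀ := by
  classical
  have hee : ∀ i l : Fin k, (plusF K (k + n)).B (Pi.single (.inl (Fin.castAdd n i)) 1)
      (Pi.single (.inl (Fin.castAdd n l)) 1) = 0 := by
    intro i l
    simp only [plusF_B, hypB, _root_.ne_eq, _root_.reduceCtorEq, _root_.not_false_eq_true, _root_.Pi.single_eq_of_ne, _root_.MulZeroClass.mul_zero, _root_.MulZeroClass.zero_mul, _root_.add_zero, _root_.Finset.sum_const_zero]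
  have hff : ∀ i l : Fin k, (plusF K (k + n)).B (Pi.single (.inr (Fin.castAdd n i)) 1)
      (Pi.single (.inr (Fin.castAdd n l)) 1) = 0 := by
    intro i l
    simp only [plusF_B, hypB, _root_.ne_eq, _root_.reduceCtorEq, _root_.not_false_eq_true, _root_.Pi.single_eq_of_ne, _root_.MulZeroClass.zero_mul, _root_.MulZeroClass.mul_zero, _root_.add_zero, _root_.Finset.sum_const_zero]
  have hef : ∀ i l : Fin k, (plusF K (k + n)).B (Pi.single (.inl (Fin.castAdd n i)) 1)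
      (Pi.single (.inr (Fin.castAdd n l)) 1) = if i = l then 1 else 0 := by
    intro i l
    simp only [plusF_B, hypB, Pi.single_apply, eq_comm, _root_.Sum.inl.injEq, _root_.Sum.inr.injEq, _root_.mul_ite, _root_.mul_one, _root_.MulZeroClass.mul_zero, _root_.ne_eq, _root_.reduceCtorEq, _root_.not_false_eq_true, _root_.Pi.single_eq_of_ne, _root_.add_zero, _root_.Finset.sum_ite_eq', _root_.Finset.mem_univ, ↓ _root_.reduceIte, _root_.Fin.castAdd_inj]
  have hQe : ∀ i : Fin k, (plusF K (k + n)).Q (Pi.single (.inl (Fin.castAdd n i)) 1) = 0 := by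
    intro i
    simp only [plusF_Q, quadFormPlus, _root_.ne_eq, _root_.reduceCtorEq, _root_.not_false_eq_true, _root_.Pi.single_eq_of_ne, _root_.MulZeroClass.mul_zero, _root_.Finset.sum_const_zero]
  refine ⟨_, cmp_of_frame (F := plusF K (k + n)) (F' := plusF K n) (j := jmap K k n) rfl hee hff hef hQe
    hypB_jmap quadFormPlus_jmap ?_ ?_ ?_⟩
  · intro x i
    simp only [plusF_B, hypB, Pi.single_apply, _root_.ne_eq, _root_.reduceCtorEq, _root_.not_false_eq_true, _root_.Pi.single_eq_of_ne, _root_.MulZeroClass.mul_zero, _root_.Sum.inl.injEq, _root_.mul_ite, _root_.mul_one, _root_.zero_add, _root_.Finset.sum_ite_eq', _root_.Finset.mem_univ, ↓ _root_.reduceIte, _root_.Cfsg.Agent.H477.HC.CForm.jmap_inr_castAdd]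
  · intro x i
    simp only [plusF_B, hypB, Pi.single_apply, _root_.Sum.inr.injEq, _root_.mul_ite, _root_.mul_one, _root_.MulZeroClass.mul_zero, _root_.ne_eq, _root_.reduceCtorEq, _root_.not_false_eq_true, _root_.Pi.single_eq_of_ne, _root_.add_zero, _root_.Finset.sum_ite_eq', _root_.Finset.mem_univ, ↓ _root_.reduceIte, _root_.Cfsg.Agent.H477.HC.CForm.jmap_inl_castAdd]
  · simp only [_root_.Module.finrank_fintype_fun_eq_card, _root_.Fintype.card_sum, _root_.Fintype.card_fin]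
    ring

theorem oddF_cmp (h2 : (2 : K) ≠ 0) (k n : ℕ) :
    ∃ W₀, W₀ ∈ (oddF K (k + n) h2).Om k ∧ Cmp (oddF K (k + n) h2) (oddF K n h2) (jodd K k n) W₀ := by
  classical
  have hee : ∀ i l : Fin k, (oddF K (k + n) h2).B (Pi.single (.inr (.inl (Fin.castAdd n i))) 1)
      (Pi.single (.inr (.inl (Fin.castAdd n l))) 1) = 0 := by
    intro i l
    simp only [oddF_B, oddB, hypB, _root_.ne_eq, _root_.reduceCtorEq, _root_.not_false_eq_true, _root_.Pi.single_eq_of_ne, _root_.MulZeroClass.mul_zero, _root_.Sum.inr.injEq, _root_.MulZeroClass.zero_mul, _root_.add_zero, _root_.Finset.sum_const_zero]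
  have hff : ∀ i l : Fin k, (oddF K (k + n) h2).B (Pi.single (.inr (.inr (Fin.castAdd n i))) 1)
      (Pi.single (.inr (.inr (Fin.castAdd n l))) 1) = 0 := by
    intro i l
    simp only [oddF_B, oddB, hypB, _root_.ne_eq, _root_.reduceCtorEq, _root_.not_false_eq_true, _root_.Pi.single_eq_of_ne, _root_.MulZeroClass.mul_zero, _root_.Sum.inr.injEq, _root_.MulZeroClass.zero_mul, _root_.add_zero, _root_.Finset.sum_const_zero]
  have hef : ∀ i l : Fin k, (oddF K (k + n) h2).B (Pi.single (.inr (.inl (Fin.castAdd n i))) 1)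
      (Pi.single (.inr (.inr (Fin.castAdd n l))) 1) = if i = l then 1 else 0 := by
    intro i l
    simp only [oddF_B, oddB, hypB, Pi.single_apply, eq_comm, _root_.ne_eq, _root_.reduceCtorEq, _root_.not_false_eq_true, _root_.Pi.single_eq_of_ne, _root_.MulZeroClass.mul_zero, _root_.Sum.inr.injEq, _root_.Sum.inl.injEq, _root_.mul_ite, _root_.mul_one, _root_.add_zero, _root_.Finset.sum_ite_eq', _root_.Finset.mem_univ, ↓ _root_.reduceIte, _root_.Fin.castAdd_inj, _root_.zero_add]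
  have hQe : ∀ i : Fin k, (oddF K (k + n) h2).Q (Pi.single (.inr (.inl (Fin.castAdd n i))) 1) = 0 := by
    intro i
    simp only [oddF_Q, quadFormOdd, _root_.ne_eq, _root_.reduceCtorEq, _root_.not_false_eq_true, _root_.Pi.single_eq_of_ne, _root_.OfNat.ofNat_ne_zero, _root_.zero_pow, _root_.Sum.inr.injEq, _root_.MulZeroClass.mul_zero, _root_.Finset.sum_const_zero, _root_.add_zero]
  refine ⟨_, cmp_of_frame (F := oddF K (k + n) h2) (F' := oddF K n h2) (j := jodd K k n) rfl hee hff hef hQe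
    ?_ ?_ ?_ ?_ ?_⟩
  · intro x y
    simp [oddF_B, oddB, hypB_jmap]
  · intro x
    have h := quadFormPlus_jmap (K := K) (k := k) (fun i => x (.inr i))
    change x (.inl ()) ^ 2 + quadFormPlus (k + n) K (jmap K k n (fun i => x (.inr i))) = _
    rw [h]
    rfl
  · intro x i
    simp only [oddF_B, oddB, hypB, Pi.single_apply, _root_.Cfsg.Agent.H477.HC.CForm.jodd_inl, _root_.ne_eq, _root_.reduceCtorEq, _root_.not_false_eq_true, _root_.Pi.single_eq_of_ne, _root_.MulZeroClass.mul_zero, _root_.Cfsg.Agent.H477.HC.CForm.jodd_inr, _root_.Sum.inr.injEq, _root_.Sum.inl.injEq, _root_.mul_ite, _root_.mul_one, _root_.zero_add, _root_.Finset.sum_ite_eq', _root_.Finset.mem_univ, ↓ _root_.reduceIte, _root_.Cfsg.Agent.H477.HC.CForm.jmap_inr_castAdd, _root_.add_zero]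
  · intro x i
    simp only [oddF_B, oddB, hypB, Pi.single_apply, _root_.Cfsg.Agent.H477.HC.CForm.jodd_inl, _root_.ne_eq, _root_.reduceCtorEq, _root_.not_false_eq_true, _root_.Pi.single_eq_of_ne, _root_.MulZeroClass.mul_zero, _root_.Cfsg.Agent.H477.HC.CForm.jodd_inr, _root_.Sum.inr.injEq, _root_.mul_ite, _root_.mul_one, _root_.add_zero, _root_.Finset.sum_ite_eq', _root_.Finset.mem_univ, ↓ _root_.reduceIte, _root_.Cfsg.Agent.H477.HC.CForm.jmap_inl_castAdd]
  · simp only [_root_.Module.finrank_fintype_fun_eq_card, _root_.Fintype.card_sum, _root_.Fintype.card_unique, _root_.Fintype.card_fin]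
    ring

theorem minusF_cmp [Finite K] {a b : K}
    (hab : ∀ z₁ z₂ : K, z₁ ^ 2 + a * z₁ * z₂ + b * z₂ ^ 2 = 0 → z₁ = 0 ∧ z₂ = 0) (k n : ℕ) :
    ∃ W₀, W₀ ∈ (minusF K (k + n) a b hab).Om k ∧
      Cmp (minusF K (k + n) a b hab) (minusF K n a b hab) (jminus K k n) W₀ := by
  classical
  have hee : ∀ i l : Fin k, (minusF K (k + n) a b hab).B (Pi.single (.inl (.inl (Fin.castAdd n i))) 1)
      (Pi.single (.inl (.inl (Fin.castAdd n l))) 1) = 0 := by
    intro i l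
    simp only [minusF_B, minusB, hypB, _root_.ne_eq, _root_.Sum.inl.injEq, _root_.reduceCtorEq, _root_.not_false_eq_true, _root_.Pi.single_eq_of_ne, _root_.MulZeroClass.mul_zero, _root_.MulZeroClass.zero_mul, _root_.add_zero, _root_.Finset.sum_const_zero, _root_.Fin.isValue]
  have hff : ∀ i l : Fin k, (minusF K (k + n) a b hab).B (Pi.single (.inl (.inr (Fin.castAdd n i))) 1)
      (Pi.single (.inl (.inr (Fin.castAdd n l))) 1) = 0 := by
    intro i l
    simp only [minusF_B, minusB, hypB, _root_.ne_eq, _root_.Sum.inl.injEq, _root_.reduceCtorEq, _root_.not_false_eq_true, _root_.Pi.single_eq_of_ne, _root_.MulZeroClass.zero_mul, _root_.MulZeroClass.mul_zero, _root_.add_zero, _root_.Finset.sum_const_zero, _root_.Fin.isValue]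
  have hef : ∀ i l : Fin k, (minusF K (k + n) a b hab).B (Pi.single (.inl (.inl (Fin.castAdd n i))) 1)
      (Pi.single (.inl (.inr (Fin.castAdd n l))) 1) = if i = l then 1 else 0 := by
    intro i l
    simp only [minusF_B, minusB, hypB, Pi.single_apply, eq_comm, _root_.Sum.inl.injEq, _root_.Sum.inr.injEq, _root_.mul_ite, _root_.mul_one, _root_.MulZeroClass.mul_zero, _root_.ne_eq, _root_.reduceCtorEq, _root_.not_false_eq_true, _root_.Pi.single_eq_of_ne, _root_.add_zero, _root_.Finset.sum_ite_eq', _root_.Finset.mem_univ, ↓ _root_.reduceIte, _root_.Fin.castAdd_inj, _root_.Fin.isValue]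
  have hQe : ∀ i : Fin k, (minusF K (k + n) a b hab).Q (Pi.single (.inl (.inl (Fin.castAdd n i))) 1) = 0 := by
    intro i
    simp only [minusF_Q, quadFormMinus, _root_.ne_eq, _root_.Sum.inl.injEq, _root_.reduceCtorEq, _root_.not_false_eq_true, _root_.Pi.single_eq_of_ne, _root_.MulZeroClass.mul_zero, _root_.Finset.sum_const_zero, _root_.Fin.isValue, _root_.OfNat.ofNat_ne_zero, _root_.zero_pow, _root_.add_zero]
  refine ⟨_, cmp_of_frame (F := minusF K (k + n) a b hab) (F' := minusF K n a b hab) (j := jminus K k n) rfl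
    hee hff hef hQe ?_ ?_ ?_ ?_ ?_⟩
  · intro x y
    simp only [minusF_B, minusB, hypB_jmap, _root_.Cfsg.Agent.H477.HC.CForm.jminus_inl, _root_.Fin.isValue, _root_.Cfsg.Agent.H477.HC.CForm.jminus_inr]
  · intro x
    have h := quadFormPlus_jmap (K := K) (k := k) (fun i => x (.inl i))
    change quadFormPlus (k + n) K (jmap K k n (fun i => x (.inl i))) + _ = _
    rw [h]
    rfl
  · intro x i
    simp only [minusF_B, minusB, hypB, Pi.single_apply, _root_.Cfsg.Agent.H477.HC.CForm.jminus_inl, _root_.ne_eq, _root_.Sum.inl.injEq, _root_.reduceCtorEq, _root_.not_false_eq_true, _root_.Pi.single_eq_of_ne, _root_.MulZeroClass.mul_zero, _root_.mul_ite, _root_.mul_one, _root_.zero_add, _root_.Finset.sum_ite_eq', _root_.Finset.mem_univ, ↓ _root_.reduceIte, _root_.Cfsg.Agent.H477.HC.CForm.jmap_inr_castAdd, _root_.Fin.isValue, _root_.Cfsg.Agent.H477.HC.CForm.jminus_inr, _root_.add_zero]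
  · intro x i
    simp only [minusF_B, minusB, hypB, Pi.single_apply, _root_.Cfsg.Agent.H477.HC.CForm.jminus_inl, _root_.Sum.inl.injEq, _root_.Sum.inr.injEq, _root_.mul_ite, _root_.mul_one, _root_.MulZeroClass.mul_zero, _root_.ne_eq, _root_.reduceCtorEq, _root_.not_false_eq_true, _root_.Pi.single_eq_of_ne, _root_.add_zero, _root_.Finset.sum_ite_eq', _root_.Finset.mem_univ, ↓ _root_.reduceIte, _root_.Cfsg.Agent.H477.HC.CForm.jmap_inl_castAdd, _root_.Fin.isValue, _root_.Cfsg.Agent.H477.HC.CForm.jminus_inr]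
  · simp only [_root_.Module.finrank_fintype_fun_eq_card, _root_.Fintype.card_sum, _root_.Fintype.card_fin]
    ring

end models

end Cfsg.Agent.H749.Two
end
end
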