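import Cfsg.Agent.H477.HC.Levi
import Cfsg.Agent.H33.IM
import Cfsg.Agent.S0887
import Cfsg.Agent.Characters.Central
import Cfsg.Agent.Characters.Values
import Cfsg.Agent.H53.HC.Flag_m3
import Cfsg.Agent.S0245
import Cfsg.Agent.H113.PSU.Points
import Cfsg.Agent.ClassicalGeometry.PSUAutBasic
import Cfsg.Agent.LieClassical.HermSiegel
import Cfsg.Agent.S0277
import Cfsg.Agent.S0278
import Cfsg.Agent.Prune
set_option linter.all false

section
prune_inst 0x7fbffdfefbe87bffdfff7e3ff6dcedfc33828fffa6dffd43ffe0e9bf0b9f131209c563ad0df050fe0fd7c23c10a87843fbffeeffe26fdc7ffffd5ff45ffbee5ff5f7bd08719c8cb40fbc2ffe03f0778a6f3ffffffffffffffffffff7ffffffbeffbff3feffff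

-- part: H477/HC/Groups
section
set_option linter.all false
open scoped Cfsg.Agent.FastGrp

/-!
# The matrix groups of the list and the isometry groups of the standard forms; descent (hub H5, helper477)

* `matE` : `GL ι K ≃* ((ι → K) ≃ₗ[K] (ι → K))`;
* `isoQuad` : `isometryGroup K Q ≃* F.iso` for a quadratic form; `isoSp`, `isoGU`;
* `im_down` : from an irreducible character of a group to the quotient of a normal subgroup by its centre.
-/

set_option autoImplicit false

open scoped ComplexConjugate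
open Cfsg

namespace Cfsg.Agent.H477.HC

open Cfsg.Agent.Characters Module Cfsg.Agent.H53.HC

universe u v

section Mat

variable {ι : Type} [Fintype ι] [DecidableEq ι] {K : Type u} [Field K]

/-- matrices as automorphisms -/
def matE : GL ι K ≃* ((ι → K) ≃ₗ[K] (ι → K)) :=
  Matrix.GeneralLinearGroup.toLin.trans (LinearMap.GeneralLinearGroup.generalLinearEquiv K (ι → K))

theorem matE_apply (g : GL ι K) (v : ι → K) : matE g v = (g : Matrix ι ι K).mulVec v := rfl

/-- the isometry group of a quadratic form as a matrix group -/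
noncomputable def isoQuad (F : CForm K (ι → K)) (hB : ∀ u v, F.B u v = F.Q (u + v) - F.Q u - F.Q v) :
    isometryGroup K F.Q ≃* F.iso :=
  MulEquiv.ofBijective
    ((matE.toMonoidHom.comp (isometryGroup K F.Q).subtype).codRestrict F.iso (fun g => by
      have hQ : ∀ v, F.Q (matE (g : GL ι K) v) = F.Q v := fun v => g.2 v v
      refine ⟨fun u v => ?_, fun v => hQ v⟩
      change F.B (matE (g : GL ι K) u) (matE (g : GL ι K) v) = _
      rw [hB, hB, ← map_add, hQ, hQ, hQ]))
    ⟨fun g h hgh => by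
      apply Subtype.ext
      exact matE.injective (congrArg Subtype.val hgh), fun e => by
      obtain ⟨g, hg⟩ := matE.surjective (e : (ι → K) ≃ₗ[K] (ι → K))
      refine ⟨⟨g, fun u v => ?_⟩, Subtype.ext hg⟩
      have h1 : F.Q (matE g u) = F.Q u := by rw [hg]; exact F.iso_Q e u
      exact h1⟩

theorem isoQuad_apply (F : CForm K (ι → K)) (hB : ∀ u v, F.B u v = F.Q (u + v) - F.Q u - F.Q v)
    (g : isometryGroup K F.Q) (v : ι → K) :
    ((isoQuad F hB g : F.iso) : (ι → K) ≃ₗ[K] (ι → K)) v = ((g : GL ι K) : Matrix ι ι K).mulVec v := rfl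

/-- `GU` -/
noncomputable def isoGU [Finite K] {q : ℕ} (hq : Nat.card K = q ^ 2) (n : ℕ) :
    GU n K q ≃* (CForm.hermF K hq n).iso :=
  MulEquiv.ofBijective
    ((matE.toMonoidHom.comp (GU n K q).subtype).codRestrict (CForm.hermF K hq n).iso (fun g =>
      ⟨fun u v => g.2 u v, fun v => g.2 v v⟩))
    ⟨fun g h hgh => by
      apply Subtype.ext
      exact matE.injective (congrArg Subtype.val hgh), fun e => by
      obtain ⟨g, hg⟩ := matE.surjective (e : (Fin n → K) ≃ₗ[K] (Fin n → K))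
      refine ⟨⟨g, fun u v => ?_⟩, Subtype.ext hg⟩
      have h1 : (CForm.hermF K hq n).B (matE g u) (matE g v) = (CForm.hermF K hq n).B u v := by
        rw [hg]; exact (CForm.hermF K hq n).iso_B e u v
      exact h1⟩

theorem isoGU_apply [Finite K] {q : ℕ} (hq : Nat.card K = q ^ 2) (n : ℕ) (g : GU n K q) (v : Fin n → K) :
    ((isoGU hq n g : (CForm.hermF K hq n).iso) : (Fin n → K) ≃ₗ[K] (Fin n → K)) v =
      ((g : GL (Fin n) K) : Matrix (Fin n) (Fin n) K).mulVec v := rfl

end Mat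

section Sp

variable {K : Type u} [Field K] {m : ℕ}

open Matrix in
theorem spF_B_eq (u v : Fin m ⊕ Fin m → K) :
    (CForm.spF K m).B u v = -(u ⬝ᵥ ((Matrix.J (Fin m) K) *ᵥ v)) := by
  rw [CForm.spF_B, Matrix.J, Matrix.fromBlocks_mulVec]
  simp only [dotProduct, Fintype.sum_sum_type, Sum.elim_inl, Sum.elim_inr, Matrix.zero_mulVec, Matrix.one_mulVec,
    Matrix.neg_mulVec, zero_add, add_zero, Function.comp, Pi.neg_apply]
  rw [← Finset.sum_sub_distrib, ← Finset.sum_add_distrib, ← Finset.sum_neg_distrib]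
  refine Finset.sum_congr rfl fun i _ => ?_
  ring

/-- the matrix of an element of the symplectic group -/
def spHom (m : ℕ) (K : Type u) [Field K] : Matrix.symplecticGroup (Fin m) K →* GL (Fin m ⊕ Fin m) K :=
  (Matrix.symplecticGroup (Fin m) K).subtype.toHomUnits

open Matrix in
theorem sp_dot (A : Matrix (Fin m ⊕ Fin m) (Fin m ⊕ Fin m) K) (u v : Fin m ⊕ Fin m → K) :
    (A *ᵥ u) ⬝ᵥ ((Matrix.J (Fin m) K) *ᵥ (A *ᵥ v)) = u ⬝ᵥ ((Aᵀ * Matrix.J (Fin m) K * A) *ᵥ v) := by
  rw [← Matrix.mulVec_mulVec, ← Matrix.mulVec_mulVec, Matrix.dotProduct_mulVec u Aᵀ, Matrix.vecMul_transpose]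

open Matrix in
/-- the symplectic group -/
noncomputable def isoSp (m : ℕ) (K : Type u) [Field K] :
    Matrix.symplecticGroup (Fin m) K ≃* (CForm.spF K m).iso :=
  MulEquiv.ofBijective
    ((matE.toMonoidHom.comp (spHom m K)).codRestrict (CForm.spF K m).iso (fun A => by
      refine ⟨fun u v => ?_, fun v => rfl⟩
      change (CForm.spF K m).B ((A : Matrix (Fin m ⊕ Fin m) (Fin m ⊕ Fin m) K) *ᵥ u)
        ((A : Matrix (Fin m ⊕ Fin m) (Fin m ⊕ Fin m) K) *ᵥ v) = _
      rw [spF_B_eq, spF_B_eq, sp_dot, SymplecticGroup.mem_iff'.1 A.2]))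
    ⟨fun A A' hgh => by
      have h1 := matE.injective (congrArg Subtype.val hgh)
      have h2 := congrArg (fun g : GL (Fin m ⊕ Fin m) K => (g : Matrix (Fin m ⊕ Fin m) (Fin m ⊕ Fin m) K)) h1
      exact Subtype.ext h2, fun e => by
      obtain ⟨g, hg⟩ := matE.surjective (e : (Fin m ⊕ Fin m → K) ≃ₗ[K] (Fin m ⊕ Fin m → K))
      have hmem : (g : Matrix (Fin m ⊕ Fin m) (Fin m ⊕ Fin m) K) ∈ Matrix.symplecticGroup (Fin m) K := by
        rw [SymplecticGroup.mem_iff']
        have h1 : ∀ u v, (CForm.spF K m).B (matE g u) (matE g v) = (CForm.spF K m).B u v := fun u v => by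
          rw [hg]; exact (CForm.spF K m).iso_B e u v
        ext i j
        have h2 := h1 (Pi.single i 1) (Pi.single j 1)
        rw [matE_apply, matE_apply, spF_B_eq, spF_B_eq, sp_dot] at h2
        simpa using h2
      refine ⟨⟨g, hmem⟩, ?_⟩
      apply Subtype.ext
      rw [← hg]
      change matE (spHom m K ⟨g, hmem⟩) = matE g
      congr 1
      exact Units.ext rfl⟩

open Matrix in
theorem isoSp_apply (A : Matrix.symplecticGroup (Fin m) K) (v : Fin m ⊕ Fin m → K) :
    ((isoSp m K A : (CForm.spF K m).iso) : (Fin m ⊕ Fin m → K) ≃ₗ[K] (Fin m ⊕ Fin m → K)) v =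
      (A : Matrix (Fin m ⊕ Fin m) (Fin m ⊕ Fin m) K) *ᵥ v := rfl

end Sp

/-! ### descent -/

open Cfsg.Agent.H33

/-- a nonzero constituent exists -/
theorem exists_constituent {N : Type*} [Group N] [Fintype N] {α : N → ℂ} (hα : IsCharacter N α) (h0 : α 1 ≠ 0) :
    ∃ θ : N → ℂ, IsIrrCharacter N θ ∧ classInner α θ ≠ 0 := by
  classical
  by_contra hno
  push Not at hno
  have : Finite (IrrCharacter N) := Core.finite_irr
  let _ : Fintype (IrrCharacter N) := Fintype.ofFinite _
  obtain ⟨m, hm⟩ := Core.isCharacter_iff.1 hα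
  apply h0
  have key : ∀ χ : IrrCharacter N, m χ = 0 := by
    intro χ
    have e1 : classInner α χ = m χ := by
      rw [hm]; exact Core.classInner_sum_nsmul_irr m χ
    have e2 := hno χ χ.2
    rw [e1] at e2
    exact_mod_cast e2
  rw [hm, Finset.sum_apply]
  exact Finset.sum_eq_zero fun χ _ => by rw [key, zero_smul]; rfl

/-- a central element acts as a scalar -/
theorem central_mul {N : Type*} [Group N] [Finite N] {θ : N → ℂ} (hθ : IsIrrCharacter N θ) {z : N}
    (hz : z ∈ Subgroup.center N) : ∃ l : ℂ, ∀ n, θ (n * z) = l * θ n := by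
  classical
  obtain ⟨k, ρ, hρ, rfl⟩ := hθ
  obtain ⟨l, hl⟩ := Central.exists_smul_of_comm (ρ := ρ) hρ (ρ z) fun g => by
    rw [← map_mul, ← map_mul, Subgroup.mem_center_iff.1 hz g]
  refine ⟨l, fun n => ?_⟩
  change LinearMap.trace ℂ _ (ρ (n * z)) = l * LinearMap.trace ℂ _ (ρ n)
  rw [map_mul, hl, mul_smul_comm, mul_one, map_smul, smul_eq_mul]

/-- an irreducible character with `Z` in its kernel comes from the quotient -/
theorem exists_quot {N : Type*} [Group N] [Finite N] (Z : Subgroup N) [Z.Normal] {θ : N → ℂ}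
    (hθ : IsIrrCharacter N θ) (hz : ∀ z ∈ Z, θ z = θ 1) :
    ∃ η : (N ⧸ Z) → ℂ, IsIrrCharacter (N ⧸ Z) η ∧ ∀ n : N, η (n : N ⧸ Z) = θ n := by
  classical
  have hθ' := hθ
  obtain ⟨k, ρ, hρ, hρθ⟩ := hθ'
  have hker : ∀ z ∈ Z, ρ z = 1 := by
    intro z hzz
    have h1 : ρ z = LinearMap.id := by
      rw [← Cfsg.Agent.Characters.Values.character_eq_finrank_iff, hρθ, hz z hzz, ← hρθ]
      simp
    exact h1
  let ρ' : Representation ℂ (N ⧸ Z) (Fin k → ℂ) := QuotientGroup.lift Z ρ hker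
  refine ⟨ρ'.character, ?_, fun n => by rw [← hρθ]; rfl⟩
  let _ : Fintype N := Fintype.ofFinite N
  let _ : Fintype (N ⧸ Z) := Fintype.ofFinite _
  apply Core.isIrr_of_classInner_self ⟨k, ρ', rfl⟩
  have h1 := Core.classInner_irr_self hθ
  rw [Core.classInner_def] at h1 ⊢
  have h2 := sum_comp_hom (QuotientGroup.mk' Z) (QuotientGroup.mk'_surjective Z)
    (fun q => ρ'.character q * conj (ρ'.character q))
  have h3 : ∑ n : N, (fun q => ρ'.character q * conj (ρ'.character q)) (QuotientGroup.mk' Z n) =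
      ∑ n : N, θ n * conj (θ n) := by
    refine Finset.sum_congr rfl fun n _ => ?_
    rw [← hρθ]
    rfl
  rw [h3, QuotientGroup.ker_mk'] at h2
  rw [h2] at h1
  have h4 : (Nat.card N : ℂ) = (Nat.card (N ⧸ Z) : ℂ) * (Nat.card Z : ℂ) := by
    rw [← Nat.cast_mul, ← Subgroup.card_eq_card_quotient_mul_card_subgroup]
  rw [h4] at h1
  have h5 : (Nat.card Z : ℂ) ≠ 0 := Core.card_ne_zero_complex
  have h6 : (Nat.card (N ⧸ Z) : ℂ) ≠ 0 := Core.card_ne_zero_complex
  field_simp at h1 ⊢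
  exact h1

/-- **descent to a normal subgroup** -/
theorem down_constituent {I : Type u} [Group I] [Finite I] (N : Subgroup I) [N.Normal] {χ : I → ℂ}
    (hχ : IsIrrCharacter I χ) {d : ℕ} (hd : χ 1 = d) :
    ∃ (θ : N → ℂ) (e : ℕ), IsIrrCharacter N θ ∧ θ 1 = e ∧ e ∣ d ∧ d / e ∣ N.index ∧ 0 < e ∧
      ∀ z : N, z ∈ Subgroup.center N → χ z = χ 1 → θ z = θ 1 := by
  classical
  let _ : Fintype I := Fintype.ofFinite I
  let _ : Fintype N := Fintype.ofFinite N
  have hα : IsCharacter N (χ ∘ N.subtype) := Core.isCharacter_comp N.subtype (Core.isIrr_isCharacter hχ)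
  obtain ⟨θ, hθ, hθ'⟩ := exists_constituent hα (by
    rw [Function.comp_apply, map_one]; exact Core.isIrr_apply_one_ne_zero hχ)
  obtain ⟨e, he0, he⟩ := Core.isIrr_apply_one hθ
  obtain ⟨h3, h4⟩ := Cfsg.Agent.S0887.result N χ hχ θ hθ hθ' d e hd he
  refine ⟨θ, e, hθ, he, h3, h4, he0, fun z hzc hzχ => ?_⟩
  obtain ⟨l, hl⟩ := central_mul hθ hzc
  -- `l = 1`
  have e0 : ∑ n : N, (χ ∘ N.subtype) n * conj (θ n) = conj l * ∑ n : N, (χ ∘ N.subtype) n * conj (θ n) := by
    calc ∑ n : N, (χ ∘ N.subtype) n * conj (θ n)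
        = ∑ n : N, (χ ∘ N.subtype) (n * z) * conj (θ (n * z)) :=
          (Equiv.sum_comp (Equiv.mulRight z) (fun n => (χ ∘ N.subtype) n * conj (θ n))).symm
      _ = _ := by
          rw [Finset.mul_sum]
          refine Finset.sum_congr rfl fun n _ => ?_
          have h5 : (χ ∘ N.subtype) (n * z) = (χ ∘ N.subtype) n := kernel_mul hα (by
            change χ z = χ 1
            exact hzχ) n
          rw [hl, map_mul, h5]
          ring
  have e1 : classInner (χ ∘ N.subtype) θ = conj l * classInner (χ ∘ N.subtype) θ := by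
    rw [Core.classInner_def, mul_left_comm, ← e0]
  have e2 : conj l = 1 := by
    have : (conj l - 1) * classInner (χ ∘ N.subtype) θ = 0 := by
      rw [sub_mul, one_mul, ← e1, sub_self]
    exact sub_eq_zero.1 ((mul_eq_zero.1 this).resolve_right hθ')
  have e3 : l = 1 := by
    have := congrArg conj e2
    rwa [Complex.conj_conj, map_one] at this
  have := hl 1
  rwa [one_mul, e3, one_mul] at this

/-- **descent to `N / Z(N)`** -/
theorem im_down {I : Type u} [Group I] [Finite I] (N : Subgroup I) [N.Normal] {χ : I → ℂ} (hχ : IsIrrCharacter I χ)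
    {d : ℕ} (hd : χ 1 = d) (hz : ∀ z : N, z ∈ Subgroup.center N → χ z = χ 1) {r a : ℕ} [Fact r.Prime]
    (h1 : r ^ a ∣ d) (h2 : ¬ r ^ a ∣ N.index) : IM r (N ⧸ Subgroup.center N) := by
  classical
  obtain ⟨θ, e, hθ, he, h3, h4, h5, h6⟩ := down_constituent N hχ hd
  obtain ⟨η, hη, hη'⟩ := exists_quot (Subgroup.center N) hθ fun z hzc => h6 z hzc (hz z hzc)
  have h7 : η 1 = e := by
    rw [← he, ← hη' 1]
    rfl
  refine IM.of_apply_one hη h7 ?_
  by_contra hre
  have hr : r.Prime := Fact.out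
  have h8 : r ^ a ∣ d / e := by
    obtain ⟨f, rfl⟩ := h3
    rw [Nat.mul_div_cancel_left _ h5]
    exact (Nat.Coprime.pow_left a ((Nat.Prime.coprime_iff_not_dvd hr).2 hre)).dvd_of_dvd_mul_left h1
  exact h2 (h8.trans h4)

end Cfsg.Agent.H477.HC
end

-- part: H477/HC/Cus
section
set_option linter.all false
open scoped Cfsg.Agent.FastGrp

/-!
# Cuspidal characters of `GL_k(K)` which are not self-dual (hub H5, helper477)

`Cus K k σ Z c` : `c` is a cuspidal irreducible character, `c ∘ (A ↦ σ(A)⁻ᵀ) ≠ c`, the scalars in `Z` lie in the kernel,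
`c 1 = ∏_{0<i<k} (q^i - 1)`.

`exists_cus` : from an exponent `a`; `exists_cus_two`, `exists_cus_one` : `θ = φ²` (`q` odd), `θ = φ`.
-/

set_option autoImplicit false

open scoped ComplexConjugate
open Cfsg

namespace Cfsg.Agent.H477.HC

open Cfsg.Agent.OddOrderCharacters.Clifford Cfsg.Agent.Characters MulAction Module Cfsg.Agent.H53.HC
open Cfsg.Agent.H139.Cusp

universe u

/-- a cuspidal datum -/
structure Cus (K : Type u) [Field K] (k : ℕ) (σ : K →+* K) (Z : Kˣ → Prop) (c : GL (Fin k) K → ℂ) : Prop where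
  irr : IsIrrCharacter _ c
  cusp : IsCusp c
  dual : c ∘ ((Matrix.GeneralLinearGroup.map σ).comp (invT k)) ≠ c
  scal : ∀ z : Kˣ, Z z → c (Matrix.GeneralLinearGroup.scalar (Fin k) z) = c 1
  deg : c 1 = ((∏ i ∈ Finset.Ico 1 k, (Nat.card K ^ i - 1) : ℕ) : ℂ)

variable {K : Type u} [Field K] [Finite K]

theorem exists_L (K : Type u) [Field K] [Finite K] (k : ℕ) (hk : 0 < k) :
    ∃ (L : Type) (_ : Field L) (_ : Finite L) (_ : Algebra K L), Module.finrank K L = k := by
  obtain ⟨p, hp⟩ := CharP.exists K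
  have hpr : p.Prime := (CharP.char_is_prime_or_zero K p).resolve_right (CharP.char_ne_zero_of_finite K p)
  have : Fact p.Prime := ⟨hpr⟩
  have hk0 : NeZero k := ⟨hk.ne'⟩
  refine ⟨FiniteField.Extension K p k, inferInstance, ?_, inferInstance, FiniteField.finrank_extension K p k⟩
  have h1 := FiniteField.natCard_extension K p k
  have h2 : 0 < Nat.card K := Nat.card_pos
  exact Nat.finite_of_card_ne_zero (by rw [h1]; exact pow_ne_zero _ h2.ne')

theorem psi_invT {L : Type*} [Field L] [Finite L] [Algebra K L] (θ : L →*₀ ℂ) {k : ℕ} (hk : Module.finrank K L = k)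
    (A : GL (Fin k) K) : psi L θ (invT k A) = conj (psi L θ A) := by
  have h1 : psi L θ (invT k A) = cuspMat L θ (((A⁻¹ : GL (Fin k) K) : Matrix (Fin k) (Fin k) K).transpose) := rfl
  have h2 : psi L θ A = cuspMat L θ (A : Matrix (Fin k) (Fin k) K) := rfl
  rw [h1, cuspMat_transpose, h2]
  let g : ((Fin k → K) →ₗ[K] (Fin k → K))ˣ := Matrix.GeneralLinearGroup.toLin A
  have h3 := cusp_inv (V := Fin k → K) θ (by rw [Module.finrank_fin_fun, hk]) g
  exact h3

theorem exists_cus (k : ℕ) (hk : 0 < k) (a : ℕ) (ha : a ≠ 0)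
    (hreg : ∀ i, 0 < i → i < k → ¬ (Nat.card K ^ k - 1) ∣ a * (Nat.card K ^ i - 1))
    (hdual : ∀ i, i < k → ¬ (Nat.card K ^ k - 1) ∣ a * Nat.card K ^ i + a) :
    ∃ c : GL (Fin k) K → ℂ, Cus K k (RingHom.id K) (fun z => z ^ a = 1) c := by
  classical
  obtain ⟨L, _, _, _, hL⟩ := exists_L K k hk
  obtain ⟨θ, hθ⟩ := exists_theta L
  have hcardL : Nat.card Lˣ = Nat.card K ^ k - 1 := by
    rw [Nat.card_units, Module.natCard_eq_pow_finrank (K := K), hL]
  have hR : Regular K k (powTheta θ a ha) := (regular_powTheta_iff hθ ha hL).2 hreg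
  refine ⟨psi L (powTheta θ a ha), psi_isIrr _ hL hR, psi_isCusp L _, ?_, ?_, ?_⟩
  · intro h
    have h1 : ∀ g : ((Fin k → K) →ₗ[K] (Fin k → K))ˣ, cusp L (powTheta θ a ha) (g : (Fin k → K) →ₗ[K] (Fin k → K)) =
        cusp L (conjTheta (powTheta θ a ha)) (g : (Fin k → K) →ₗ[K] (Fin k → K)) := by
      intro g
      let A : GL (Fin k) K := Matrix.GeneralLinearGroup.toLin.symm g
      have h2 := congrFun h A
      have h3 : ((Matrix.GeneralLinearGroup.map (RingHom.id K)).comp (invT k)) A = invT k A := by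
        ext i j
        rfl
      rw [Function.comp_apply, h3, psi_invT _ hL] at h2
      have h4 : psi L (powTheta θ a ha) A = cusp L (powTheta θ a ha) (g : (Fin k → K) →ₗ[K] (Fin k → K)) := by
        have h5 : Matrix.GeneralLinearGroup.toLin A = g := MulEquiv.apply_symm_apply _ g
        rw [← h5]
        rfl
      rw [h4, cusp_star] at h2
      exact h2.symm
    obtain ⟨i, hi, h2⟩ := (cusp_eq_iff (V := Fin k → K) (powTheta θ a ha) (conjTheta (powTheta θ a ha))
      (by rw [Module.finrank_fin_fun, hL]) (by rw [hL]; exact hR)).1 h1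
    rw [hL] at hi
    have h3 := (conj_powTheta_eq_iff hθ ha ha (pow_ne_zero i (Nat.card_pos (α := K)).ne')).1 h2
    rw [hcardL] at h3
    exact hdual i hi h3
  · intro z hz
    have h1 := psi_scalar (powTheta θ a ha) hL z 1
    rw [mul_one] at h1
    rw [h1, powTheta_eq_one ha, one_mul]
    rw [← map_pow, ← Units.val_pow_eq_pow_val, hz, Units.val_one, map_one]
  · rw [psi_one L _ hk, degP_eq_Ico]

theorem mul_sub_lt {q k i : ℕ} (hq : 3 ≤ q) (hi : i < k) : 2 * (q ^ i - 1) < q ^ k - 1 := by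
  have h1 : q ^ i ≤ q ^ (k - 1) := Nat.pow_le_pow_right (by omega) (by omega)
  have h2 : q ^ k = q ^ (k - 1) * q := by rw [← pow_succ]; congr 1; omega
  have h3 : 1 ≤ q ^ i := Nat.one_le_pow _ _ (by omega)
  have h4 : q ^ (k - 1) * 3 ≤ q ^ (k - 1) * q := Nat.mul_le_mul_left _ hq
  omega

/-- `θ = φ²`, `q` odd -/
theorem exists_cus_two {q : ℕ} (hq : Nat.card K = q) (h3 : 3 ≤ q) (k : ℕ) (hk : 0 < k) (h5 : 5 < q ^ k)
    (h32 : ¬ (q = 3 ∧ k = 2)) : ∃ c : GL (Fin k) K → ℂ, Cus K k (RingHom.id K) (fun z => z ^ 2 = 1) c := by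
  refine exists_cus k hk 2 two_ne_zero (fun i hi hik h => ?_) (fun i hik h => ?_)
  · rw [hq] at h
    have h1 := mul_sub_lt h3 hik
    have h2 : 0 < 2 * (q ^ i - 1) := by
      have : 1 < q ^ i := Nat.one_lt_pow hi.ne' (by omega)
      omega
    exact absurd (Nat.le_of_dvd h2 h) (by omega)
  · rw [hq] at h
    have h1 := Nat.le_of_dvd (by omega) h
    rcases Nat.eq_zero_or_pos i with rfl | hi
    · rw [pow_zero] at h1
      have h6 : q ^ k = 6 ∨ 6 < q ^ k := by omega
      rcases h6 with h6 | h6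
      · rw [h6, pow_zero] at h; revert h; decide
      · omega
    · have h6 : q ^ i ≤ q ^ (k - 1) := Nat.pow_le_pow_right (by omega) (by omega)
      have h7 : q ^ k = q ^ (k - 1) * q := by rw [← pow_succ]; congr 1; omega
      have h8 : q ≤ q ^ (k - 1) := by
        calc q = q ^ 1 := (pow_one q).symm
          _ ≤ _ := Nat.pow_le_pow_right (by omega) (by omega)
      rcases Nat.lt_or_ge q 4 with h9 | h9
      · have hq3 : q = 3 := by omega
        subst hq3
        have hk3 : 3 ≤ k := by omega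
        have h10 : 3 ^ 2 ≤ 3 ^ (k - 1) := Nat.pow_le_pow_right (by omega) (by omega)
        omega
      · have h10 : q ^ (k - 1) * 4 ≤ q ^ (k - 1) * q := Nat.mul_le_mul_left _ h9
        omega

/-- `θ = φ` -/
theorem exists_cus_one {q : ℕ} (hq : Nat.card K = q) (k : ℕ) (hk : 0 < k) (h5 : 3 < q ^ k)
    (h22 : ¬ (q = 2 ∧ k = 2)) : ∃ c : GL (Fin k) K → ℂ, Cus K k (RingHom.id K) (fun z => z ^ 1 = 1) c := by
  have h2 : 2 ≤ q := by rw [← hq]; exact Finite.one_lt_card
  refine exists_cus k hk 1 one_ne_zero (fun i hi hik h => ?_) (fun i hik h => ?_)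
  · rw [hq, one_mul] at h
    have h1 : q ^ i < q ^ k := Nat.pow_lt_pow_right h2 hik
    have h3 : 1 < q ^ i := Nat.one_lt_pow hi.ne' (by omega)
    exact absurd (Nat.le_of_dvd (by omega) h) (by omega)
  · rw [hq, one_mul] at h
    have h1 := Nat.le_of_dvd (by omega) h
    rcases Nat.eq_zero_or_pos i with rfl | hi
    · rw [pow_zero] at h1 h
      omega
    · have h6 : q ^ i ≤ q ^ (k - 1) := Nat.pow_le_pow_right (by omega) (by omega)
      have h7 : q ^ k = q ^ (k - 1) * q := by rw [← pow_succ]; congr 1; omega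
      have h8 : q ≤ q ^ (k - 1) := by
        calc q = q ^ 1 := (pow_one q).symm
          _ ≤ _ := Nat.pow_le_pow_right (by omega) (by omega)
      rcases Nat.lt_or_ge q 3 with h9 | h9
      · have hq3 : q = 2 := by omega
        subst hq3
        have hk3 : 3 ≤ k := by omega
        have h10 : 2 ^ 2 ≤ 2 ^ (k - 1) := Nat.pow_le_pow_right (by omega) (by omega)
        omega
      · have h10 : q ^ (k - 1) * 3 ≤ q ^ (k - 1) * q := Nat.mul_le_mul_left _ h9
        omega

end Cfsg.Agent.H477.HC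
end

-- part: H477/HC/Arith
section
set_option linter.all false
open scoped Cfsg.Agent.FastGrp

/-!
# Divisibility of the degrees (hub H5, helper477)

`dg F k` : the degree `|F.Om k| ∏_{0<i<k} (q^i - 1)`;
`key_dvd` : if `M |F'.iso|` divides `q^y |F.iso|` then `M` divides `p^e (dg F k) (q^k - 1)`.
`key_div` : the same for `M = M' (q^k - 1)`.
-/

set_option autoImplicit false

open scoped ComplexConjugate
open Cfsg

namespace Cfsg.Agent.H477.HC

open Cfsg.Agent.Characters Module Cfsg.Agent.H53.HC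

universe u v w

/-- the degree -/
noncomputable def dg {K : Type u} [Field K] {V : Type v} [AddCommGroup V] [Module K V] (F : CForm K V) (k : ℕ) : ℕ :=
  Nat.card (F.Om k) * ∏ i ∈ Finset.Ico 1 k, (Nat.card K ^ i - 1)

theorem card_GL_eq (K : Type u) [Field K] [Finite K] (k : ℕ) (hk : 0 < k) :
    ∃ s, Nat.card (GL (Fin k) K) = Nat.card K ^ s *
      ((∏ i ∈ Finset.Ico 1 k, (Nat.card K ^ i - 1)) * (Nat.card K ^ k - 1)) := by
  classical
  let _ := Fintype.ofFinite K
  set q := Nat.card K with hq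
  have h1 : Nat.card (GL (Fin k) K) = ∏ i : Fin k, (q ^ k - q ^ (i : ℕ)) := by
    rw [Matrix.card_GL_field, hq, Nat.card_eq_fintype_card]
  have h2 : ∏ i : Fin k, (q ^ k - q ^ (i : ℕ)) = ∏ i ∈ Finset.range k, (q ^ i * (q ^ (k - i) - 1)) := by
    rw [Finset.prod_range]
    refine Finset.prod_congr rfl fun i _ => ?_
    rw [Nat.mul_sub, mul_one, ← pow_add, Nat.add_sub_cancel' i.2.le]
  have h3 : ∏ i ∈ Finset.range k, (q ^ (k - i) - 1) = ∏ i ∈ Finset.range k, (q ^ (i + 1) - 1) := by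
    rw [← Finset.prod_range_reflect]
    refine Finset.prod_congr rfl fun i hi => ?_
    rw [Finset.mem_range] at hi
    congr 2
    omega
  have h4 : ∏ i ∈ Finset.range k, (q ^ (i + 1) - 1) = (∏ i ∈ Finset.Ico 1 k, (q ^ i - 1)) * (q ^ k - 1) := by
    obtain ⟨j, rfl⟩ : ∃ j, k = j + 1 := ⟨k - 1, by omega⟩
    rw [Finset.prod_range_succ, Finset.prod_Ico_eq_prod_range]
    congr 1
    refine Finset.prod_congr (by congr 1) fun i _ => ?_
    rw [add_comm]
  refine ⟨∑ i ∈ Finset.range k, i, ?_⟩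
  rw [h1, h2, Finset.prod_mul_distrib, h3, h4, Finset.prod_pow_eq_pow_sum]

section

variable {K : Type u} [Field K] [Finite K] {V : Type v} [AddCommGroup V] [Module K V] {F : CForm K V}
  {X : Type w} [AddCommGroup X] [Module K X] {F' : CForm K X}

theorem card_pow (K : Type u) [Field K] [Finite K] (p : ℕ) [Fact p.Prime] [CharP K p] : ∃ s, Nat.card K = p ^ s := by
  let _ := Fintype.ofFinite K
  obtain ⟨n, -, hn⟩ := FiniteField.card K p
  exact ⟨n, by rw [Nat.card_eq_fintype_card, hn]⟩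

theorem key_dvd {k : ℕ} (hk : 0 < k) {p : ℕ} [Fact p.Prime] [CharP K p] [Finite F'.iso]
    (h : ∃ a, Nat.card F.iso ∣ p ^ a * (Nat.card (F.Om k) * Nat.card (GL (Fin k) K) * Nat.card F'.iso)) {M y : ℕ}
    (hM : M * Nat.card F'.iso ∣ Nat.card K ^ y * Nat.card F.iso) :
    ∃ e, M ∣ p ^ e * (dg F k * (Nat.card K ^ k - 1)) := by
  obtain ⟨a, h⟩ := h
  obtain ⟨s, hs⟩ := card_GL_eq K k hk
  obtain ⟨t, ht⟩ := card_pow K p
  have h1 : M * Nat.card F'.iso ∣ (p ^ (t * y + a + t * s) * (dg F k * (Nat.card K ^ k - 1))) * Nat.card F'.iso := by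
    refine hM.trans ?_
    refine (Nat.mul_dvd_mul_left _ h).trans ?_
    rw [hs]
    unfold dg
    have : Nat.card K ^ y * (p ^ a * (Nat.card (F.Om k) * (Nat.card K ^ s *
        ((∏ i ∈ Finset.Ico 1 k, (Nat.card K ^ i - 1)) * (Nat.card K ^ k - 1))) * Nat.card F'.iso)) =
        (Nat.card K ^ y * p ^ a * Nat.card K ^ s) * (Nat.card (F.Om k) * (∏ i ∈ Finset.Ico 1 k, (Nat.card K ^ i - 1)) *
          (Nat.card K ^ k - 1)) * Nat.card F'.iso := by ring
    rw [this]
    have h2 : Nat.card K ^ y * p ^ a * Nat.card K ^ s = p ^ (t * y + a + t * s) := by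
      rw [ht, ← pow_mul, ← pow_mul, ← pow_add, ← pow_add]
    rw [h2]
  exact ⟨_, Nat.dvd_of_mul_dvd_mul_right Nat.card_pos h1⟩

theorem key_div {k : ℕ} (hk : 0 < k) {p : ℕ} {M : ℕ}
    (h : ∃ e, M * (Nat.card K ^ k - 1) ∣ p ^ e * (dg F k * (Nat.card K ^ k - 1))) :
    ∃ e, M ∣ p ^ e * dg F k := by
  obtain ⟨e, h⟩ := h
  refine ⟨e, ?_⟩
  have h1 : 1 < Nat.card K ^ k := Nat.one_lt_pow hk.ne' Finite.one_lt_card
  rw [← mul_assoc] at h
  exact Nat.dvd_of_mul_dvd_mul_right (by omega) h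

/-- from `p ^ e * d` to `d` -/
theorem prime_pow_dvd {r p e d t : ℕ} (hr : r.Prime) (hp : p.Prime) (hrp : r ≠ p) (h : r ^ t ∣ p ^ e * d) : r ^ t ∣ d :=
  (Nat.Coprime.pow t e ((Nat.coprime_primes hr hp).2 hrp)).dvd_of_dvd_mul_left h

end

/-- the order of `Sp` -/
theorem card_spF (K : Type u) [Field K] [Finite K] (m : ℕ) : Nat.card (CForm.spF K m).iso =
    Nat.card K ^ (m ^ 2) * ∏ i ∈ Finset.range m, (Nat.card K ^ (2 * (i + 1)) - 1) := by
  let _ := Fintype.ofFinite K
  rw [← Nat.card_congr (isoSp m K).toEquiv, Nat.card_eq_fintype_card (α := K)]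
  exact Cfsg.Agent.S0245.result rfl m

end Cfsg.Agent.H477.HC
end

-- part: H113/PSU/Chars
section
prune_inst 0x2000416840020000040092312020855500049200000000e0640d460048826289c020000a0014020248200110010000010000d0020000000a00000000000020800050043300010404001f80008001000000000000000000000080000000000400c010000
set_option linter.all false
open scoped Cfsg.Agent.FastGrp

-- part: H113/PSU/Count
section
/-!
# Counting the isotropic points; rank 3 (helper113)
-/

set_option autoImplicit false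
set_option linter.unusedSectionVars false

namespace Cfsg.Agent.H113.PSU.Points

open Cfsg Cfsg.Agent.LieClassical.HermBasic Cfsg.Agent.LieClassical.HermSiegel
open Cfsg.Agent.H690.Spor.RankThree Cfsg.Agent.H690.Spor.RankThree.R3

universe u

variable {F : Type u} [Field F] [Fintype F] {q n m : ℕ}

/-- vectors with two distinguished coordinates -/
def vec (a b : F) (w : Fin m → F) : Fin (m + 2) → F := Fin.cons a (Fin.cons b w)

theorem exists_vec (v : Fin (m + 2) → F) : ∃ (a b : F) (w : Fin m → F), v = vec a b w := by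
  refine ⟨v 0, v 1, fun i => v i.succ.succ, ?_⟩
  unfold vec
  ext i
  refine Fin.cases ?_ (fun j => ?_) i
  · rfl
  · refine Fin.cases ?_ (fun k => ?_) j
    · rfl
    · rfl

theorem vec_inj {a b a' b' : F} {w w' : Fin m → F} : vec a b w = vec a' b' w' ↔ a = a' ∧ b = b' ∧ w = w' := by
  unfold vec
  rw [Fin.cons_inj, Fin.cons_inj]

theorem smul_vec (c a b : F) (w : Fin m → F) : c • vec a b w = vec (c * a) (c * b) (c • w) := by
  unfold vec
  ext i
  refine Fin.cases rfl (fun j => ?_) i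
  refine Fin.cases rfl (fun k => rfl) j

theorem herm_vec (a b c d : F) (w w' : Fin m → F) :
    hermForm (m + 2) F q (vec a b w) (vec c d w') = a * c ^ q + b * d ^ q + hermForm m F q w w' := by
  rw [herm_def, Fin.sum_univ_succ, Fin.sum_univ_succ, herm_def, ← add_assoc]
  rfl

theorem vec_ne {a b : F} (ha : a ≠ 0) (w : Fin m → F) : vec a b w ≠ 0 := by
  intro h
  have := congrFun h 0
  exact ha this

/-- the number of isotropic vectors -/
noncomputable def Niso (m : ℕ) (F : Type u) [Field F] (q : ℕ) : ℕ := Nat.card {w : Fin m → F // hermForm m F q w w = 0}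

theorem Niso_eq (hF : Fintype.card F = q ^ 2) (hm : 1 ≤ m) :
    (Niso m F q : ℤ) = ((q : ℤ) ^ m - (-1) ^ m) * (q ^ (m - 1) + (-1) ^ m) + 1 := by
  unfold Niso
  rw [Cfsg.Agent.S0285.result hF m]
  have h1 : 1 ≤ q ^ m := Nat.one_le_pow _ _ (q_pos hF)
  have h2 : 1 ≤ q ^ (m - 1) := Nat.one_le_pow _ _ (q_pos hF)
  split_ifs with h
  · rw [h.neg_one_pow]
    push_cast [Nat.cast_sub h1]
    ring
  · rw [(Nat.not_even_iff_odd.1 h).neg_one_pow]
    push_cast [Nat.cast_sub h2]
    ring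

section

variable (hF : Fintype.card F = q ^ 2) {x y : F} (hx : 1 + x ^ (q + 1) = 0) (hy : 1 + y ^ (q + 1) = 0)
  (hxy : 1 + x * y ^ q ≠ 0)

include hF hx in
theorem herm_vec_e {a b : F} {w : Fin m → F} : hermForm (m + 2) F q (vec a b w) (vec 1 x 0) = 0 ↔ b = a * x := by
  rw [herm_vec, one_pow, mul_one, herm_zero_right hF, add_zero]
  have h1 : x * x ^ q = -1 := by
    rw [← pow_succ']
    linear_combination hx
  have hx0 : x ≠ 0 := by
    rintro rfl
    rw [zero_mul] at h1
    exact one_ne_zero (neg_eq_zero.1 h1.symm)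
  constructor
  · intro h
    linear_combination -x * h + b * h1
  · rintro rfl
    linear_combination a * h1

include hF hx in
theorem herm_e : hermForm (m + 2) F q (vec 1 x 0) (vec 1 x 0) = 0 := (herm_vec_e hF hx).2 (by rw [one_mul])

include hF hx in
/-- isotropic vectors perpendicular to `e` -/
theorem card_perp_e : Nat.card {v : Fin (m + 2) → F // hermForm (m + 2) F q v v = 0 ∧
    hermForm (m + 2) F q v (vec 1 x 0) = 0} = q ^ 2 * Niso m F q := by
  have h1 : x * x ^ q = -1 := by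
    rw [← pow_succ']
    linear_combination hx
  have key : ∀ (a : F) (w : Fin m → F), hermForm (m + 2) F q (vec a (a * x) w) (vec a (a * x) w) =
      hermForm m F q w w := by
    intro a w
    rw [herm_vec, mul_pow]
    linear_combination (a * a ^ q) * h1
  let φ : F × {w : Fin m → F // hermForm m F q w w = 0} → {v : Fin (m + 2) → F // hermForm (m + 2) F q v v = 0 ∧
      hermForm (m + 2) F q v (vec 1 x 0) = 0} := fun p =>
    ⟨vec p.1 (p.1 * x) p.2.1, by rw [key]; exact p.2.2, (herm_vec_e hF hx).2 rfl⟩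
  have hφ : Function.Bijective φ := by
    constructor
    · rintro ⟨a, w⟩ ⟨b, w'⟩ h
      obtain ⟨h2, -, h3⟩ := vec_inj.1 (congrArg Subtype.val h)
      have h4 : w = w' := Subtype.ext h3
      have h5 : a = b := h2
      rw [h4, h5]
    · rintro ⟨v, hv, hv'⟩
      obtain ⟨a, b, w, rfl⟩ := exists_vec v
      rw [herm_vec_e hF hx] at hv'
      subst hv'
      rw [key] at hv
      exact ⟨(a, ⟨w, hv⟩), rfl⟩
  rw [← Nat.card_congr (Equiv.ofBijective φ hφ), Nat.card_prod, Nat.card_eq_fintype_card (α := F), hF]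
  rfl

include hF hx hxy in
theorem card_perp_ef : Nat.card {v : Fin (m + 2) → F // hermForm (m + 2) F q v v = 0 ∧
    hermForm (m + 2) F q v (vec 1 x 0) = 0 ∧ hermForm (m + 2) F q v (vec 1 y 0) = 0} = Niso m F q := by
  have hq0 : q ≠ 0 := (q_pos hF).ne'
  have key : ∀ w : Fin m → F, hermForm (m + 2) F q (vec 0 0 w) (vec 0 0 w) = hermForm m F q w w := by
    intro w
    rw [herm_vec]
    ring
  let φ : {w : Fin m → F // hermForm m F q w w = 0} → {v : Fin (m + 2) → F // hermForm (m + 2) F q v v = 0 ∧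
      hermForm (m + 2) F q v (vec 1 x 0) = 0 ∧ hermForm (m + 2) F q v (vec 1 y 0) = 0} := fun w =>
    ⟨vec 0 0 w.1, by rw [key]; exact w.2, (herm_vec_e hF hx).2 (by rw [zero_mul]), by
      rw [herm_vec, herm_zero_right hF]; ring⟩
  have hφ : Function.Bijective φ := by
    constructor
    · rintro w w' h
      obtain ⟨-, -, h3⟩ := vec_inj.1 (congrArg Subtype.val h)
      exact Subtype.ext h3
    · rintro ⟨v, hv, hv', hv''⟩
      obtain ⟨a, b, w, rfl⟩ := exists_vec v
      have hb := (herm_vec_e hF hx).1 hv'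
      subst hb
      have ha : a = 0 := by
        rw [herm_vec, herm_zero_right hF, one_pow] at hv''
        have h2 : a * (1 + x * y ^ q) = 0 := by linear_combination hv''
        exact (mul_eq_zero.1 h2).resolve_right hxy
      subst ha
      have h3 : hermForm m F q w w = 0 := by
        rw [zero_mul, key] at hv
        exact hv
      refine ⟨⟨w, h3⟩, Subtype.ext ?_⟩
      change vec 0 0 w = vec 0 (0 * x) w
      rw [zero_mul]
  rw [← Nat.card_congr (Equiv.ofBijective φ hφ)]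
  rfl

theorem card_ne_zero_vec (hF : Fintype.card F = q ^ 2) (P : (Fin n → F) → Prop) (h0 : P 0) :
    Nat.card {v : Fin n → F // v ≠ 0 ∧ hermForm n F q v v = 0 ∧ P v} + 1 =
      Nat.card {v : Fin n → F // hermForm n F q v v = 0 ∧ P v} := by
  classical
  rw [Nat.card_eq_fintype_card, Nat.card_eq_fintype_card, Fintype.card_subtype, Fintype.card_subtype]
  have : (Finset.univ.filter fun v : Fin n → F => hermForm n F q v v = 0 ∧ P v) =
      insert 0 (Finset.univ.filter fun v : Fin n → F => v ≠ 0 ∧ hermForm n F q v v = 0 ∧ P v) := by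
    ext v
    simp only [Finset.mem_filter, Finset.mem_univ, true_and, Finset.mem_insert]
    constructor
    · rintro ⟨h1, h2⟩
      by_cases h3 : v = 0
      · exact Or.inl h3
      · exact Or.inr ⟨h3, h1, h2⟩
    · rintro (rfl | ⟨-, h1, h2⟩)
      · exact ⟨herm_zero_left 0, h0⟩
      · exact ⟨h1, h2⟩
  rw [this, Finset.card_insert_of_notMem]
  simp only [_root_.ne_eq, _root_.Finset.mem_filter, _root_.Finset.mem_univ, _root_.not_true_eq_false, _root_.false_and, _root_.and_false, _root_.not_false_eq_true]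

include hF in
theorem card_Pt : (q ^ 2 - 1) * Nat.card (Pt n F q) + 1 = Niso n F q := by
  have h1 := card_pts hF (n := n) (fun _ => True) (fun _ _ _ _ => trivial)
  have h2 := card_ne_zero_vec (n := n) hF (fun _ => True) trivial
  have h3 : Nat.card {x : Pt n F q // ∀ v ∈ x.1, v ≠ 0 → True} = Nat.card (Pt n F q) :=
    Nat.card_congr ⟨fun x => x.1, fun x => ⟨x, fun _ _ _ => trivial⟩, fun x => rfl, fun x => rfl⟩
  rw [h3] at h1
  rw [h1, h2]
  unfold Niso
  refine Nat.card_congr (Equiv.subtypeEquivRight fun v => ?_)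
  simp

include hF hx in
/-- the points of the perpendicular space -/
theorem card_rel : (q ^ 2 - 1) * (1 + Nat.card {z : Pt (m + 2) F q //
    Rel (pt (vec 1 x 0) (vec_ne one_ne_zero _) (herm_e hF hx)) z}) + 1 = q ^ 2 * Niso m F q := by
  classical
  have h1 := card_pts hF (n := m + 2) (fun v => hermForm (m + 2) F q v (vec 1 x 0) = 0)
    (fun c _ v hv => by rw [herm_smul_left, hv, mul_zero])
  have h2 := card_ne_zero_vec (n := m + 2) hF (fun v => hermForm (m + 2) F q v (vec 1 x 0) = 0) (herm_zero_left _)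
  rw [card_perp_e hF hx, ← h1] at h2
  rw [← h2]
  congr 2
  set p : Pt (m + 2) F q := pt (vec 1 x 0) (vec_ne one_ne_zero _) (herm_e hF hx) with hp
  have h3 : ∀ z : Pt (m + 2) F q, (∀ v ∈ z.1, v ≠ 0 → hermForm (m + 2) F q v (vec 1 x 0) = 0) ↔
      z = p ∨ Rel p z := by
    intro z
    constructor
    · intro h
      by_cases hz : z = p
      · exact Or.inl hz
      · refine Or.inr ⟨Ne.symm hz, fun u hu v hv => ?_⟩
        obtain ⟨c, rfl⟩ := Submodule.mem_span_singleton.1 hu
        rw [herm_smul_left]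
        by_cases hv0 : v = 0
        · rw [hv0, herm_zero_right hF, mul_zero]
        · rw [herm_eq_zero_swap hF (h v hv hv0), mul_zero]
    · rintro (rfl | ⟨-, h⟩) v hv hv0
      · obtain ⟨c, rfl⟩ := Submodule.mem_span_singleton.1 hv
        rw [herm_smul_left, herm_e hF hx, mul_zero]
      · exact herm_eq_zero_swap hF (h _ (Submodule.mem_span_singleton_self _) v hv)
  have h4 : Nat.card {z : Pt (m + 2) F q // ∀ v ∈ z.1, v ≠ 0 → hermForm (m + 2) F q v (vec 1 x 0) = 0} =
      Nat.card (Option {z : Pt (m + 2) F q // Rel p z}) := by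
    refine (Nat.card_congr (Equiv.ofBijective (fun o : Option {z : Pt (m + 2) F q // Rel p z} =>
      (⟨o.elim p (fun z => z.1), (h3 _).2 (by
        cases o with
        | none => exact Or.inl rfl
        | some z => exact Or.inr z.2)⟩ : {z : Pt (m + 2) F q // ∀ v ∈ z.1, v ≠ 0 →
          hermForm (m + 2) F q v (vec 1 x 0) = 0})) ⟨?_, ?_⟩)).symm
    · rintro (_ | z) (_ | z') h
      · rfl
      · exact absurd (congrArg Subtype.val h) (z'.2.1)
      · exact absurd (congrArg Subtype.val h) (Ne.symm z.2.1)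
      · have h5 : z.1 = z'.1 := by
          have h6 := congrArg Subtype.val h
          exact h6
        have : z = z' := Subtype.ext h5
        rw [this]
    · rintro ⟨z, hz⟩
      rcases (h3 z).1 hz with h | h
      · exact ⟨none, Subtype.ext h.symm⟩
      · exact ⟨some ⟨z, h⟩, rfl⟩
  rw [h4, Finite.card_option, add_comm]

include hF hx hy hxy in
/-- the common neighbours -/
theorem card_com : (q ^ 2 - 1) * com Rel (pt (vec 1 x 0) (vec_ne one_ne_zero _) (herm_e hF hx) : Pt (m + 2) F q)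
    (pt (vec 1 y 0) (vec_ne one_ne_zero _) (herm_e hF hy)) + 1 = Niso m F q := by
  classical
  have h1 := card_pts hF (n := m + 2) (fun v => hermForm (m + 2) F q v (vec 1 x 0) = 0 ∧
    hermForm (m + 2) F q v (vec 1 y 0) = 0)
    (fun c _ v hv => by rw [herm_smul_left, hv.1, herm_smul_left, hv.2, mul_zero]; exact ⟨rfl, rfl⟩)
  have h2 := card_ne_zero_vec (n := m + 2) hF (fun v => hermForm (m + 2) F q v (vec 1 x 0) = 0 ∧
    hermForm (m + 2) F q v (vec 1 y 0) = 0) ⟨herm_zero_left _, herm_zero_left _⟩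
  rw [card_perp_ef hF hx hxy, ← h1] at h2
  rw [← h2]
  congr 2
  unfold com
  have hne : hermForm (m + 2) F q (vec 1 x 0) (vec 1 y 0) ≠ 0 := by
    rw [herm_vec, herm_zero_right hF, one_pow, one_mul, add_zero]
    exact hxy
  refine Nat.card_congr (Equiv.subtypeEquivRight fun z => ?_)
  constructor
  · rintro ⟨⟨-, h3⟩, -, h4⟩ v hv _
    exact ⟨herm_eq_zero_swap hF (h3 _ (Submodule.mem_span_singleton_self _) v hv),
      h4 v hv _ (Submodule.mem_span_singleton_self _)⟩
  · intro h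
    obtain ⟨v, h0, hv, rfl⟩ := exists_pt z
    obtain ⟨h3, h4⟩ := h v (Submodule.mem_span_singleton_self _) h0
    rw [rel_iff hF, rel_iff hF]
    refine ⟨⟨?_, herm_eq_zero_swap hF h3⟩, ?_, h4⟩
    · rintro ⟨c, hc, hcv⟩
      apply hne
      rw [hcv, herm_smul_left, h4, mul_zero]
    · rintro ⟨c, hc, hcv⟩
      rw [hcv, herm_smul_left] at h3
      exact hne (herm_eq_zero_swap hF ((mul_eq_zero.1 h3).resolve_left hc))

end

/-- **rank 3** -/
theorem r3 (hF : Fintype.card F = q ^ 2) (hm : 2 ≤ m) : ∃ b : ℕ, 0 < b ∧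
    ((q : ℤ) ^ 2 - 1) * b = ((q : ℤ) ^ m - (-1) ^ m) * (q ^ (m - 1) + (-1) ^ m) ∧
    R3 (SU (m + 2) F q) (Pt (m + 2) F q) Rel (q ^ 2 * b) (q ^ (2 * m + 1)) ∧
    ∃ x₀ y₀ : Pt (m + 2) F q, x₀ ≠ y₀ ∧ ¬ Rel x₀ y₀ ∧ com Rel x₀ y₀ = b := by
  classical
  have hcard : Nat.card F = q ^ 2 := by rw [Nat.card_eq_fintype_card, hF]
  have hq2 := two_le hF
  obtain ⟨x, y, hx, hy, hxy⟩ := Cfsg.Agent.H477.HC.CForm.exists_norm_neg_one hcard
  obtain ⟨b, hb⟩ : ∃ b, b = com Rel (pt (vec 1 x 0) (vec_ne one_ne_zero _) (herm_e hF hx) : Pt (m + 2) F q)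
    (pt (vec 1 y 0) (vec_ne one_ne_zero _) (herm_e hF hy)) := ⟨_, rfl⟩
  have hb1 : (q ^ 2 - 1) * b + 1 = Niso m F q := by rw [hb]; exact card_com hF hx hy hxy
  obtain ⟨k, hk⟩ : ∃ k, k = Nat.card {z : Pt (m + 2) F q //
    Rel (pt (vec 1 x 0) (vec_ne one_ne_zero _) (herm_e hF hx)) z} := ⟨_, rfl⟩
  have hk1 : (q ^ 2 - 1) * (1 + k) + 1 = q ^ 2 * Niso m F q := by rw [hk]; exact card_rel hF hx
  have hv1 := card_Pt (n := m + 2) hF
  have hN := Niso_eq (m := m) hF (by omega)
  have hN2 := Niso_eq (m := m + 2) hF (by omega)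
  have hqq : 1 ≤ q ^ 2 := Nat.one_le_pow _ _ (by omega)
  have hq1 : ((q ^ 2 - 1 : ℕ) : ℤ) = (q : ℤ) ^ 2 - 1 := by push_cast [Nat.cast_sub hqq]; ring
  have hqpos : (0 : ℤ) < (q : ℤ) ^ 2 - 1 := by
    have : (2 : ℤ) ≤ q := by exact_mod_cast hq2
    nlinarith only [hq2]
  have hbZ : ((q : ℤ) ^ 2 - 1) * b = ((q : ℤ) ^ m - (-1) ^ m) * (q ^ (m - 1) + (-1) ^ m) := by
    have h1 : (((q ^ 2 - 1 : ℕ) : ℤ)) * b + 1 = Niso m F q := by exact_mod_cast hb1
    rw [hq1, hN] at h1
    linear_combination h1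
  have hkb : k = q ^ 2 * b := by
    have h1 : (((q ^ 2 - 1 : ℕ) : ℤ)) * (1 + k) + 1 = (q : ℤ) ^ 2 * Niso m F q := by exact_mod_cast hk1
    have h2 : (((q ^ 2 - 1 : ℕ) : ℤ)) * b + 1 = Niso m F q := by exact_mod_cast hb1
    rw [hq1] at h1 h2
    have h3 : ((q : ℤ) ^ 2 - 1) * k = ((q : ℤ) ^ 2 - 1) * ((q : ℤ) ^ 2 * b) := by
      linear_combination h1 - (q : ℤ) ^ 2 * h2
    have h4 := mul_left_cancel₀ hqpos.ne' h3
    exact_mod_cast h4
  have hcardn : Nat.card (Pt (m + 2) F q) = 1 + q ^ 2 * b + q ^ (2 * m + 1) := by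
    have h1 : (((q ^ 2 - 1 : ℕ) : ℤ)) * Nat.card (Pt (m + 2) F q) + 1 = Niso (m + 2) F q := by exact_mod_cast hv1
    rw [hq1, hN2] at h1
    have h2 : ((q : ℤ) ^ 2 - 1) * Nat.card (Pt (m + 2) F q) =
        ((q : ℤ) ^ 2 - 1) * ((1 + q ^ 2 * b + q ^ (2 * m + 1) : ℕ) : ℤ) := by
      push_cast
      have e1 : ((q : ℤ) ^ 2 - 1) * (1 + q ^ 2 * b + q ^ (2 * m + 1)) = ((q : ℤ) ^ 2 - 1) * (1 + q ^ (2 * m + 1)) +
        (q : ℤ) ^ 2 * (((q : ℤ) ^ 2 - 1) * b) := by ring
      rw [e1, hbZ]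
      obtain ⟨j, rfl⟩ : ∃ j, m = j + 1 := ⟨m - 1, by omega⟩
      have e2 : ((-1 : ℤ)) ^ (j + 1 + 2) = (-1) ^ (j + 1) := by ring
      have e3 : ((-1 : ℤ) ^ (j + 1)) * (-1) ^ (j + 1) = 1 := by
        rw [← mul_pow]; simp
      rw [e2] at h1
      have e4 : j + 1 + 2 - 1 = j + 2 := by omega
      have e5 : j + 1 - 1 = j := by omega
      rw [e4] at h1
      rw [e5]
      have h3 := h1
      linear_combination h1 + ((q : ℤ) ^ 2 - 1) * e3
    have h3 := mul_left_cancel₀ hqpos.ne' h2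
    exact_mod_cast h3
  have hb0 : 0 < b := by
    rcases Nat.eq_zero_or_pos b with h | h
    · exfalso
      rw [h] at hbZ
      rw [Nat.cast_zero, mul_zero] at hbZ
      have h1 : (4 : ℤ) ≤ (q : ℤ) ^ m := by
        have : q ^ 2 ≤ q ^ m := Nat.pow_le_pow_right (by omega) hm
        have h2 : 4 ≤ q ^ 2 := by nlinarith only [hq2]
        exact_mod_cast h2.trans this
      have h2 : (2 : ℤ) ≤ (q : ℤ) ^ (m - 1) := by
        have : q ^ 1 ≤ q ^ (m - 1) := Nat.pow_le_pow_right (by omega) (by omega)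
        rw [pow_one] at this
        exact_mod_cast hq2.trans this
      rcases neg_one_pow_eq_or ℤ m with h3 | h3 <;> rw [h3] at hbZ <;> nlinarith only [hbZ, h1, h2]
    · exact h
  refine ⟨b, hb0, hbZ, ?_, _, _, ?_, ?_, hb.symm⟩
  · refine ⟨⟨trans_pt hF⟩, ?_, fun x h => h.1 rfl, ?_, fun a b c d => trans_rel hF, ?_, ?_, ?_, by positivity, hcardn⟩
    · rintro a b ⟨h1, h2⟩
      exact ⟨Ne.symm h1, fun u hu v hv => herm_eq_zero_swap hF (h2 v hv u hu)⟩
    · rintro g a b ⟨h1, h2⟩
      refine ⟨fun h => h1 (MulAction.injective g h), ?_⟩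
      rintro _ ⟨u, hu, rfl⟩ _ ⟨v, hv, rfl⟩
      exact (herm_act g u v).trans (h2 u hu v hv)
    · intro a b c d h1 h2 h3 h4
      exact trans_opp hF (fun h => h2 ⟨h1, h⟩) (fun h => h4 ⟨h3, h⟩)
    · intro p
      obtain ⟨g, rfl⟩ := trans_pt hF (pt (vec 1 x 0) (vec_ne one_ne_zero _) (herm_e hF hx)) p
      rw [← hkb, hk]
      have hinv : ∀ (g : SU (m + 2) F q) (a b : Pt (m + 2) F q), Rel a b → Rel (g • a) (g • b) := by
        rintro g a b ⟨h1, h2⟩
        refine ⟨fun h => h1 (MulAction.injective g h), ?_⟩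
        rintro _ ⟨u, hu, rfl⟩ _ ⟨v, hv, rfl⟩
        exact (herm_act g u v).trans (h2 u hu v hv)
      refine (Nat.card_congr (Equiv.subtypeEquiv (MulAction.toPerm g) fun a => ⟨hinv g _ _, fun h => ?_⟩)).symm
      have := hinv g⁻¹ _ _ h
      rw [MulAction.toPerm_apply, inv_smul_smul, inv_smul_smul] at this
      exact this
    · positivity
  · intro h
    rw [pt_eq_iff] at h
    obtain ⟨c, hc, h1⟩ := h
    rw [smul_vec, vec_inj, mul_one] at h1
    obtain ⟨rfl, h2, -⟩ := h1
    rw [one_mul] at h2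
    apply hxy
    rw [← h2, ← pow_succ', hx]
  · rw [rel_iff hF]
    rintro ⟨-, h⟩
    rw [herm_vec, herm_zero_right hF, one_pow, one_mul, add_zero] at h
    exact hxy h

end Cfsg.Agent.H113.PSU.Points
end

-- part: H113/PSU/Chars
section
/-!
# The rank 3 characters of `PSU_n(q)`, `n ≥ 4` (helper113)

`exists_chars` : with `n = m + 2`, `ε = (-1)^m`: irreducible characters of `PSU_n(q)` of degrees `f`, `g`,
`(q² - 1)(q + 1) f = q² (q^n - ε)(q^(n-3) + ε)`, `(q² - 1)(q + 1) g = q³ (q^(n-1) + ε)(q^(n-2) - ε)`.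
-/

set_option autoImplicit false
set_option linter.unusedSectionVars false

namespace Cfsg.Agent.H113.PSU.Chars

open Cfsg Cfsg.Agent.LieClassical.HermBasic Cfsg.Agent.LieClassical.HermSiegel
open Cfsg.Agent.H690.Spor.RankThree Cfsg.Agent.H690.Spor.RankThree.R3 Cfsg.Agent.H113.PSU.Points

universe u

variable {F : Type u} [Field F] [Fintype F] {q m : ℕ}

theorem exists_chars (hF : Fintype.card F = q ^ 2) (hm : 2 ≤ m) :
    ∃ (χ₁ χ₂ : PSU (m + 2) F q → ℂ) (f g : ℕ), IsIrrCharacter _ χ₁ ∧ IsIrrCharacter _ χ₂ ∧ χ₁ 1 = f ∧ χ₂ 1 = g ∧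
      ((q : ℤ) ^ 2 - 1) * (q + 1) * f = q ^ 2 * ((q : ℤ) ^ (m + 2) - (-1) ^ m) * (q ^ (m - 1) + (-1) ^ m) ∧
      ((q : ℤ) ^ 2 - 1) * (q + 1) * g = q ^ 3 * ((q : ℤ) ^ (m + 1) + (-1) ^ m) * (q ^ m - (-1) ^ m) := by
  classical
  have hq2 := two_le hF
  obtain ⟨b, hb0, hb, hr3, x₀, y₀, hxy, hR, hcom⟩ := r3 (F := F) (m := m) hF hm
  have := Fintype.ofFinite (Pt (m + 2) F q)
  obtain ⟨e, he⟩ : ∃ e : ℤ, e = (-1) ^ m := ⟨_, rfl⟩
  have hee : e * e = 1 := by rw [he, ← mul_pow]; simp
  rw [← he] at hb ⊢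
  obtain ⟨Q, hQ⟩ : ∃ Q : ℤ, Q = (q : ℤ) := ⟨_, rfl⟩
  have hQ2 : 2 ≤ Q := by rw [hQ]; exact_mod_cast hq2
  obtain ⟨P, hP⟩ : ∃ P : ℤ, P = (q : ℤ) ^ (m - 1) := ⟨_, rfl⟩
  have hP0 : 0 < P := by rw [hP]; positivity
  have hm0 : (q : ℤ) ^ m = Q * P := by
    rw [hP, hQ, ← pow_succ']; congr 1; omega
  have hm1 : (q : ℤ) ^ (m + 1) = Q ^ 2 * P := by rw [pow_succ, hm0, ← hQ]; ring
  have hm2 : (q : ℤ) ^ (m + 2) = Q ^ 3 * P := by rw [pow_succ, hm1, ← hQ]; ring
  have hl : ((q ^ (2 * m + 1) : ℕ) : ℤ) = Q ^ 3 * P ^ 2 := by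
    push_cast
    have : 2 * m + 1 = m + (m + 1) := by ring
    rw [this, pow_add, hm0, hm1]; ring
  rw [hm0, ← hP, ← hQ] at hb
  have hne : e ≠ 0 := by rintro rfl; rw [zero_mul] at hee; exact zero_ne_one hee
  have hd : (e * (Q * P) - 1) - (-(e * P) - 1) ≠ 0 := by
    have : (e * (Q * P) - 1) - (-(e * P) - 1) = e * P * (Q + 1) := by ring
    rw [this]
    exact mul_ne_zero (mul_ne_zero hne hP0.ne') (by omega)
  obtain ⟨χ₁, χ₂, f, g, hf, hg, h1, h2, -, h3⟩ := Rank3.frame_exact hr3 hxy hR hcom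
    (r := e * (Q * P) - 1) (s := -(e * P) - 1) (sub_ne_zero.1 hd)
    (by push_cast; rw [← hQ]; linear_combination hb - (Q * P ^ 2) * hee - hee)
    (by
      rw [hl]; push_cast; rw [← hQ]
      linear_combination (-(Q ^ 2 * b)) * hb + (Q ^ 2 * b) * hee)
  have hkl : ((q ^ 2 * b : ℕ) : ℤ) = Q ^ 2 * b := by push_cast; rw [hQ]
  rw [hl, hkl] at h1 h2
  have hcen : ∀ z ∈ Subgroup.center (SU (m + 2) F q), ∀ y : Pt (m + 2) F q, z • y = y := by
    intro z hz y
    obtain ⟨c, hc, -, hc'⟩ := Cfsg.Agent.ClassicalGeometry.PSUAutBasic.exists_scalar_of_mem_center hF (by omega) hz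
    obtain ⟨v, h0, hv, rfl⟩ := exists_pt y
    rw [smul_pt, pt_eq_iff]
    exact ⟨c, hc, hc' v⟩
  obtain ⟨η₁, hη₁, hη₁'⟩ := Cfsg.Agent.H477.HC.exists_quot (Subgroup.center (SU (m + 2) F q)) χ₁.2
    (fun z hz => by rw [(h3 z (hcen z hz)).1, hf])
  obtain ⟨η₂, hη₂, hη₂'⟩ := Cfsg.Agent.H477.HC.exists_quot (Subgroup.center (SU (m + 2) F q)) χ₂.2
    (fun z hz => by rw [(h3 z (hcen z hz)).2, hg])
  refine ⟨η₁, η₂, f, g, hη₁, hη₂, ?_, ?_, ?_, ?_⟩
  · rw [← hf, ← hη₁' 1]; rfl
  · rw [← hg, ← hη₂' 1]; rfl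
  · -- `e P (Q + 1) f = e P (v - 1) + Q³ P²`
    rw [hm2, ← hP, ← hQ]
    apply mul_left_cancel₀ (mul_ne_zero hne hP0.ne')
    linear_combination (Q ^ 2 - 1) * h1 + (e * P * Q ^ 2) * hb + (P ^ 2 * (Q ^ 3 - Q ^ 5)) * hee
  · rw [hm1, hm0, ← hQ]
    apply mul_left_cancel₀ (mul_ne_zero hne hP0.ne')
    linear_combination (Q ^ 2 - 1) * h2 + (e * P * Q ^ 3) * hb + (P ^ 2 * (Q ^ 5 - Q ^ 3)) * hee

end Cfsg.Agent.H113.PSU.Chars
end

private theorem dce_0dd6200cffd1 : _root_.True := by
  try have : _root_.True := by simp only [_root_.Cfsg.Agent.H113.PSU.Points.pt.congr_simp]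
  exact _root_.True.intro
end

-- part: H113/PSU/Descent
section
set_option linter.all false
open scoped Cfsg.Agent.FastGrp

/-!
# From `GU_n(q)` to `PSU_n(q)` (helper113)

`exists_psu` : an irreducible character `χ` of `GU_n(q)`, trivial on the scalars, of degree `d`, gives an irreducible character
of `PSU_n(q)` of degree `e`, `e ∣ d`, `d / e ∣ q + 1`.
-/

set_option autoImplicit false
set_option linter.unusedSectionVars false

namespace Cfsg.Agent.H113.PSU.Descent

open Cfsg Cfsg.Agent.LieClassical.HermBasic Cfsg.Agent.LieClassical.HermSiegel Cfsg.Agent.Characters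
open Cfsg.Agent.H477.HC

universe u

variable {F : Type u} [Field F] [Fintype F] {q n : ℕ}

/-- `SU ≤ GU` -/
def toGU (n : ℕ) (F : Type u) [Field F] (q : ℕ) : SU n F q →* GU n F q :=
  (Matrix.SpecialLinearGroup.toGL.comp (SU n F q).subtype).codRestrict (GU n F q) (fun g => g.2)

omit [Fintype F] in
theorem toGU_injective : Function.Injective (toGU n F q) := by
  intro a b h
  apply Subtype.ext
  exact Matrix.SpecialLinearGroup.toGL_injective (congrArg Subtype.val h)

/-- the kernel of the determinant -/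
def NN (n : ℕ) (F : Type u) [Field F] (q : ℕ) : Subgroup (GU n F q) :=
  (Matrix.GeneralLinearGroup.det.comp (GU n F q).subtype).ker

instance NN_normal : (NN n F q).Normal := MonoidHom.normal_ker _

/-- `SU ≃ ker det` -/
noncomputable def eSU (n : ℕ) (F : Type u) [Field F] (q : ℕ) : SU n F q ≃* NN n F q :=
  MulEquiv.ofBijective ((toGU n F q).codRestrict (NN n F q) (fun g => by
    change Matrix.GeneralLinearGroup.det ((toGU n F q g : GU n F q) : GL (Fin n) F) = 1
    apply Units.ext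
    change ((g : Matrix.SpecialLinearGroup (Fin n) F) : Matrix (Fin n) (Fin n) F).det = 1
    exact (g : Matrix.SpecialLinearGroup (Fin n) F).2))
    ⟨fun a b h => toGU_injective (congrArg Subtype.val h), fun x => by
      have h1 : ((x : GU n F q) : GL (Fin n) F).1.det = 1 := by
        have h2 : Matrix.GeneralLinearGroup.det ((x : GU n F q) : GL (Fin n) F) = 1 := x.2
        have h3 := congrArg Units.val h2
        exact h3
      refine ⟨⟨⟨((x : GU n F q) : GL (Fin n) F).1, h1⟩, (x : GU n F q).2⟩, ?_⟩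
      apply Subtype.ext
      apply Subtype.ext
      exact Units.ext rfl⟩

theorem eSU_val (g : SU n F q) (v : Fin n → F) :
    ((((eSU n F q g : NN n F q) : GU n F q) : GL (Fin n) F) : Matrix (Fin n) (Fin n) F).mulVec v = act g v := rfl

/-- the index -/
theorem index_NN (hF : Fintype.card F = q ^ 2) (hn : 1 ≤ n) : (NN n F q).index = q + 1 := by
  have h1 := (NN n F q).index_mul_card
  rw [← Nat.card_congr (eSU n F q).toEquiv] at h1
  have h2 := Cfsg.Agent.S0277.result hF n
  have h3 := Cfsg.Agent.S0278.result hF n hn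
  rw [← h2, ← h1] at h3
  exact (Nat.eq_of_mul_eq_mul_right Nat.card_pos h3).symm

/-- **descent to `PSU`** -/
theorem exists_psu (hF : Fintype.card F = q ^ 2) (hn : 3 ≤ n) {χ : GU n F q → ℂ} (hχ : IsIrrCharacter _ χ) {d : ℕ}
    (hd : χ 1 = d) (hz : ∀ (z : GU n F q) (c : F), c * c ^ q = 1 →
      (∀ v, ((z : GL (Fin n) F) : Matrix (Fin n) (Fin n) F).mulVec v = c • v) → χ z = χ 1) :
    ∃ (η : PSU n F q → ℂ) (e : ℕ), IsIrrCharacter _ η ∧ η 1 = e ∧ 0 < e ∧ e ∣ d ∧ d / e ∣ q + 1 := by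
  classical
  obtain ⟨θ, e, hθ, he, h3, h4, h5, h6⟩ := down_constituent (NN n F q) hχ hd
  have hθ' : IsIrrCharacter (SU n F q) (θ ∘ (eSU n F q).toMonoidHom) :=
    Core.isIrr_comp (eSU n F q).toMonoidHom (eSU n F q).surjective hθ
  obtain ⟨η, hη, hη'⟩ := exists_quot (Subgroup.center (SU n F q)) hθ' (fun z hzc => by
    obtain ⟨c, hc, hcq, hc'⟩ := Cfsg.Agent.ClassicalGeometry.PSUAutBasic.exists_scalar_of_mem_center hF hn hzc
    change θ (eSU n F q z) = θ (eSU n F q 1)
    rw [map_one]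
    refine h6 _ ?_ (hz _ c hcq fun v => ?_)
    · rw [Subgroup.mem_center_iff]
      intro g
      obtain ⟨g, rfl⟩ := (eSU n F q).surjective g
      rw [← map_mul, ← map_mul, Subgroup.mem_center_iff.1 hzc]
    · rw [eSU_val, hc'])
  refine ⟨η, e, hη, ?_, h5, h3, ?_⟩
  · rw [← he]
    have := hη' 1
    rw [QuotientGroup.mk_one] at this
    rw [this]
    change θ (eSU n F q 1) = θ 1
    rw [map_one]
  · rw [index_NN hF (by omega)] at h4
    exact h4

end Cfsg.Agent.H113.PSU.Descent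
end

-- part: H234/Eight/Singer
section
prune_inst 0x80000000000000c010000
set_option linter.all false
open scoped Cfsg.Agent.FastGrp

/-!
# Isometries of prime order `r`, `r` a primitive divisor of `q^(2m) - 1`, in dimension `2m` (helper234)

`invar` : irreducibility; `exists_poly` : the centralizer consists of polynomials; `cent_pow` : an isometry `g` commuting
with such an `x` satisfies `g ^ (q^m + 1) = 1`; `cent_neg` : an involution commuting with `x` is `-1`.
-/

set_option autoImplicit false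
set_option linter.unusedSectionVars false

open Cfsg

namespace Cfsg.Agent.H234.Eight.Singer

open Module Polynomial Cfsg.Agent.H477.HC

universe u v

section lin

variable {K : Type u} [Field K] [Finite K] {V : Type v} [AddCommGroup V] [Module K V] [FiniteDimensional K V]

/-- fixed points -/
theorem fix_mod {r : ℕ} (hr : r.Prime) {T : Module.End K V} (hT : T ^ r = 1) {W : Submodule K V}
    (hW : ∀ w ∈ W, T w ∈ W) :
    Nat.card K ^ finrank K W ≡ Nat.card K ^ finrank K (W ⊓ LinearMap.ker (T - 1) : Submodule K V) [MOD r] := by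
  classical
  have hV : Finite V := Module.finite_of_finite K
  have : Fact r.Prime := ⟨hr⟩
  let _ := Fintype.ofFinite W
  let f : Function.End W := fun w => ⟨T w, hW _ w.2⟩
  have hf : ∀ n : ℕ, ∀ w : W, (((f ^ n : Function.End W) w : W) : V) = (T ^ n) w := by
    intro n
    induction n with
    | zero => intro w; rfl
    | succ n ih =>
      intro w
      rw [pow_succ, pow_succ]
      exact ih (f w)
  have hfr : f ^ r ^ 1 = 1 := by
    rw [pow_one]
    funext w
    apply Subtype.ext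
    rw [hf, hT]
    rfl
  have h1 := Equiv.Perm.card_fixedPoints_modEq hfr
  rw [← Nat.card_eq_fintype_card, ← Nat.card_eq_fintype_card, Module.natCard_eq_pow_finrank (K := K) (V := W)] at h1
  have h2 : Nat.card (Function.fixedPoints f) = Nat.card (W ⊓ LinearMap.ker (T - 1) : Submodule K V) := by
    refine Nat.card_congr
      { toFun := fun w => ⟨w.1, w.1.2, ?_⟩
        invFun := fun w => ⟨⟨w.1, w.2.1⟩, ?_⟩
        left_inv := fun w => rfl
        right_inv := fun w => rfl }
    · have h3 : f w.1 = w.1 := w.2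
      have h4 : T (w.1 : V) = w.1 := congrArg Subtype.val h3
      change (w.1 : V) ∈ LinearMap.ker (T - 1)
      rw [LinearMap.mem_ker, LinearMap.sub_apply, h4]
      exact sub_self _
    · have h3 := w.2.2
      change (w.1 : V) ∈ LinearMap.ker (T - 1) at h3
      rw [LinearMap.mem_ker, LinearMap.sub_apply, sub_eq_zero] at h3
      exact Subtype.ext h3
  rw [h2, Module.natCard_eq_pow_finrank (K := K) (V := (W ⊓ LinearMap.ker (T - 1) : Submodule K V))] at h1
  exact h1

theorem dvd_of_mod {q r c d : ℕ} (hr : r.Prime) (hq : 1 ≤ q) (hrq : ¬ r ∣ q) (hcd : c ≤ d) (h : q ^ d ≡ q ^ c [MOD r]) :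
    r ∣ q ^ (d - c) - 1 := by
  have h1 : r ∣ q ^ d - q ^ c := (Nat.modEq_iff_dvd' (Nat.pow_le_pow_right hq hcd)).1 h.symm
  have h2 : q ^ d - q ^ c = q ^ c * (q ^ (d - c) - 1) := by
    rw [Nat.mul_sub, ← pow_add, Nat.add_sub_cancel' hcd, mul_one]
  rw [h2] at h1
  exact (hr.dvd_mul.1 h1).resolve_left fun h => hrq (hr.dvd_of_dvd_pow h)

variable {r n : ℕ} (hr : r.Prime) (hrq : ¬ r ∣ Nat.card K) (hn : finrank K V = n)
  (hprim : ∀ i, 0 < i → i < n → ¬ r ∣ Nat.card K ^ i - 1) {T : Module.End K V} (hT : T ^ r = 1) (hT1 : T ≠ 1)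

include hr hrq hn hprim hT hT1 in
/-- **irreducibility** -/
theorem invar {W : Submodule K V} (hW : ∀ w ∈ W, T w ∈ W) : W = ⊥ ∨ W = ⊤ := by
  have hq : 1 ≤ Nat.card K := Nat.card_pos
  -- no fixed vectors
  have h0 : LinearMap.ker (T - 1) = ⊥ := by
    have h1 := fix_mod hr hT (W := ⊤) (fun _ _ => Submodule.mem_top)
    rw [finrank_top, hn, top_inf_eq] at h1
    have h2 : finrank K (LinearMap.ker (T - 1)) ≤ n := hn ▸ Submodule.finrank_le _
    have h3 := dvd_of_mod hr hq hrq h2 h1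
    have h4 : finrank K (LinearMap.ker (T - 1)) = 0 ∨ finrank K (LinearMap.ker (T - 1)) = n := by
      by_contra hcon
      push Not at hcon
      exact hprim _ (by omega) (by omega) h3
    rcases h4 with h4 | h4
    · exact Submodule.finrank_eq_zero.1 h4
    · exfalso
      apply hT1
      have h5 : LinearMap.ker (T - 1) = ⊤ := Submodule.eq_top_of_finrank_eq (h4.trans hn.symm)
      exact sub_eq_zero.1 (LinearMap.ker_eq_top.1 h5)
  have h1 := fix_mod hr hT hW
  rw [h0, inf_bot_eq, finrank_bot] at h1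
  have h2 := dvd_of_mod hr hq hrq (Nat.zero_le _) h1
  rw [Nat.sub_zero] at h2
  have h3 : finrank K W ≤ n := hn ▸ Submodule.finrank_le _
  have h4 : finrank K W = 0 ∨ finrank K W = n := by
    by_contra hcon
    push Not at hcon
    exact hprim _ (by omega) (by omega) h2
  rcases h4 with h4 | h4
  · exact Or.inl (Submodule.finrank_eq_zero.1 h4)
  · exact Or.inr (Submodule.eq_top_of_finrank_eq (h4.trans hn.symm))

include hr hrq hn hprim hT hT1 in
/-- a map commuting with `T` is zero or injective -/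
theorem ker_cases {S : Module.End K V} (hS : S * T = T * S) : LinearMap.ker S = ⊥ ∨ S = 0 := by
  rcases invar hr hrq hn hprim hT hT1 (W := LinearMap.ker S) (fun w hw => by
    rw [LinearMap.mem_ker] at hw ⊢
    change (S * T) w = 0
    rw [hS]
    change T (S w) = 0
    rw [hw, map_zero]) with h | h
  · exact Or.inl h
  · exact Or.inr (LinearMap.ker_eq_top.1 h)

include hr hrq hn hprim hT hT1 in
/-- **the centralizer** -/
theorem exists_poly {S : Module.End K V} (hS : S * T = T * S) : ∃ f : K[X], S = aeval T f := by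
  have hVn : Nontrivial V := by
    by_contra h
    rw [not_nontrivial_iff_subsingleton] at h
    apply hT1
    ext v
    exact Subsingleton.elim _ _
  obtain ⟨v, hv⟩ := exists_ne (0 : V)
  let ev : K[X] →ₗ[K] V :=
    { toFun := fun f => aeval T f v
      map_add' := fun f g => by rw [map_add]; rfl
      map_smul' := fun c f => by rw [map_smul]; rfl }
  have hev : ∀ f, ev f = aeval T f v := fun f => rfl
  have h1 : LinearMap.range ev = ⊤ := by
    refine (invar hr hrq hn hprim hT hT1 (W := LinearMap.range ev) ?_).resolve_left ?_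
    · rintro _ ⟨f, rfl⟩
      refine ⟨X * f, ?_⟩
      rw [hev, hev, map_mul, aeval_X]
      rfl
    · intro h
      have h2 : ev 1 ∈ LinearMap.range ev := ⟨1, rfl⟩
      rw [h, Submodule.mem_bot, hev, map_one] at h2
      exact hv h2
  obtain ⟨f, hf⟩ : S v ∈ LinearMap.range ev := by rw [h1]; exact Submodule.mem_top
  rw [hev] at hf
  refine ⟨f, ?_⟩
  have hcomm : (S - aeval T f) * T = T * (S - aeval T f) := by
    rw [sub_mul, mul_sub, hS]
    congr 1
    have : aeval T f * aeval T (X : K[X]) = aeval T (X : K[X]) * aeval T f := by rw [← map_mul, ← map_mul, mul_comm]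
    rwa [aeval_X] at this
  rcases ker_cases hr hrq hn hprim hT hT1 hcomm with h | h
  · exfalso
    have h2 : v ∈ LinearMap.ker (S - aeval T f) := by
      rw [LinearMap.mem_ker, LinearMap.sub_apply, hf, sub_self]
    rw [h, Submodule.mem_bot] at h2
    exact hv h2
  · exact sub_eq_zero.1 h

omit [FiniteDimensional K V] in
theorem frob (T : Module.End K V) (f : K[X]) (k : ℕ) : aeval T f ^ (Nat.card K ^ k) = aeval (T ^ (Nat.card K ^ k)) f := by
  let _ := Fintype.ofFinite K
  induction k with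
  | zero => rw [pow_zero, pow_one, pow_one]
  | succ k ih =>
    rw [pow_succ, pow_mul, ih, pow_mul, ← map_pow, Nat.card_eq_fintype_card (α := K), ← FiniteField.expand_card,
      expand_aeval]

end lin

section form

variable {K : Type u} [Field K] [Finite K] {V : Type v} [AddCommGroup V] [Module K V] [FiniteDimensional K V]
  (F : CForm K V)

/-- as an endomorphism -/
def en (g : F.iso) : Module.End K V := (g : V ≃ₗ[K] V).toLinearMap

theorem en_mul (g h : F.iso) : en F (g * h) = en F g * en F h := rfl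

theorem en_one : en F (1 : F.iso) = 1 := rfl

theorem en_pow (g : F.iso) (n : ℕ) : en F (g ^ n) = en F g ^ n := by
  induction n with
  | zero => rw [pow_zero, pow_zero, en_one]
  | succ n ih => rw [pow_succ, pow_succ, en_mul, ih]

theorem en_injective : Function.Injective (en F) := by
  intro g h hgh
  apply Subtype.ext
  ext v
  exact LinearMap.congr_fun hgh v

/-- the adjoint of a polynomial in `x` -/
theorem adj (hσ : ∀ a, F.σ a = a) (x : F.iso) (f : K[X]) (u w : V) :
    F.B (aeval (en F x) f u) w = F.B u (aeval (en F x⁻¹) f w) := by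
  induction f using Polynomial.induction_on' with
  | add f g hf hg =>
    rw [map_add, map_add, LinearMap.add_apply, LinearMap.add_apply, F.B_add_left, F.B_add_right, hf, hg]
  | monomial n a =>
    rw [aeval_monomial, aeval_monomial]
    change F.B ((algebraMap K (Module.End K V) a * en F x ^ n) u) w = F.B u ((algebraMap K (Module.End K V) a * en F x⁻¹ ^ n) w)
    rw [← en_pow, ← en_pow]
    change F.B (a • (en F (x ^ n) u)) w = F.B u (a • (en F (x⁻¹ ^ n) w))
    rw [F.B_smul_left, F.B_smul_right, hσ]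
    congr 1
    have h1 : F.B (((x⁻¹ ^ n : F.iso) : V ≃ₗ[K] V) (((x ^ n : F.iso) : V ≃ₗ[K] V) u)) (((x⁻¹ ^ n : F.iso) : V ≃ₗ[K] V) w) =
        F.B (((x ^ n : F.iso) : V ≃ₗ[K] V) u) w := F.iso_B (x⁻¹ ^ n) _ _
    have h2 : ((x⁻¹ ^ n : F.iso) : V ≃ₗ[K] V) (((x ^ n : F.iso) : V ≃ₗ[K] V) u) = u := by
      have h3 : (x⁻¹ ^ n : F.iso) * x ^ n = 1 := by rw [inv_pow, inv_mul_cancel]
      have h4 := congrArg (fun g : F.iso => (g : V ≃ₗ[K] V) u) h3
      exact h4
    rw [h2] at h1
    exact h1.symm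

variable {r m : ℕ} (hr : r.Prime) (hrq : r ∣ Nat.card K ^ m + 1) (hm : 0 < m) (hn : finrank K V = 2 * m)
  (hprim : ∀ i, 0 < i → i < 2 * m → ¬ r ∣ Nat.card K ^ i - 1) {x : F.iso} (hx : x ^ r = 1) (hx1 : x ≠ 1)

include hrq hm hr in
theorem not_dvd_q : ¬ r ∣ Nat.card K := by
  intro h
  have h1 : r ∣ Nat.card K ^ m := dvd_pow h hm.ne'
  exact hr.one_lt.ne' (Nat.dvd_one.1 ((Nat.dvd_add_right h1).1 hrq))

include hr hrq hm hn hprim hx hx1 in
/-- **the centralizer of `x` among the isometries** -/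
theorem cent_pow (hσ : ∀ a, F.σ a = a) {g : F.iso} (hg : g * x = x * g) : g ^ (Nat.card K ^ m + 1) = 1 := by
  have hT : en F x ^ r = 1 := by rw [← en_pow, hx, en_one]
  have hT1 : en F x ≠ 1 := fun h => hx1 (en_injective F (h.trans (en_one F).symm))
  obtain ⟨f, hf⟩ := exists_poly hr (not_dvd_q hr hrq hm) hn hprim hT hT1 (S := en F g) (by rw [← en_mul, hg, en_mul])
  -- `x^(q^m) = x⁻¹`
  have hinv : x ^ (Nat.card K ^ m) = x⁻¹ := by
    obtain ⟨t, ht⟩ := hrq
    have : x ^ (Nat.card K ^ m + 1) = 1 := by rw [ht, pow_mul, hx, one_pow]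
    rw [pow_succ] at this
    exact eq_inv_of_mul_eq_one_left this
  have h1 : en F g ^ (Nat.card K ^ m) = aeval (en F x⁻¹) f := by
    rw [hf, frob, ← en_pow, hinv]
  have h2 : aeval (en F x⁻¹) f * en F g = 1 := by
    ext w
    have h3 : ∀ u, F.B u ((aeval (en F x⁻¹) f) (en F g w)) = F.B u w := by
      intro u
      rw [← adj F hσ, ← hf]
      exact F.iso_B g u w
    have h4 : (aeval (en F x⁻¹) f) (en F g w) - w = 0 := by
      refine F.nondeg _ fun u => F.B_eq_zero ?_
      rw [F.B_sub_right, h3, sub_self]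
    exact sub_eq_zero.1 h4
  apply en_injective F
  rw [pow_succ, en_mul, en_pow, h1, h2, en_one]

include hr hrq hm hn hprim hx hx1 in
/-- an involution commuting with `x` is `-1` -/
theorem cent_neg {t : F.iso} (ht : t * x = x * t) (ht2 : t * t = 1) (ht1 : t ≠ 1) (v : V) :
    (t : V ≃ₗ[K] V) v = -v := by
  have hT : en F x ^ r = 1 := by rw [← en_pow, hx, en_one]
  have hT1 : en F x ≠ 1 := fun h => hx1 (en_injective F (h.trans (en_one F).symm))
  have hcomm : (en F t - 1) * en F x = en F x * (en F t - 1) := by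
    rw [sub_mul, mul_sub, ← en_mul, ht, en_mul, one_mul, mul_one]
  rcases ker_cases hr (not_dvd_q hr hrq hm) hn hprim hT hT1 hcomm with h | h
  · have h1 : (en F t - 1) (en F t v + v) = 0 := by
      have h2 : en F t (en F t v) = v := by
        have := congrArg (fun g : F.iso => (g : V ≃ₗ[K] V) v) ht2
        exact this
      rw [LinearMap.sub_apply, map_add, h2]
      change v + en F t v - (en F t v + v) = 0
      abel
    have h2 : en F t v + v ∈ LinearMap.ker (en F t - 1) := h1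
    rw [h, Submodule.mem_bot] at h2
    exact eq_neg_of_add_eq_zero_left h2
  · exact absurd (en_injective F ((sub_eq_zero.1 h).trans (en_one F).symm)) ht1

end form

end Cfsg.Agent.H234.Eight.Singer
end
end
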