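import Cfsg.Agent.H477.HC.Levi
import Cfsg.Agent.H477.HC.Rk3Chars_m3
import Cfsg.Agent.FastGrp
import Cfsg.Agent.Prune
set_option linter.all false
prune_inst 0x7f00000000000000000000000000000000000000000000000000000000000000000000000000000000000000000000000000000000000000000000000000000000000000000000000000000000000000003fffffffffffffffffffffffffffbeffbdfbfeffff
open scoped Cfsg.Agent.FastGrp

-- part: H477/HC/VPt
section
/-!
# Harish-Chandra induction with a constituent of a permutation character of the smaller group (hub H5, helper477)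

`inner_zero_of_perm` : orthogonality to the constituents of a permutation character, from the point stabilisers;
`sum_cusp` : a cuspidal character has sum zero on a group inducing `radU D`;
`van_perm` : the vanishing condition for `W'` orthogonal and disjoint to `W₀`.
-/

set_option autoImplicit false

open scoped ComplexConjugate
open Cfsg

namespace Cfsg.Agent.H477.HC

open Cfsg.Agent.OddOrderCharacters.Clifford Cfsg.Agent.Characters MulAction Module Cfsg.Agent.H53.HC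
open Cfsg.Agent.H749.Two

universe u v w

theorem sum_eq_zero_of_sub {S : Type*} [Group S] [Fintype S] {χ : S → ℂ} (hχ : IsCharacter S χ) (T : Subgroup S)
    [Fintype T] (h : ∑ t : T, χ t = 0) : ∑ s, χ s = 0 := by
  have h1 : classInner (χ ∘ T.subtype) ((1 : S → ℂ) ∘ T.subtype) = 0 := by
    rw [Core.classInner_def]
    have : ∑ t : T, (χ ∘ T.subtype) t * conj (((1 : S → ℂ) ∘ T.subtype) t) = ∑ t : T, χ t :=
      Finset.sum_congr rfl fun t _ => by simp
    rw [this, h, mul_zero]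
  have h2 := classInner_eq_zero_of_comp T.subtype hχ Core.isCharacter_one h1
  rw [Core.classInner_def] at h2
  rcases mul_eq_zero.1 h2 with h3 | h3
  · exact absurd h3 (inv_ne_zero card_ne_zero')
  · rw [← h3]
    exact Finset.sum_congr rfl fun t _ => by simp

open Classical in
/-- orthogonality to the constituents of a permutation character -/
theorem inner_zero_of_perm {L I : Type*} [Group L] [Fintype L] [Group I] (φ : L →* I) {Y : Type*} [MulAction I Y]
    [Finite Y] {C : L → ℂ} (hC : IsCharacter L C) {ψ θ : I → ℂ} (hψ : IsCharacter I ψ) (hθ : IsCharacter I θ)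
    (hsum : ∀ g, ψ g + θ g = (Nat.card {y : Y // g • y = y} : ℂ))
    (hY : ∀ y : Y, ∑ l : L, (if φ l • y = y then C l else 0) = 0) : ∑ l : L, C l * conj (ψ (φ l)) = 0 := by
  classical
  have := Fintype.ofFinite Y
  have hψ' : IsCharacter L (ψ ∘ φ) := Core.isCharacter_comp φ hψ
  have hθ' : IsCharacter L (θ ∘ φ) := Core.isCharacter_comp φ hθ
  obtain ⟨a, ea⟩ := Core.classInner_isNat hC hψ'
  obtain ⟨b, eb⟩ := Core.classInner_isNat hC hθ'
  have h0 : classInner C (ψ ∘ φ) + classInner C (θ ∘ φ) = 0 := by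
    rw [← Core.classInner_add_right, Core.classInner_def]
    have h1 : ∀ l : L, C l * conj ((ψ ∘ φ + θ ∘ φ) l) = ∑ y : Y, (if φ l • y = y then C l else 0) := by
      intro l
      have h2 : (ψ ∘ φ + θ ∘ φ) l = (Nat.card {y : Y // φ l • y = y} : ℂ) := hsum (φ l)
      rw [h2, Complex.conj_natCast, ← Finset.sum_filter, Finset.sum_const, nsmul_eq_mul, Nat.card_eq_fintype_card,
        Fintype.card_subtype, mul_comm]
    rw [Finset.sum_congr rfl fun l _ => h1 l, Finset.sum_comm, Finset.sum_congr rfl fun y _ => hY y,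
      Finset.sum_const_zero, mul_zero]
  rw [ea, eb] at h0
  have h3 : a + b = 0 := by exact_mod_cast h0
  have ha : a = 0 := by omega
  rw [ha, Nat.cast_zero, Core.classInner_def] at ea
  rcases mul_eq_zero.1 ea with h4 | h4
  · exact absurd h4 (inv_ne_zero card_ne_zero')
  · exact h4

namespace CForm

variable {K : Type u} [Field K] {V : Type v} [AddCommGroup V] [Module K V] {F : CForm K V}

/-- the restriction of a character of `GL` to a subgroup stabilising `W₀` -/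
theorem isCharacter_cl [FiniteDimensional K V] {k : ℕ} {c : GL (Fin k) K → ℂ} (hc : IsCharacter _ c)
    {W₀ : Submodule K V} (hW₀ : finrank K W₀ = k) (H : Subgroup F.iso) (hH : H ≤ stabW F.iso.subtype W₀) :
    IsCharacter H (fun l => flagTerm F.iso.subtype c l W₀) := by
  classical
  have hcf := Core.isCharacter_isClassFunction hc
  let b : Basis (Fin k) K W₀ := finBasisOfFinrankEq K W₀ hW₀
  let f : H →* GL (Fin k) K :=
    (glE b).toMonoidHom.comp ((resHom F.iso.subtype W₀).comp (Subgroup.inclusion hH))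
  have h1 : (fun l : H => flagTerm F.iso.subtype c l W₀) = c ∘ f := by
    ext l
    rw [flagTerm_of F.iso.subtype c (hH l.2), cl_eq hcf b]
    rfl
  rw [h1]
  exact Core.isCharacter_comp f hc

/-- a cuspidal character has sum zero on a group inducing `radU D` -/
theorem sum_cusp [FiniteDimensional K V] [Finite V] {k : ℕ} {c : GL (Fin k) K → ℂ} (hc : IsCharacter _ c)
    (hcusp : _root_.Cfsg.Agent.H53.HC.IsCusp c) {W₀ : Submodule K V} (hW₀ : finrank K W₀ = k) (D : Submodule K V) (hD : D ≤ W₀) (hD0 : D ≠ ⊥)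
    (hD1 : D ≠ W₀) (H : Subgroup F.iso) [Fintype H] (hH : H ≤ stabW F.iso.subtype W₀)
    (hgen : ∀ x ∈ D, ∀ f : W₀ →ₗ[K] K, (∀ w : W₀, (w : V) ∈ D → f w = 0) →
      ∃ g ∈ H, ∀ w : W₀, (g : V ≃ₗ[K] V) w = w + f w • x) :
    ∑ l : H, flagTerm F.iso.subtype c l W₀ = 0 := by
  classical
  have hcf := Core.isCharacter_isClassFunction hc
  have b₀ : Basis (Fin k) K W₀ := finBasisOfFinrankEq K W₀ hW₀
  let D₀ : Submodule K W₀ := D.comap W₀.subtype
  have hD₀0 : D₀ ≠ ⊥ := by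
    intro h
    apply hD0
    rw [Submodule.eq_bot_iff] at h ⊢
    intro x hx
    have := h ⟨x, hD hx⟩ hx
    exact congrArg Subtype.val this
  have hD₀1 : D₀ ≠ ⊤ := by
    intro h
    apply hD1
    apply le_antisymm hD
    intro x hx
    have : (⟨x, hx⟩ : W₀) ∈ D₀ := by rw [h]; trivial
    exact this
  let R : H →* (W₀ ≃ₗ[K] W₀) := (resHom F.iso.subtype W₀).comp (Subgroup.inclusion hH)
  -- the preimage of `radU D₀`
  let T : Subgroup H := (radU D₀).comap R
  let _ : Fintype T := Fintype.ofFinite _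
  refine sum_eq_zero_of_sub (isCharacter_cl hc hW₀ H hH) T ?_
  have hfinW : Finite (W₀ ≃ₗ[K] W₀) :=
    Finite.of_injective (fun e : W₀ ≃ₗ[K] W₀ => (e : W₀ → W₀)) DFunLike.coe_injective
  let _ : Fintype (radU D₀) := Fintype.ofFinite _
  let f : T →* radU D₀ := (R.comp T.subtype).codRestrict (radU D₀) fun t => t.2
  have hf : Function.Surjective f := by
    have h1 := mem_of_transv D₀ ((T.subtype.range).map R) (by
      intro x hx f' hf'
      obtain ⟨g, hgH, hg⟩ := hgen x hx f' (fun w hw => hf' w hw)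
      have hRg : ∀ w, R ⟨g, hgH⟩ w = w + f' w • x := fun w => Subtype.ext (hg w)
      refine ⟨R ⟨g, hgH⟩, ⟨⟨g, hgH⟩, ⟨⟨⟨g, hgH⟩, ⟨fun w => ?_, fun d hd => ?_⟩⟩, rfl⟩, rfl⟩, hRg⟩
      · rw [hRg, add_sub_cancel_left]
        exact D₀.smul_mem _ hx
      · rw [hRg, hf' d hd, zero_smul, add_zero])
    rintro ⟨u, hu⟩
    obtain ⟨_, ⟨t, rfl⟩, h2⟩ := h1 hu
    exact ⟨t, Subtype.ext h2⟩
  have e1 : ∀ t : T, flagTerm F.iso.subtype c ((t : H) : F.iso) W₀ = (fun u : radU D₀ => cl c (u : W₀ ≃ₗ[K] W₀)) (f t) := by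
    intro t
    rw [flagTerm_of F.iso.subtype c (hH (t : H).2)]
    rfl
  rw [Finset.sum_congr rfl fun t _ => e1 t, sum_comp_hom f hf (fun u : radU D₀ => cl c (u : W₀ ≃ₗ[K] W₀)),
    hcusp.sum_eq hcf b₀ D₀ hD₀0 hD₀1, mul_zero]

/-- the isometries fixing `W'` pointwise -/
def fixW (F : CForm K V) (W' : Submodule K V) : Subgroup F.iso where
  carrier := {g | ∀ w ∈ W', (g : V ≃ₗ[K] V) w = w}
  one_mem' := fun _ _ => rfl
  mul_mem' := by
    intro x y hx hy w hw
    rw [Subgroup.coe_mul, LinearEquiv.mul_apply, hy w hw, hx w hw]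
  inv_mem' := by
    intro x hx w hw
    have h1 : ((x⁻¹ : F.iso) : V ≃ₗ[K] V) ((x : V ≃ₗ[K] V) w) = w := (x : V ≃ₗ[K] V).symm_apply_apply w
    rwa [hx w hw] at h1

theorem fixW_le [FiniteDimensional K V] (W' : Submodule K V) : F.fixW W' ≤ stabW F.iso.subtype W' := fun g hg =>
  map_eq_of_le F.iso.subtype fun w hw => by
    change (g : V ≃ₗ[K] V) w ∈ W'
    rw [hg w hw]; exact hw

variable {X : Type w} [AddCommGroup X] [Module K X] {F' : CForm K X} {j : X →ₗ[K] V} {W₀ : Submodule K V}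

open Classical in
/-- **the vanishing at an orthogonal disjoint pair**, for `ψ₀` a constituent of the permutation character on `Y` -/
theorem van_perm [FiniteDimensional K V] [Finite V] [Finite K] {k : ℕ} {c : GL (Fin k) K → ℂ} (hc : IsCharacter _ c)
    {ψ₀ θ₀ : F'.iso → ℂ} (hψ : IsCharacter _ ψ₀) (hθ : IsCharacter _ θ₀) {Y : Type*} [MulAction F'.iso Y] [Finite Y]
    (hsum : ∀ g, ψ₀ g + θ₀ g = (Nat.card {y : Y // g • y = y} : ℂ))
    {ρ : stabW F.iso.subtype W₀ →* F'.iso} (hρ2 : ∀ g : stabW F.iso.subtype W₀, (g : F.iso) ∈ F.TT W₀ → ρ g = 1)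
    (hW₀ : W₀ ∈ F.Om k) {W' : Submodule K V} (hW' : W' ∈ F.Om k) {x : F.iso}
    (hx : W₀.map (F.iso.subtype x : V →ₗ[K] V) = W')
    (hY : ∀ (φ : (F.TT W₀ ⊓ F.fixW W' : Subgroup F.iso) →* F'.iso),
      (∀ l : (F.TT W₀ ⊓ F.fixW W' : Subgroup F.iso), ∃ hl : x⁻¹ * (l : F.iso) * x ∈ stabW F.iso.subtype W₀, φ l = ρ ⟨_, hl⟩) →
      ∀ [Fintype (F.TT W₀ ⊓ F.fixW W' : Subgroup F.iso)], ∀ y : Y, ∑ l : (F.TT W₀ ⊓ F.fixW W' : Subgroup F.iso),
        (if φ l • y = y then flagTerm F.iso.subtype c l W₀ else 0) = 0) :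
    F.Van c (psf F W₀ (ψ₀ ∘ ρ)) W₀ W' := by
  have hcf := Core.isCharacter_isClassFunction hc
  have hcl1 : IsClassFunction _ (ψ₀ ∘ ρ) := Core.isCharacter_isClassFunction (Core.isCharacter_comp ρ hψ)
  set! L : Subgroup F.iso := F.TT W₀ ⊓ F.fixW W' with hL; rewrite [← hL] at hY
  have hLs : ∀ l ∈ L, l ∈ stabW F.iso.subtype W₀ := fun l hl => hl.1.1
  have hLs' : ∀ l ∈ L, l ∈ stabW F.iso.subtype W' := fun l hl => fixW_le W' hl.2
  refine ⟨L, hLs, hLs', fun {_} => ?_⟩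
  have hconj : ∀ l ∈ L, x⁻¹ * l * x ∈ stabW F.iso.subtype W₀ := by
    intro l hl
    change W₀.map (F.iso.subtype (x⁻¹ * l * x) : V →ₗ[K] V) = W₀
    have h1 : W'.map (F.iso.subtype l : V →ₗ[K] V) = W' := hLs' l hl
    have h2 : W'.map (F.iso.subtype x⁻¹ : V →ₗ[K] V) = W₀ := by
      rw [← hx, ← map_mul_apply, inv_mul_cancel, map_one]
      exact Submodule.map_id _
    rw [map_mul_apply, map_mul_apply, hx, h1, h2]
  let φ : L →* F'.iso := ρ.comp
    { toFun := fun l => ⟨x⁻¹ * (l : F.iso) * x, hconj l l.2⟩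
      map_one' := by
        apply Subtype.ext
        change x⁻¹ * 1 * x = 1
        group
      map_mul' := fun l m => by
        apply Subtype.ext
        change x⁻¹ * ((l : F.iso) * m) * x = (x⁻¹ * l * x) * (x⁻¹ * m * x)
        group }
  have hφ : ∀ l : L, φ l = ρ ⟨x⁻¹ * (l : F.iso) * x, hconj l l.2⟩ := fun l => rfl
  have key := inner_zero_of_perm φ (isCharacter_cl hc hW₀.2 L hLs) hψ hθ hsum
    (hY φ fun l => ⟨hconj l.1 l.2, hφ l⟩)
  have e1 : ∀ l : L, (flagTerm F.iso.subtype c l W₀ * psf F W₀ (ψ₀ ∘ ρ) l W₀) *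
      conj (flagTerm F.iso.subtype c l W' * psf F W₀ (ψ₀ ∘ ρ) l W') =
      (flagTerm F.iso.subtype c l W₀ * conj (ψ₀ (φ l))) * (ψ₀ 1 * conj (c 1)) := by
    intro l
    have h1 : psf F W₀ (ψ₀ ∘ ρ) l W₀ = ψ₀ 1 := by
      have := psf_self hcl1 ⟨(l : F.iso), hLs l l.2⟩
      change psf F W₀ (ψ₀ ∘ ρ) l W₀ = ψ₀ (ρ _) at this
      rw [this, hρ2 _ l.2.1]
    have h2 : psf F W₀ (ψ₀ ∘ ρ) l W' = ψ₀ (φ l) := psf_eq hcl1 hx (hconj l l.2)
    have h3 : flagTerm F.iso.subtype c (l : F.iso) W' = c 1 := by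
      rw [flagTerm_of F.iso.subtype c (hLs' l l.2)]
      have e2 : res (F.iso.subtype (l : F.iso)) W' (hLs' l l.2) = 1 := by
        ext w
        exact l.2.2 w w.2
      rw [e2, cl_one hcf (finBasisOfFinrankEq K W' hW'.2)]
    rw [h1, h2, h3, map_mul]
    ring
  rw [Finset.sum_congr rfl fun l _ => e1 l, ← Finset.sum_mul, key, zero_mul]

theorem exists_D [FiniteDimensional K V] {k : ℕ} (hk : 2 ≤ k) (hW₀ : W₀ ∈ F.Om k) {W' : Submodule K V}
    (hW' : W' ∈ F.Om k) (hperp : W₀ ≤ F.perp W') (h0 : W₀ ⊓ W' = ⊥) {u : V} (hu : F.Sing u)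
    (huW : ∀ w ∈ W', F.B w u = 0) :
    ∃ D ≤ W₀, D ≠ ⊥ ∧ D ≠ W₀ ∧ ∀ x ∈ D, ∀ f : W₀ →ₗ[K] K, (∀ w : W₀, (w : V) ∈ D → f w = 0) →
      ∃ g ∈ F.TT W₀ ⊓ F.fixW W', (g : V ≃ₗ[K] V) u = u ∧ ∀ w : W₀, (g : V ≃ₗ[K] V) w = w + f w • x := by
  classical
  have hTu := F.TS_span_singleton hu
  have hpu : Submodule.span K {u} ≤ F.perp W' := by
    rw [Submodule.span_singleton_le_iff_mem]
    exact fun w hw => F.B_eq_zero (huW w hw)
  have hU : F.TS (Submodule.span K {u} ⊔ W') := TS_sup F hTu hW'.1 hpu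
  by_cases hc : ∀ w ∈ W₀, F.B w u = 0
  · -- `W₀ ⟂ u`
    have hpU : W₀ ≤ F.perp (Submodule.span K {u} ⊔ W') := by
      intro w hw y hy
      obtain ⟨a, ha, b, hb, rfl⟩ := Submodule.mem_sup.1 hy
      obtain ⟨t, rfl⟩ := Submodule.mem_span_singleton.1 ha
      rw [F.B_add_right, F.B_smul_right, hc w hw, hperp hw b hb]
      ring
    -- `dim (W₀ ∩ U) ≤ 1`
    have hI : finrank K (W₀ ⊓ (Submodule.span K {u} ⊔ W') : Submodule K V) ≤ 1 := by
      have h1 : (W₀ ⊓ (Submodule.span K {u} ⊔ W')) ⊓ W' = ⊥ := by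
        rw [Submodule.eq_bot_iff]
        rintro y ⟨⟨hy, -⟩, hy'⟩
        have : y ∈ W₀ ⊓ W' := ⟨hy, hy'⟩
        rw [h0] at this
        exact (Submodule.mem_bot K).1 this
      have h2 := Submodule.finrank_sup_add_finrank_inf_eq (W₀ ⊓ (Submodule.span K {u} ⊔ W')) W'
      rw [h1, finrank_bot, add_zero] at h2
      have h3 : (W₀ ⊓ (Submodule.span K {u} ⊔ W')) ⊔ W' ≤ Submodule.span K {u} ⊔ W' := sup_le inf_le_right le_sup_right
      have h4 := Submodule.finrank_mono h3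
      have h5 := Submodule.finrank_add_le_finrank_add_finrank (Submodule.span K {u}) W'
      have h6 : finrank K (Submodule.span K {u}) ≤ 1 := finrank_span_le_card {u} |>.trans (by simp)
      omega
    -- a line
    obtain ⟨x₀, hx₀, hx0, hle⟩ : ∃ x₀ ∈ W₀, x₀ ≠ 0 ∧ W₀ ⊓ (Submodule.span K {u} ⊔ W') ≤ Submodule.span K {x₀} := by
      by_cases hb : W₀ ⊓ (Submodule.span K {u} ⊔ W') = ⊥
      · obtain ⟨x, hx, hx0⟩ : ∃ x ∈ W₀, x ≠ 0 := by
          by_contra h
          push Not at h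
          have : W₀ = ⊥ := (Submodule.eq_bot_iff _).2 h
          have h2 := hW₀.2
          rw [this, finrank_bot] at h2
          omega
        exact ⟨x, hx, hx0, by rw [hb]; exact bot_le⟩
      · obtain ⟨x, hx, hx0⟩ := (Submodule.ne_bot_iff _).1 hb
        refine ⟨x, hx.1, hx0, ?_⟩
        have h1 : Submodule.span K {x} ≤ W₀ ⊓ (Submodule.span K {u} ⊔ W') :=
          (Submodule.span_singleton_le_iff_mem _ _).2 hx
        have h2 := finrank_span_singleton (K := K) hx0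
        rw [Submodule.eq_of_le_of_finrank_le h1 (by rw [h2]; exact hI)]
    refine ⟨Submodule.span K {x₀}, (Submodule.span_singleton_le_iff_mem _ _).2 hx₀,
      fun h => hx0 (Submodule.span_singleton_eq_bot.1 h), fun h => ?_, fun x hx f hf => ?_⟩
    · have h2 := hW₀.2
      rw [← h, finrank_span_singleton hx0] at h2
      omega
    · have hxW : x ∈ W₀ := ((Submodule.span_singleton_le_iff_mem _ _).2 hx₀) hx
      obtain ⟨g, hg1, -, hg3, hg4⟩ := exists_root_perp hW₀.1 hU hpU hxW f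
        (fun w hw => hf w (hle ⟨w.2, hw⟩)) (hf ⟨x, hxW⟩ hx)
      exact ⟨g, ⟨hg1, fun w hw => hg3 w (Submodule.mem_sup_right hw)⟩,
        hg3 u (Submodule.mem_sup_left (Submodule.mem_span_singleton_self u)), hg4⟩
  · -- `W₀` is not orthogonal to `u`
    push Not at hc
    obtain ⟨w₁, hw₁, hw₁u⟩ := hc
    let lu : W₀ →ₗ[K] K := (F.lf u).comp W₀.subtype
    have hlu : ∀ w : W₀, lu w = F.B w u := fun w => rfl
    refine ⟨W₀ ⊓ F.perp (Submodule.span K {u}), inf_le_left, fun h => ?_, fun h => ?_, fun x hx f hf => ?_⟩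
    · -- dimension `k - 1 ≥ 1`
      have hinj : Function.Injective lu := by
        rw [injective_iff_map_eq_zero]
        intro w hw
        have : (w : V) ∈ W₀ ⊓ F.perp (Submodule.span K {u}) := by
          refine ⟨w.2, fun y hy => ?_⟩
          obtain ⟨t, rfl⟩ := Submodule.mem_span_singleton.1 hy
          rw [F.B_smul_right, ← hlu, hw, mul_zero]
        rw [h] at this
        exact Subtype.ext ((Submodule.mem_bot K).1 this)
      have h1 := LinearMap.finrank_le_finrank_of_injective hinj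
      rw [hW₀.2, finrank_self] at h1
      omega
    · have : w₁ ∈ W₀ ⊓ F.perp (Submodule.span K {u}) := by rw [h]; exact hw₁
      exact hw₁u (this.2 u (Submodule.mem_span_singleton_self u))
    · obtain ⟨b, hb, hb'⟩ := F.exists_pair W₀ (Submodule.span K {u}) f (fun w hw => hf w ⟨w.2, fun y hy => hw y hy⟩)
      have hbs : F.Sing b := hTu.sing hb
      obtain ⟨t, rfl⟩ := Submodule.mem_span_singleton.1 hb
      have hxu : F.B x u = 0 := hx.2 u (Submodule.mem_span_singleton_self u)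
      obtain ⟨g, hg⟩ := F.exists_root (hW₀.1.sing hx.1) hbs (by rw [F.B_smul_right, hxu, mul_zero])
      refine ⟨g, ⟨F.mem_TT_of hW₀.1 fun v hv => ?_, fun w' hw' => ?_⟩, ?_, fun w => ?_⟩
      · rw [hg, hv x hx.1]
        have : v + F.B v (t • u) • x - (F.ε⁻¹ * 0) • (t • u) - v = F.B v (t • u) • x := by module
        rw [this]
        exact W₀.smul_mem _ hx.1
      · rw [hg, F.B_smul_right, huW w' hw', F.B_eq_zero (hperp hx.1 w' hw')]
        module
      · rw [hg, F.B_smul_right, hu.2, F.B_eq_zero hxu]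
        module
      · rw [hg, hb', hW₀.1.2 w w.2 x hx.1]
        module

/-- the same for `k = 1` -/
theorem exists_L1 [FiniteDimensional K V] (hW₀ : W₀ ∈ F.Om 1) {W' : Submodule K V}
    (hW'T : F.TS W') (hperp : W₀ ≤ F.perp W') (h0 : W₀ ⊓ W' = ⊥) {u : V} (hu : F.Sing u)
    (huW : ∀ w ∈ W', F.B w u = 0) (a : W₀ ≃ₗ[K] W₀) :
    ∃ g ∈ F.TT W₀ ⊓ F.fixW W', (g : V ≃ₗ[K] V) u ∈ W' ⊔ Submodule.span K {u} ∧ ∀ w : W₀, (g : V ≃ₗ[K] V) w = a w := by
  classical
  have hTu := F.TS_span_singleton hu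
  obtain ⟨e₀, he₀, he00⟩ : ∃ x ∈ W₀, x ≠ 0 := by
    by_contra h
    push Not at h
    have : W₀ = ⊥ := (Submodule.eq_bot_iff _).2 h
    have h2 := hW₀.2
    rw [this, finrank_bot] at h2
    omega
  have hspan : ∀ w ∈ W₀, ∃ t : K, w = t • e₀ := by
    intro w hw
    have h1 := (finrank_eq_one_iff_of_nonzero' (⟨e₀, he₀⟩ : W₀) (fun h => he00 (congrArg Subtype.val h))).1 hW₀.2 ⟨w, hw⟩
    obtain ⟨t, ht⟩ := h1
    exact ⟨t, (congrArg Subtype.val ht).symm⟩
  -- the Levi element attached to a singular vector `b` not orthogonal to `e₀`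
  have key : ∀ b : V, F.Sing b → F.B e₀ b ≠ 0 → (∀ w ∈ W', F.B w b = 0) →
      ∃ g ∈ F.TT W₀ ⊓ F.fixW W', (∀ t : K, (g : V ≃ₗ[K] V) (t • b) ∈ Submodule.span K {b}) ∧
        (∀ v, F.B v e₀ = 0 → F.B v b = 0 → (g : V ≃ₗ[K] V) v = v) ∧ ∀ w : W₀, (g : V ≃ₗ[K] V) w = a w := by
    intro b hb hb0 hbW
    have hTb := F.TS_span_singleton hb
    obtain ⟨g, hg1, hg2, hg3, hg4⟩ := F.exists_levi hW₀.1 hTb
      (fun w hw hw' => by
        obtain ⟨t, rfl⟩ := hspan w hw
        have := hw' b (Submodule.mem_span_singleton_self b)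
        rw [F.B_smul_left] at this
        rw [(mul_eq_zero.1 this).resolve_right hb0, zero_smul])
      (fun w' hw' hw => by
        obtain ⟨t, rfl⟩ := Submodule.mem_span_singleton.1 hw'
        have := hw e₀ he₀
        rw [F.B_smul_right] at this
        have h1 := (mul_eq_zero.1 this).resolve_right hb0
        have h2 := congrArg F.σ h1
        rw [F.σσ, map_zero] at h2
        rw [h2, zero_smul]) a
    refine ⟨g, ⟨hg4.1, fun w hw => hg3 w (fun w' hw' => F.B_eq_zero (hperp hw' w hw)) fun w' hw' => ?_⟩,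
      fun t => hg2 _ (Submodule.smul_mem _ _ (Submodule.mem_span_singleton_self b)),
      fun v hv hv' => hg3 v (fun w hw => ?_) (fun w hw => ?_), hg1⟩
    · obtain ⟨t, rfl⟩ := Submodule.mem_span_singleton.1 hw'
      rw [F.B_smul_right, hbW w hw, mul_zero]
    · obtain ⟨t, rfl⟩ := hspan w hw
      rw [F.B_smul_right, hv, mul_zero]
    · obtain ⟨t, rfl⟩ := Submodule.mem_span_singleton.1 hw
      rw [F.B_smul_right, hv', mul_zero]
  by_cases hc : F.B e₀ u = 0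
  · have hcW : ∀ w ∈ W₀, F.B w u = 0 := by
      intro w hw
      obtain ⟨t, rfl⟩ := hspan w hw
      rw [F.B_smul_left, hc, mul_zero]
    have hpu : Submodule.span K {u} ≤ F.perp W' := by
      rw [Submodule.span_singleton_le_iff_mem]
      exact fun w hw => F.B_eq_zero (huW w hw)
    have hU : F.TS (Submodule.span K {u} ⊔ W') := TS_sup F hTu hW'T hpu
    have hpU : W₀ ≤ F.perp (Submodule.span K {u} ⊔ W') := by
      intro w hw y hy
      obtain ⟨a, ha, b, hb, rfl⟩ := Submodule.mem_sup.1 hy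
      obtain ⟨t, rfl⟩ := Submodule.mem_span_singleton.1 ha
      rw [F.B_add_right, F.B_smul_right, hcW w hw, hperp hw b hb]
      ring
    -- a functional on `W₀` with value `1` at `e₀`
    obtain ⟨f, hf⟩ : ∃ f : W₀ →ₗ[K] K, f ⟨e₀, he₀⟩ ≠ 0 := by
      by_contra h
      push Not at h
      have h1 : (⟨e₀, he₀⟩ : W₀) = 0 := (Module.forall_dual_apply_eq_zero_iff K _).1 h
      exact he00 (congrArg Subtype.val h1)
    have hf0 : f ≠ 0 := by
      rintro rfl
      exact hf rfl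
    by_cases hI : e₀ ∈ Submodule.span K {u} ⊔ W'
    · obtain ⟨b, hb1, hb2, hb3⟩ := exists_sing_dual hW₀.1 hperp f (fun w hw => by
        have : (w : V) ∈ W₀ ⊓ W' := ⟨w.2, hw⟩
        rw [h0] at this
        have e : w = 0 := Subtype.ext ((Submodule.mem_bot K).1 this)
        rw [e, map_zero]) hf0
      obtain ⟨g, hg1, hg2, hg3, hg4⟩ := key b hb1 (by rw [← hb2 ⟨e₀, he₀⟩]; exact hf) hb3
      refine ⟨g, hg1, ?_, hg4⟩
      obtain ⟨y, hy, w', hw', he⟩ := Submodule.mem_sup.1 hI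
      obtain ⟨t, rfl⟩ := Submodule.mem_span_singleton.1 hy
      have ht : t ≠ 0 := by
        rintro rfl
        rw [zero_smul, zero_add] at he
        have : e₀ ∈ W₀ ⊓ W' := ⟨he₀, by rw [← he]; exact hw'⟩
        rw [h0] at this
        exact he00 ((Submodule.mem_bot K).1 this)
      have hue : u = t⁻¹ • (e₀ - w') := by
        rw [← he, add_sub_cancel_right, smul_smul, inv_mul_cancel₀ ht, one_smul]
      have hge : (g : V ≃ₗ[K] V) e₀ ∈ W' ⊔ Submodule.span K {u} := by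
        have h1 := hg4 ⟨e₀, he₀⟩
        change (g : V ≃ₗ[K] V) e₀ = _ at h1
        obtain ⟨s, hs⟩ := hspan _ (a ⟨e₀, he₀⟩).2
        rw [h1, hs, sup_comm]
        exact Submodule.smul_mem _ _ hI
      have hgu : (g : V ≃ₗ[K] V) u = t⁻¹ • ((g : V ≃ₗ[K] V) e₀ - w') := by
        conv_lhs => rw [hue]
        rw [map_smul, map_sub, hg1.2 w' hw']
      rw [hgu]
      exact Submodule.smul_mem _ _ (Submodule.sub_mem _ hge (Submodule.mem_sup_left hw'))
    · obtain ⟨b, hb1, hb2, hb3⟩ := exists_sing_dual hW₀.1 hpU f (fun w hw => by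
        obtain ⟨t, ht⟩ := hspan w w.2
        by_cases ht0 : t = 0
        · have e : w = 0 := Subtype.ext (by rw [ht, ht0, zero_smul]; rfl)
          rw [e, map_zero]
        · exfalso
          apply hI
          have : e₀ = t⁻¹ • (w : V) := by rw [ht, smul_smul, inv_mul_cancel₀ ht0, one_smul]
          rw [this]
          exact Submodule.smul_mem _ _ hw) hf0
      obtain ⟨g, hg1, hg2, hg3, hg4⟩ := key b hb1 (by rw [← hb2 ⟨e₀, he₀⟩]; exact hf)
        (fun w hw => hb3 w (Submodule.mem_sup_right hw))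
      refine ⟨g, hg1, ?_, hg4⟩
      rw [hg3 u (F.B_eq_zero hc) (hb3 u (Submodule.mem_sup_left (Submodule.mem_span_singleton_self u)))]
      exact Submodule.mem_sup_right (Submodule.mem_span_singleton_self u)
  · obtain ⟨g, hg1, hg2, hg3, hg4⟩ := key u hu hc huW
    refine ⟨g, hg1, ?_, hg4⟩
    have := hg2 1
    rw [one_smul] at this
    exact Submodule.mem_sup_right this

end CForm

end Cfsg.Agent.H477.HC
end

-- part: H477/HC/HcPt
section
/-!
# Harish-Chandra induction with a constituent of the permutation character on the points (hub H5, helper477)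

`exists_hc_pt` : for `c` cuspidal, not self-dual, `ψ₀` an irreducible constituent of the permutation character of
`F'.iso` on `F'.Pt`, an irreducible character of `F.iso` of degree `dg F k * ψ₀ 1`.
-/

set_option autoImplicit false

open scoped ComplexConjugate
open Cfsg

namespace Cfsg.Agent.H477.HC

open Cfsg.Agent.OddOrderCharacters.Clifford Cfsg.Agent.Characters MulAction Module Cfsg.Agent.H53.HC
open Cfsg.Agent.H749.Two

universe u v w

namespace CForm

variable {K : Type u} [Field K] {V : Type v} [AddCommGroup V] [Module K V] {F : CForm K V}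
  {X : Type w} [AddCommGroup X] [Module K X] {F' : CForm K X} {j : X →ₗ[K] V} {W₀ : Submodule K V}

/-- an element stabilising `x (W₀ + j v)` fixes the point `v` -/
theorem pt_fix [FiniteDimensional K V] [FiniteDimensional K X] (h : Cmp F F' j W₀)
    {ρ : stabW F.iso.subtype W₀ →* F'.iso}
    (hρ1 : ∀ (g : stabW F.iso.subtype W₀) y, ((g : F.iso) : V ≃ₗ[K] V) (j y) - j ((ρ g : X ≃ₗ[K] X) y) ∈ W₀)
    {W' : Submodule K V} {x : F.iso} (hx : W₀.map (F.iso.subtype x : V →ₗ[K] V) = W') {l : F.iso}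
    (hl : x⁻¹ * l * x ∈ stabW F.iso.subtype W₀) {v : X} (h0 : v ≠ 0) (hv : F'.Sing v)
    (hu : (l : V ≃ₗ[K] V) ((x : V ≃ₗ[K] V) (j v)) ∈ W' ⊔ Submodule.span K {(x : V ≃ₗ[K] V) (j v)}) :
    ρ ⟨_, hl⟩ • F'.pt v h0 hv = F'.pt v h0 hv := by
  classical
  obtain ⟨r, hr, hrj, hrW⟩ := h.exists_proj
  obtain ⟨w', hw', y, hy, e⟩ := Submodule.mem_sup.1 hu
  obtain ⟨t, rfl⟩ := Submodule.mem_span_singleton.1 hy
  have h1 := hρ1 ⟨_, hl⟩ v
  have h2 : ((x⁻¹ : F.iso) : V ≃ₗ[K] V) w' ∈ W₀ := by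
    rw [← hx] at hw'
    obtain ⟨w, hw, rfl⟩ := hw'
    change ((x⁻¹ : F.iso) : V ≃ₗ[K] V) ((x : V ≃ₗ[K] V) w) ∈ W₀
    rw [show ((x⁻¹ : F.iso) : V ≃ₗ[K] V) ((x : V ≃ₗ[K] V) w) = w from (x : V ≃ₗ[K] V).symm_apply_apply w]
    exact hw
  have h3 : (((⟨_, hl⟩ : stabW F.iso.subtype W₀) : F.iso) : V ≃ₗ[K] V) (j v) =
      ((x⁻¹ : F.iso) : V ≃ₗ[K] V) w' + t • j v := by
    change ((x⁻¹ : F.iso) : V ≃ₗ[K] V) ((l : V ≃ₗ[K] V) ((x : V ≃ₗ[K] V) (j v))) = _
    rw [← e, map_add, map_smul,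
      show ((x⁻¹ : F.iso) : V ≃ₗ[K] V) ((x : V ≃ₗ[K] V) (j v)) = j v from (x : V ≃ₗ[K] V).symm_apply_apply _]
  have h4 := hrW _ h1
  rw [h3, map_sub, map_add, map_smul, hrW _ h2, hrj, hrj, zero_add, sub_eq_zero] at h4
  rw [smul_pt, pt_eq_iff]
  refine ⟨t, ?_, h4.symm⟩
  rintro rfl
  rw [zero_smul] at h4
  exact h0 ((LinearEquiv.map_eq_zero_iff _).1 h4.symm)

open Classical in
theorem sum_ite_sub {L I : Type*} [Group L] [Fintype L] [Group I] (φ : L →* I) {Y : Type*} [MulAction I Y] (y : Y)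
    (C : L → ℂ) [Fintype ((stabilizer I y).comap φ)] :
    ∑ l : L, (if φ l • y = y then C l else 0) = ∑ s : (stabilizer I y).comap φ, C s := by
  rw [sum_eq_sum_subgroup ((stabilizer I y).comap φ) (fun l => if φ l • y = y then C l else 0)]
  · refine Finset.sum_congr rfl fun s _ => ?_
    rw [if_pos]
    exact s.2
  · intro g hg
    rw [if_neg]
    exact hg

/-- **the vanishing condition for the points**, `k ≥ 2` -/
theorem van_pt [FiniteDimensional K V] [FiniteDimensional K X] [Finite V] [Finite K] (h : Cmp F F' j W₀) {k : ℕ}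
    (hk : 2 ≤ k) {c : GL (Fin k) K → ℂ}
    (hc : IsCharacter _ c) (hcusp : _root_.Cfsg.Agent.H53.HC.IsCusp c)
    {ψ₀ θ₀ : F'.iso → ℂ} (hψ : IsCharacter _ ψ₀) (hθ : IsCharacter _ θ₀)
    (hsum : ∀ g, ψ₀ g + θ₀ g = (Nat.card {y : F'.Pt // g • y = y} : ℂ))
    {ρ : stabW F.iso.subtype W₀ →* F'.iso}
    (hρ1 : ∀ (g : stabW F.iso.subtype W₀) y, ((g : F.iso) : V ≃ₗ[K] V) (j y) - j ((ρ g : X ≃ₗ[K] X) y) ∈ W₀)
    (hρ2 : ∀ g : stabW F.iso.subtype W₀, (g : F.iso) ∈ F.TT W₀ → ρ g = 1)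
    (hW₀ : W₀ ∈ F.Om k) {W' : Submodule K V} (hW' : W' ∈ F.Om k) (hperp : W₀ ≤ F.perp W') (h0 : W₀ ⊓ W' = ⊥) :
    F.Van c (psf F W₀ (ψ₀ ∘ ρ)) W₀ W' := by
  classical
  have hjinj : Function.Injective j := by
    rw [injective_iff_map_eq_zero]
    intro y hy
    refine F'.nondeg y fun z => ?_
    rw [← h.jB, hy, F.B_zero_left]
  have hfX : Finite X := Finite.of_injective j hjinj
  have : Finite F'.Pt := inferInstanceAs (Finite {W : Submodule K X // W ∈ F'.Om 1})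
  obtain ⟨x, hx⟩ := F.trans_Om hW₀ hW'
  refine van_perm hc hψ hθ hsum hρ2 hW₀ hW' hx fun φ hφ => ?_
  intro _ y
  obtain ⟨v, hv0, hv, rfl⟩ := F'.exists_pt y
  let L : Subgroup F.iso := F.TT W₀ ⊓ F.fixW W'
  let _ : Fintype ((stabilizer F'.iso (F'.pt v hv0 hv)).comap φ) := Fintype.ofFinite _
  rw [sum_ite_sub φ (F'.pt v hv0 hv) (fun l : L => flagTerm F.iso.subtype c (l : F.iso) W₀)]
  let H : Subgroup F.iso := ((stabilizer F'.iso (F'.pt v hv0 hv)).comap φ).map L.subtype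
  have : Finite F.iso := finite_iso F
  let _ : Fintype H := Fintype.ofFinite _
  have e1 : ∑ s : (stabilizer F'.iso (F'.pt v hv0 hv)).comap φ, flagTerm F.iso.subtype c ((s : L) : F.iso) W₀ =
      ∑ l : H, flagTerm F.iso.subtype c l W₀ :=
    Fintype.sum_equiv (((stabilizer F'.iso (F'.pt v hv0 hv)).comap φ).equivMapOfInjective L.subtype
      L.subtype_injective).toEquiv _ _ fun s => rfl
  rw [e1]
  have hu : F.Sing ((x : V ≃ₗ[K] V) (j v)) := F.sing_map x ⟨by rw [h.jQ]; exact hv.1, by rw [h.jB]; exact hv.2⟩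
  have huW : ∀ w ∈ W', F.B w ((x : V ≃ₗ[K] V) (j v)) = 0 := by
    intro w hw
    rw [← hx] at hw
    obtain ⟨w₀, hw₀, rfl⟩ := hw
    change F.B ((x : V ≃ₗ[K] V) w₀) _ = 0
    rw [F.iso_B]
    exact F.B_eq_zero (h.j1 v w₀ hw₀)
  obtain ⟨D, hD, hD0, hD1, hgen⟩ := exists_D hk hW₀ hW' hperp h0 hu huW
  refine sum_cusp hc hcusp hW₀.2 D hD hD0 hD1 H ?_ fun y hy f hf => ?_
  · rintro _ ⟨s, -, rfl⟩
    exact s.2.1.1
  · obtain ⟨g, hg, hgu, hgw⟩ := hgen y hy f hf
    refine ⟨g, ⟨⟨g, hg⟩, ?_, rfl⟩, hgw⟩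
    change φ ⟨g, hg⟩ • F'.pt v hv0 hv = F'.pt v hv0 hv
    obtain ⟨hl, e⟩ := hφ ⟨g, hg⟩
    rw [e]
    refine pt_fix h hρ1 hx hl hv0 hv ?_
    change (g : V ≃ₗ[K] V) _ ∈ _
    rw [hgu]
    exact Submodule.mem_sup_right (Submodule.mem_span_singleton_self _)

/-- **the vanishing condition for the points**, `k = 1`, `c ≠ 1` -/
theorem van_pt1 [FiniteDimensional K V] [FiniteDimensional K X] [Finite V] [Finite K] (h : Cmp F F' j W₀)
    {c : GL (Fin 1) K → ℂ} (hc : IsIrrCharacter _ c) (hc1 : c ≠ 1)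
    {ψ₀ θ₀ : F'.iso → ℂ} (hψ : IsCharacter _ ψ₀) (hθ : IsCharacter _ θ₀)
    (hsum : ∀ g, ψ₀ g + θ₀ g = (Nat.card {y : F'.Pt // g • y = y} : ℂ))
    {ρ : stabW F.iso.subtype W₀ →* F'.iso}
    (hρ1 : ∀ (g : stabW F.iso.subtype W₀) y, ((g : F.iso) : V ≃ₗ[K] V) (j y) - j ((ρ g : X ≃ₗ[K] X) y) ∈ W₀)
    (hρ2 : ∀ g : stabW F.iso.subtype W₀, (g : F.iso) ∈ F.TT W₀ → ρ g = 1)
    (hW₀ : W₀ ∈ F.Om 1) {W' : Submodule K V} (hW' : W' ∈ F.Om 1) (hperp : W₀ ≤ F.perp W') (h0 : W₀ ⊓ W' = ⊥) :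
    F.Van c (psf F W₀ (ψ₀ ∘ ρ)) W₀ W' := by
  classical
  have hcc := Core.isIrr_isCharacter hc
  have hcf := Core.isIrr_isClassFunction hc
  have hjinj : Function.Injective j := by
    rw [injective_iff_map_eq_zero]
    intro y hy
    refine F'.nondeg y fun z => ?_
    rw [← h.jB, hy, F.B_zero_left]
  have hfX : Finite X := Finite.of_injective j hjinj
  have : Finite F'.Pt := inferInstanceAs (Finite {W : Submodule K X // W ∈ F'.Om 1})
  obtain ⟨x, hx⟩ := F.trans_Om hW₀ hW'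
  refine van_perm hcc hψ hθ hsum hρ2 hW₀ hW' hx fun φ hφ => ?_
  intro _ y
  obtain ⟨v, hv0, hv, rfl⟩ := F'.exists_pt y
  let L : Subgroup F.iso := F.TT W₀ ⊓ F.fixW W'
  let _ : Fintype ((stabilizer F'.iso (F'.pt v hv0 hv)).comap φ) := Fintype.ofFinite _
  rw [sum_ite_sub φ (F'.pt v hv0 hv) (fun l : L => flagTerm F.iso.subtype c (l : F.iso) W₀)]
  have hu : F.Sing ((x : V ≃ₗ[K] V) (j v)) := F.sing_map x ⟨by rw [h.jQ]; exact hv.1, by rw [h.jB]; exact hv.2⟩
  have huW : ∀ w ∈ W', F.B w ((x : V ≃ₗ[K] V) (j v)) = 0 := by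
    intro w hw
    rw [← hx] at hw
    obtain ⟨w₀, hw₀, rfl⟩ := hw
    change F.B ((x : V ≃ₗ[K] V) w₀) _ = 0
    rw [F.iso_B]
    exact F.B_eq_zero (h.j1 v w₀ hw₀)
  let b₀ : Basis (Fin 1) K W₀ := finBasisOfFinrankEq K W₀ hW₀.2
  let _ : Fintype (GL (Fin 1) K) := Fintype.ofFinite _
  let S : Subgroup L := (stabilizer F'.iso (F'.pt v hv0 hv)).comap φ
  let f : S →* GL (Fin 1) K :=
    (glE b₀).toMonoidHom.comp ((resHom F.iso.subtype W₀).comp
      ((Subgroup.inclusion (show L ≤ stabW F.iso.subtype W₀ from fun l hl => hl.1.1)).comp S.subtype))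
  have hf : Function.Surjective f := by
    intro A
    obtain ⟨a, rfl⟩ := (glE b₀).surjective A
    obtain ⟨g, hg, hgu, hgw⟩ := exists_L1 hW₀ hW'.1 hperp h0 hu huW a
    refine ⟨⟨⟨g, hg⟩, ?_⟩, ?_⟩
    · change φ ⟨g, hg⟩ • F'.pt v hv0 hv = F'.pt v hv0 hv
      obtain ⟨hl, e⟩ := hφ ⟨g, hg⟩
      rw [e]
      exact pt_fix h hρ1 hx hl hv0 hv hgu
    · change glE b₀ (res (F.iso.subtype g) W₀ _) = glE b₀ a
      congr 1
      ext w
      exact hgw w
  have e1 : ∀ s : S, flagTerm F.iso.subtype c ((s : L) : F.iso) W₀ = c (f s) := by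
    intro s
    rw [flagTerm_of F.iso.subtype c (s : L).2.1.1, cl_eq hcf b₀]
    rfl
  rw [Finset.sum_congr rfl fun s _ => e1 s, sum_comp_hom f hf c]
  have h4 := Core.classInner_irr_ne hc Core.isIrr_one hc1
  rw [Core.classInner_def] at h4
  rcases mul_eq_zero.1 h4 with h5 | h5
  · exact absurd h5 (inv_ne_zero card_ne_zero')
  · have : ∑ A, c A = 0 := by
      rw [← h5]
      refine Finset.sum_congr rfl fun A _ => ?_
      rw [Pi.one_apply, map_one, mul_one]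
    rw [this, mul_zero]

/-- **Harish-Chandra induction of `c ⊗ ψ₁`** -/
theorem exists_hc_van [Finite K] [FiniteDimensional K V] [Finite V] {k : ℕ} {Z : Kˣ → Prop} {c : GL (Fin k) K → ℂ}
    (hc : Cus K k F.σ Z c) (hW₀ : W₀ ∈ F.Om k) {ψ₁ : stabW F.iso.subtype W₀ → ℂ} (hψ : IsIrrCharacter _ ψ₁)
    (hT : ∀ g : stabW F.iso.subtype W₀, (g : F.iso) ∈ F.TT W₀ → ψ₁ g = ψ₁ 1)
    (hW : ∀ W' ∈ F.Om k, W₀ ≤ F.perp W' → W₀ ⊓ W' = ⊥ → F.Van c (psf F W₀ ψ₁) W₀ W') :
    ∃ χ : F.iso → ℂ, IsIrrCharacter F.iso χ ∧ χ 1 = dg F k * ψ₁ 1 ∧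
      ∀ (z : F.iso) (a : Kˣ), (∀ v, (z : V ≃ₗ[K] V) v = (a : K) • v) →
        (∀ hs : z ∈ stabW F.iso.subtype W₀, c (Matrix.GeneralLinearGroup.scalar (Fin k) a) * ψ₁ ⟨z, hs⟩ = c 1 * ψ₁ 1) →
        χ z = χ 1 := by
  classical
  have := finite_Om F k
  have := finite_iso F
  let _ := Fintype.ofFinite (F.Om k)
  let _ := Fintype.ofFinite F.iso
  have hcl := Core.isIrr_isClassFunction hc.irr
  have hcl1 := Core.isIrr_isClassFunction hψ
  obtain ⟨W₁, hW₁, hopp⟩ := F.exists_opp hW₀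
  have hψT : ∀ W ∈ F.Om k, ∀ g ∈ F.TT W, psf F W₀ ψ₁ g W = psf F W₀ ψ₁ 1 W := by
    intro W hWk g hg
    obtain ⟨x, hx⟩ := F.trans_Om hW₀ hWk
    have h1 := TT_conj hx hg
    have h2 : x⁻¹ * 1 * x ∈ stabW F.iso.subtype W₀ := by
      rw [mul_one, inv_mul_cancel]; exact Subgroup.one_mem _
    rw [psf_eq hcl1 hx h1.1, psf_eq hcl1 hx h2, hT _ (by exact h1)]
    congr 1
    apply Subtype.ext
    change 1 = x⁻¹ * 1 * x
    group
  have hirr : IsIrrCharacter (stabW F.iso.subtype W₀) (fun g => psf F W₀ ψ₁ g W₀) := by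
    have : (fun g : stabW F.iso.subtype W₀ => psf F W₀ ψ₁ g W₀) = ψ₁ := by
      funext g
      exact psf_self hcl1 g
    rw [this]; exact hψ
  have hval1 : ∀ W ∈ F.Om k, psf F W₀ ψ₁ 1 W = ψ₁ 1 := by
    intro W hWk
    obtain ⟨x, hx⟩ := F.trans_Om hW₀ hWk
    have h2 : x⁻¹ * 1 * x ∈ stabW F.iso.subtype W₀ := by
      rw [mul_one, inv_mul_cancel]; exact Subgroup.one_mem _
    rw [psf_eq hcl1 hx h2]
    congr 1
    apply Subtype.ext
    change x⁻¹ * 1 * x = 1
    group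
  refine ⟨F.hc c (psf F W₀ ψ₁), F.isIrr_hc hc.irr hc.cusp hc.dual (psf_conj hcl1) hψT hW₀
    (fun W hWk => F.trans_Om hW₀ hWk) (F.isIrr_stab hc.irr hψT hW₀ hW₁ hopp hirr) hW, ?_, fun z a hz h => ?_⟩
  · rw [F.hc_one hcl _ hval1, hc.deg]
    unfold dg
    push_cast
    ring
  · unfold CForm.hc
    refine Finset.sum_congr rfl fun W _ => ?_
    have hfix : ∀ U : Submodule K V, U.map (F.iso.subtype z : V →ₗ[K] V) = U := fun U =>
      map_eq_of_le F.iso.subtype fun w hw => by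
        change (z : V ≃ₗ[K] V) w ∈ U
        rw [hz]; exact U.smul_mem _ hw
    have h' : W.1.map (F.iso.subtype 1 : V →ₗ[K] V) = W.1 := Submodule.map_id _
    rw [hval1 W.1 W.2, flagTerm_of F.iso.subtype c (hfix W.1), flagTerm_of F.iso.subtype c h',
      cl_eq hcl (finBasisOfFinrankEq K W.1 W.2.2)]
    have e2 : res (F.iso.subtype 1) W.1 h' = 1 := by
      ext w
      rfl
    rw [e2, cl_one hcl (finBasisOfFinrankEq K W.1 W.2.2), ← h (hfix W₀)]
    obtain ⟨x, hx⟩ := F.trans_Om hW₀ W.2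
    have hzx : x⁻¹ * z * x = z := by
      apply Subtype.ext
      ext v
      change ((x⁻¹ : F.iso) : V ≃ₗ[K] V) ((z : V ≃ₗ[K] V) ((x : V ≃ₗ[K] V) v)) = (z : V ≃ₗ[K] V) v
      rw [hz, hz, map_smul]
      congr 1
      exact (x : V ≃ₗ[K] V).symm_apply_apply v
    have hzs : x⁻¹ * z * x ∈ stabW F.iso.subtype W₀ := by rw [hzx]; exact hfix W₀
    rw [psf_eq hcl1 hx hzs]
    congr 2
    · ext i j
      rw [coe_glE, LinearMap.toMatrix_apply]
      have e2 : (res (F.iso.subtype z) W.1 (hfix W.1) : W.1 →ₗ[K] W.1) (finBasisOfFinrankEq K W.1 W.2.2 j) =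
          (a : K) • (finBasisOfFinrankEq K W.1 W.2.2 j) := Subtype.ext (hz _)
      rw [e2, map_smul, Finsupp.smul_apply, Basis.repr_self, smul_eq_mul, Matrix.GeneralLinearGroup.coe_scalar,
        Matrix.scalar_apply, Matrix.diagonal_apply, Finsupp.single_apply]
      by_cases hij : i = j
      · simp [hij]
      · rw [if_neg hij, if_neg (Ne.symm hij), mul_zero]
    · exact Subtype.ext hzx

/-- **Harish-Chandra induction, `ψ₀` a constituent of the permutation character on the points.** -/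
theorem exists_hc_pt [Finite K] [FiniteDimensional K V] [Finite V] [FiniteDimensional K X] (h : Cmp F F' j W₀)
    {k : ℕ} (hk : 0 < k) {Z : Kˣ → Prop} {c : GL (Fin k) K → ℂ}
    (hc : Cus K k F.σ Z c) (hW₀ : W₀ ∈ F.Om k) {ψ₀ θ₀ : F'.iso → ℂ} (hψ : IsIrrCharacter _ ψ₀)
    (hθ : IsCharacter _ θ₀) (hsum : ∀ g, ψ₀ g + θ₀ g = (Nat.card {y : F'.Pt // g • y = y} : ℂ)) :
    ∃ χ : F.iso → ℂ, IsIrrCharacter F.iso χ ∧ χ 1 = dg F k * ψ₀ 1 ∧
      ∀ (z : F.iso) (a : Kˣ), (∀ v, (z : V ≃ₗ[K] V) v = (a : K) • v) →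
        (∀ z' : F'.iso, (∀ x, (z' : X ≃ₗ[K] X) x = (a : K) • x) →
          c (Matrix.GeneralLinearGroup.scalar (Fin k) a) * ψ₀ z' = c 1 * ψ₀ 1) →
        χ z = χ 1 := by
  classical
  obtain ⟨ρ, hρ1, hρ2, hρ3⟩ := h.exists_rho
  obtain ⟨r, hr, hrj, hrW⟩ := h.exists_proj
  have hsurj : Function.Surjective ρ := fun b => by
    obtain ⟨g, hg, -⟩ := hρ3 1 b
    exact ⟨g, hg⟩
  have hvan : ∀ W' ∈ F.Om k, W₀ ≤ F.perp W' → W₀ ⊓ W' = ⊥ → F.Van c (psf F W₀ (ψ₀ ∘ ρ)) W₀ W' := by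
    intro W' hW' h1 h2
    rcases Nat.lt_or_ge k 2 with hk2 | hk2
    · obtain rfl : k = 1 := by omega
      refine van_pt1 h hc.irr (fun h1 => hc.dual ?_) (Core.isIrr_isCharacter hψ) hθ hsum hρ1 hρ2 hW₀ hW' ‹_› h2
      rw [h1]
      rfl
    · exact van_pt h hk2 (Core.isIrr_isCharacter hc.irr) hc.cusp (Core.isIrr_isCharacter hψ) hθ hsum hρ1 hρ2 hW₀ hW'
        h1 h2
  obtain ⟨χ, hχ, hχ1, hχz⟩ := exists_hc_van hc hW₀ (Core.isIrr_comp ρ hsurj hψ) (fun g hg => by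
    rw [Function.comp_apply, Function.comp_apply, hρ2 g hg, map_one]) hvan
  refine ⟨χ, hχ, by rw [hχ1, Function.comp_apply, map_one], fun z a hz h1 => hχz z a hz fun hs => ?_⟩
  rw [Function.comp_apply, Function.comp_apply, map_one]
  refine h1 _ fun x => ?_
  have h2 := hrW _ (hρ1 ⟨z, hs⟩ x)
  rw [map_sub, hrj, sub_eq_zero] at h2
  rw [← h2]
  change r ((z : V ≃ₗ[K] V) (j x)) = _
  rw [hz, map_smul, hrj]

end CForm

end Cfsg.Agent.H477.HC
end
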