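import Cfsg.Agent.H53.HC.Flag_m3
import Cfsg.Agent.H477.HC.Levi
import Cfsg.Agent.H477.HC.HcPt
import Cfsg.Agent.H477.HC.SpSix
import Cfsg.Agent.H749.TwoMinus
import Cfsg.Agent.H621.AltChar
import Cfsg.Agent.UGT.U2.Rec.Congr
import Cfsg.Agent.FastGrp
import Cfsg.Agent.Prune
set_option linter.all false
prune_inst 0x7ffce9fbebe8abffdfff7e3fa6d8cdfdf3a82fffa4dffdcb7fe069bf0b9f03004dc5ab8d8de210fe1ef6421410a87843fbffeeffe26fdc7ffffd5fb41ffbee4fe5f7b50851d5883406ac0ffe03f0570e6f3ffff7fffffffffffffff7ffffffbeffbfe3feffff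
open scoped Cfsg.Agent.FastGrp

-- part: H477/HC/N2
section
/-!
# Norm `2`: the two constituents have degrees `d`, `p ^ b * d` (hub H5, helper477)

`HN P U w ρ` : as `HD`, with the vanishing of the Mackey terms instead of `van`.
`HN.quad` : `T² = A T + |U|`; `HN.two` : the constituents; `HN.two_pow` : their degrees if `|U| = p ^ N`;
parity of `b` if the character of `ρ` is rational; `A = 0` if `T` is conjugate to `- T`.
-/

set_option autoImplicit false
set_option linter.unusedSectionVars false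

open scoped ComplexConjugate
open Cfsg

namespace Cfsg.Agent.H477.HC

open Cfsg.Agent.OddOrderCharacters.Clifford Cfsg.Agent.Characters Module

universe u v

section Machine

variable {G : Type u} [Group G] [Fintype G] (P : Subgroup G) [Fintype P] {M : Type v} [AddCommGroup M] [Module ℂ M]
  (ρ : Representation ℂ P M)

/-- the data -/
structure HN (P U : Subgroup G) [Fintype P] (w : G) (ρ : Representation ℂ P M) : Prop where
  le : U ≤ P
  nor : ∀ p ∈ P, ∀ u ∈ U, p * u * p⁻¹ ∈ U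
  triv : ∀ u : P, (u : G) ∈ U → ρ u = 1
  big : ∀ p : P, ∃ u ∈ U, ∃ p' : P, (p : G) * w = u * w * p' ∧ ρ p' = ρ p
  ww : ∃ p : P, (p : G) = w * w ∧ ρ p = 1
  opp : ∀ u ∈ U, w * u * w ∈ P → u = 1
  wP : w ∉ P
  tw : ∀ x : G, x ∉ P → (¬ ∃ u ∈ U, ∃ p ∈ P, x = u * w * p) → twist P ρ.character ρ.character x = 0

variable {P ρ} {U : Subgroup G} {w : G}

theorem HN.inj (h : HN P U w ρ) {u u' : G} (hu : u ∈ U) (hu' : u' ∈ U) {p p' : G} (hp : p ∈ P) (hp' : p' ∈ P)
    (e : u * w * p = u' * w * p') : u = u' ∧ p = p' := by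
  have h1 : w⁻¹ * (u'⁻¹ * u) * w = p' * p⁻¹ := by
    have h2 : u'⁻¹ * (u * w * p) * p⁻¹ = u'⁻¹ * (u' * w * p') * p⁻¹ := by rw [e]
    have h3 : u'⁻¹ * u * w = w * p' * p⁻¹ := by
      calc u'⁻¹ * u * w = u'⁻¹ * (u * w * p) * p⁻¹ := by group
        _ = u'⁻¹ * (u' * w * p') * p⁻¹ := h2
        _ = w * p' * p⁻¹ := by group
    calc w⁻¹ * (u'⁻¹ * u) * w = w⁻¹ * (u'⁻¹ * u * w) := by group
      _ = w⁻¹ * (w * p' * p⁻¹) := by rw [h3]
      _ = p' * p⁻¹ := by group
  have h4 : w * (u'⁻¹ * u) * w ∈ P := by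
    obtain ⟨q, hq, -⟩ := h.ww
    have : w * (u'⁻¹ * u) * w = (w * w) * (w⁻¹ * (u'⁻¹ * u) * w) := by group
    rw [this, h1, ← hq]
    exact P.mul_mem q.2 (P.mul_mem hp' (P.inv_mem hp))
  have h5 := h.opp _ (U.mul_mem (U.inv_mem hu') hu) h4
  have h6 : u = u' := (inv_mul_eq_one.1 h5).symm
  refine ⟨h6, ?_⟩
  rw [h6] at e
  exact mul_left_cancel e

theorem HN.inV_Top (h : HN P U w ρ) [Fintype U] {f : G → M} (hf : InV P ρ f) : InV P ρ (Top U w f) := by
  intro g p
  rw [Top_apply, Top_apply, map_sum]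
  obtain ⟨u₀, hu₀, p', e, e'⟩ := h.big p
  -- `u ↦ p u p⁻¹ u₀`
  let φ : U ≃ U :=
    { toFun := fun u => ⟨p * u * (p : G)⁻¹ * u₀, U.mul_mem (h.nor p p.2 u u.2) hu₀⟩
      invFun := fun u => ⟨(p : G)⁻¹ * (u * u₀⁻¹) * p, by
        have := h.nor (p : G)⁻¹ (P.inv_mem p.2) (u * u₀⁻¹) (U.mul_mem u.2 (U.inv_mem hu₀))
        rwa [inv_inv] at this⟩
      left_inv := fun u => by
        apply Subtype.ext
        change (p : G)⁻¹ * (p * u * (p : G)⁻¹ * u₀ * u₀⁻¹) * p = u
        group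
      right_inv := fun u => by
        apply Subtype.ext
        change (p : G) * ((p : G)⁻¹ * (u * u₀⁻¹) * p) * (p : G)⁻¹ * u₀ = u
        group }
  refine Fintype.sum_equiv φ _ _ fun u => ?_
  change ρ p (f (g * p * u * w)) = f (g * (p * u * (p : G)⁻¹ * u₀) * w)
  have h1 : g * p * u * w = g * (p * u * (p : G)⁻¹ * u₀) * w * p' := by
    calc g * p * u * w = g * (p * u * (p : G)⁻¹) * (p * w) := by group
      _ = g * (p * u * (p : G)⁻¹) * (u₀ * w * p') := by rw [e]
      _ = _ := by group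
  rw [h1, ← e']
  exact hf _ p'

theorem HN.trace_Top (h : HN P U w ρ) [Fintype U] [FiniteDimensional ℂ M] :
    LinearMap.trace ℂ _ (Top U w * Ep P ρ) = 0 := by
  classical
  rw [trace_fun]
  refine Finset.sum_eq_zero fun g _ => ?_
  have h0 : (LinearMap.proj g).comp ((Top U w * Ep P ρ).comp (LinearMap.single ℂ (fun _ => M) g)) = 0 := by
    refine LinearMap.ext fun m => ?_
    change ∑ u : U, ((Nat.card P : ℂ)⁻¹ • ∑ p : P, ρ p ((Pi.single g m : G → M) (g * u * w * p))) = 0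
    refine Finset.sum_eq_zero fun u _ => ?_
    rw [Finset.sum_eq_zero, smul_zero]
    intro p _
    rw [Pi.single_eq_of_ne, map_zero]
    intro e
    apply h.wP
    have : w = (u : G)⁻¹ * (p : G)⁻¹ := by
      calc w = (u : G)⁻¹ * g⁻¹ * (g * u * w * p) * (p : G)⁻¹ := by group
        _ = (u : G)⁻¹ * g⁻¹ * g * (p : G)⁻¹ := by rw [e]
        _ = _ := by group
    rw [this]
    exact P.mul_mem (P.inv_mem (h.le u.2)) (P.inv_mem p.2)
  rw [h0, map_zero]

theorem HN.char_w (h : HN P U w ρ) (t : P) (ht : w⁻¹ * (t : G) * w ∈ P) :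
    ρ.character ⟨w⁻¹ * (t : G) * w, ht⟩ = ρ.character t := by
  obtain ⟨u, hu, p', e, e'⟩ := h.big t
  have h1 : u * w * p' = 1 * w * (⟨w⁻¹ * (t : G) * w, ht⟩ : P) := by
    rw [← e]
    change (t : G) * w = 1 * w * (w⁻¹ * (t : G) * w)
    group
  obtain ⟨-, h2⟩ := h.inj hu U.one_mem p'.2 (⟨w⁻¹ * (t : G) * w, ht⟩ : P).2 h1
  have h3 : p' = ⟨w⁻¹ * (t : G) * w, ht⟩ := Subtype.ext h2
  rw [← h3]
  unfold Representation.character
  rw [e']

theorem HN.twist_big (h : HN P U w ρ) [FiniteDimensional ℂ M] {u p : G} (hu : u ∈ U) (hp : p ∈ P) :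
    twist P ρ.character ρ.character (u * w * p) = twist P ρ.character ρ.character w := by
  have hcf : IsClassFunction P ρ.character := Core.isCharacter_isClassFunction (Core.isCharacter_of_rep ρ)
  have hext : ∀ y : G, extendByZero P ρ.character (p⁻¹ * y * p) = extendByZero P ρ.character y := by
    intro y
    by_cases hy : y ∈ P
    · rw [ext_apply_mem _ _ _ hy, ext_apply_mem _ _ _ (P.mul_mem (P.mul_mem (P.inv_mem hp) hy) hp)]
      have := hcf ⟨y, hy⟩ (⟨p, hp⟩⁻¹ : P)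
      rw [← this]
      congr 1
      apply Subtype.ext
      change p⁻¹ * y * p = p⁻¹ * y * p⁻¹⁻¹
      rw [inv_inv]
    · rw [ext_apply_not_mem _ _ _ hy, ext_apply_not_mem]
      intro h'
      apply hy
      have := P.mul_mem (P.mul_mem hp h') (P.inv_mem hp)
      have e : p * (p⁻¹ * y * p) * p⁻¹ = y := by group
      rwa [e] at this
  rw [twist_def, twist_def]
  have hu' : u ∈ P := h.le hu
  refine (Fintype.sum_equiv (MulAut.conj (⟨u, hu'⟩ : P)).toEquiv _ _ fun t => ?_).symm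
  change ρ.character t * conj (extendByZero P ρ.character (w⁻¹ * t * w)) =
    ρ.character ((⟨u, hu'⟩ : P) * t * (⟨u, hu'⟩ : P)⁻¹) *
      conj (extendByZero P ρ.character ((u * w * p)⁻¹ * (u * t * u⁻¹) * (u * w * p)))
  rw [hcf]
  congr 2
  have e : (u * w * p)⁻¹ * (u * t * u⁻¹) * (u * w * p) = p⁻¹ * (w⁻¹ * t * w) * p := by group
  rw [e, hext]

open Classical in
theorem HN.card_twist (h : HN P U w ρ) [Fintype U] [FiniteDimensional ℂ M] (hirr : IsIrrCharacter P ρ.character) :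
    (Nat.card U : ℂ) * twist P ρ.character ρ.character w = Nat.card P := by
  have h1 : twist P ρ.character ρ.character w =
      ∑ t : {t : P // w⁻¹ * (t : G) * w ∈ P}, ρ.character t * conj (ρ.character t) := by
    rw [twist_def]
    rw [← Finset.sum_subtype (Finset.univ.filter fun t : P => w⁻¹ * (t : G) * w ∈ P) (fun t => by simp only [_root_.Finset.mem_filter, _root_.Finset.mem_univ, _root_.true_and])
      (fun t : P => ρ.character t * conj (ρ.character t)), Finset.sum_filter]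
    refine Finset.sum_congr rfl fun t _ => ?_
    split_ifs with ht
    · rw [ext_apply_mem _ _ _ ht, h.char_w t ht]
    · rw [ext_apply_not_mem _ _ _ ht, map_zero, mul_zero]
  have h2 := Core.classInner_irr_self hirr
  rw [Core.classInner_def] at h2
  have h3 : ∑ p : P, ρ.character p * conj (ρ.character p) = Nat.card P := by
    have h0 : (Nat.card P : ℂ) ≠ 0 := Core.card_ne_zero_complex
    rw [← mul_one (Nat.card P : ℂ), ← h2, ← mul_assoc, mul_inv_cancel₀ h0, one_mul]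
  let φ : U × {t : P // w⁻¹ * (t : G) * w ∈ P} → P := fun x => ⟨x.1, h.le x.1.2⟩ * x.2
  have hφ : Function.Bijective φ := by
    constructor
    · rintro ⟨u, t, ht⟩ ⟨u', t', ht'⟩ e
      have e1 : (u : G) * t = u' * t' := congrArg (Subtype.val) e
      have e2 : (u : G) * w * (w⁻¹ * (t : G) * w) = u' * w * (w⁻¹ * (t' : G) * w) := by
        calc (u : G) * w * (w⁻¹ * (t : G) * w) = (u * t) * w := by group
          _ = (u' * t') * w := by rw [e1]
          _ = _ := by group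
      obtain ⟨e3, e4⟩ := h.inj u.2 u'.2 ht ht' e2
      have e5 : u = u' := Subtype.ext e3
      have e6 : (t : G) = t' := by
        rw [e3] at e1
        exact mul_left_cancel e1
      have e7 : t = t' := Subtype.ext e6
      subst e5; subst e7
      rfl
    · intro p
      obtain ⟨u, hu, p', e, -⟩ := h.big p
      have e1 : (u : G)⁻¹ * p = w * p' * w⁻¹ := by
        calc (u : G)⁻¹ * p = u⁻¹ * (p * w) * w⁻¹ := by group
          _ = u⁻¹ * (u * w * p') * w⁻¹ := by rw [e]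
          _ = _ := by group
      refine ⟨⟨⟨u, hu⟩, ⟨⟨u, h.le hu⟩⁻¹ * p, ?_⟩⟩, ?_⟩
      · change w⁻¹ * (u⁻¹ * (p : G)) * w ∈ P
        rw [e1]
        have : w⁻¹ * (w * (p' : G) * w⁻¹) * w = p' := by group
        rw [this]
        exact p'.2
      · apply Subtype.ext
        change u * (u⁻¹ * (p : G)) = p
        group
  rw [h1, ← h3, ← (Equiv.ofBijective φ hφ).sum_comp, Fintype.sum_prod_type]
  have h4 : ∀ u : U, ∑ t : {t : P // w⁻¹ * (t : G) * w ∈ P}, ρ.character (Equiv.ofBijective φ hφ (u, t)) *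
      conj (ρ.character (Equiv.ofBijective φ hφ (u, t))) =
      ∑ t : {t : P // w⁻¹ * (t : G) * w ∈ P}, ρ.character t * conj (ρ.character t) := by
    intro u
    refine Finset.sum_congr rfl fun t _ => ?_
    have : ρ.character (Equiv.ofBijective φ hφ (u, t)) = ρ.character t :=
      character_mul_of_one (h.triv ⟨u, h.le u.2⟩ u.2) _
    rw [this]
  rw [Finset.sum_congr rfl fun u _ => h4 u, Finset.sum_const, Finset.card_univ, ← Nat.card_eq_fintype_card,
    nsmul_eq_mul]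

theorem HN.norm_two (h : HN P U w ρ) [Fintype U] [FiniteDimensional ℂ M] (hirr : IsIrrCharacter P ρ.character) :
    classInner (indFun P ρ.character) (indFun P ρ.character) = 2 := by
  classical
  rw [classInner_indFun_indFun]
  let φ : U × P → G := fun x => x.1 * w * x.2
  have hφ : Function.Injective φ := by
    rintro ⟨u, p⟩ ⟨u', p'⟩ e
    obtain ⟨e1, e2⟩ := h.inj u.2 u'.2 p.2 p'.2 e
    rw [Subtype.ext e1, Subtype.ext e2]
  have hφP : ∀ x, φ x ∉ P := by
    rintro ⟨u, p⟩ hP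
    apply h.wP
    have : w = (u : G)⁻¹ * (u * w * p) * (p : G)⁻¹ := by group
    rw [this]
    exact P.mul_mem (P.mul_mem (P.inv_mem (h.le u.2)) hP) (P.inv_mem p.2)
  have h0 : (Nat.card P : ℂ) ≠ 0 := card_ne_zero'
  have h1 : ∑ x : G, twist P ρ.character ρ.character x =
      ∑ x : G, (if x ∈ P then twist P ρ.character ρ.character x else 0) +
        ∑ x : G, (if x ∈ Set.range φ then twist P ρ.character ρ.character x else 0) := by
    rw [← Finset.sum_add_distrib]
    refine Finset.sum_congr rfl fun x _ => ?_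
    by_cases hx : x ∈ P
    · rw [if_pos hx, if_neg, add_zero]
      rintro ⟨y, rfl⟩
      exact hφP y hx
    · rw [if_neg hx, zero_add]
      split_ifs with hx'
      · rfl
      · refine h.tw x hx ?_
        rintro ⟨u, hu, p, hp, rfl⟩
        exact hx' ⟨(⟨u, hu⟩, ⟨p, hp⟩), rfl⟩
  have h2 : ∑ x : G, (if x ∈ P then twist P ρ.character ρ.character x else 0) = (Nat.card P : ℂ) * Nat.card P := by
    rw [sum_eq_sum_subgroup P _ (fun g hg => if_neg hg)]
    have : ∀ x : P, (if (x : G) ∈ P then twist P ρ.character ρ.character x else 0) = (Nat.card P : ℂ) := by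
      intro x
      rw [if_pos x.2, twist_of_mem P _ _ (Core.isIrr_isClassFunction hirr) _ x.2, Core.classInner_irr_self hirr,
        mul_one]
    rw [Finset.sum_congr rfl fun x _ => this x, Finset.sum_const, Finset.card_univ, ← Nat.card_eq_fintype_card,
      nsmul_eq_mul]
  have h3 : ∑ x : G, (if x ∈ Set.range φ then twist P ρ.character ρ.character x else 0) =
      (Nat.card P : ℂ) * Nat.card P := by
    rw [← Fintype.sum_of_injective φ hφ (fun _ => twist P ρ.character ρ.character w)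
      (fun x => if x ∈ Set.range φ then twist P ρ.character ρ.character x else 0) (fun x hx => if_neg hx)
      (fun x => by
        rw [if_pos ⟨x, rfl⟩]
        exact (h.twist_big x.1.2 x.2.2).symm)]
    rw [Finset.sum_const, Finset.card_univ, Fintype.card_prod, ← Nat.card_eq_fintype_card,
      ← Nat.card_eq_fintype_card, nsmul_eq_mul, Nat.cast_mul]
    rw [← h.card_twist hirr]
    ring
  rw [h1, h2, h3]
  field_simp
  ring

/-! ### the quadratic relation -/

/-- the function supported on `P` -/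
noncomputable def fm (P : Subgroup G) (ρ : Representation ℂ P M) (m : M) : G → M := fun g => by
  classical
  exact if hg : g ∈ P then ρ (⟨g, hg⟩ : P)⁻¹ m else 0

theorem fm_of (m : M) {g : G} (hg : g ∈ P) : fm P ρ m g = ρ (⟨g, hg⟩ : P)⁻¹ m := dif_pos hg

theorem fm_not (m : M) {g : G} (hg : g ∉ P) : fm P ρ m g = 0 := dif_neg hg

theorem inV_fm (m : M) : InV P ρ (fm P ρ m) := by
  intro g p
  by_cases hg : g ∈ P
  · have hgp : g * p ∈ P := P.mul_mem hg p.2
    rw [fm_of m hg, fm_of m hgp, ← Module.End.mul_apply, ← map_mul]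
    congr 2
    apply Subtype.ext
    change (p : G) * (g * p)⁻¹ = g⁻¹
    group
  · have hgp : g * p ∉ P := fun h' => hg (by
      have := P.mul_mem h' (P.inv_mem p.2)
      rwa [mul_inv_cancel_right] at this)
    rw [fm_not m hg, fm_not m hgp, map_zero]

theorem HN.Top_fm (h : HN P U w ρ) [Fintype U] (m : M) : Top U w (fm P ρ m) 1 = 0 := by
  rw [Top_apply]
  refine Finset.sum_eq_zero fun u _ => fm_not m fun h' => h.wP ?_
  have : w = (u : G)⁻¹ * (1 * u * w) := by group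
  rw [this]
  exact P.mul_mem (P.inv_mem (h.le u.2)) h'

theorem HN.TT_fm (h : HN P U w ρ) [Fintype U] (m : M) :
    Top U w (Top U w (fm P ρ m)) 1 = (Nat.card U : ℂ) • m := by
  classical
  obtain ⟨q, hq, hq1⟩ := h.ww
  have h0 : Top U w (Top U w (fm P ρ m)) 1 = ∑ u' : U, ∑ u : U, fm P ρ m (1 * u * w * u' * w) := by
    rw [Top_apply, Finset.sum_comm]
    refine Finset.sum_congr rfl fun u _ => ?_
    rw [Top_apply]
  rw [h0, Finset.sum_eq_single (1 : U)]
  · have h1 : ∀ u : U, fm P ρ m (1 * u * w * (1 : U) * w) = m := by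
      intro u
      have e1 : (1 : G) * u * w * (1 : U) * w = u * q := by
        rw [hq, OneMemClass.coe_one]
        group
      have hmem : (u : G) * q ∈ P := P.mul_mem (h.le u.2) q.2
      rw [e1, fm_of m hmem]
      have e2 : (⟨(u : G) * q, hmem⟩ : P)⁻¹ = q⁻¹ * (⟨u, h.le u.2⟩ : P)⁻¹ := by
        apply Subtype.ext
        change ((u : G) * q)⁻¹ = (q : G)⁻¹ * (u : G)⁻¹
        group
      rw [e2, map_mul, map_inv_of_one hq1, map_inv_of_one (h.triv ⟨u, h.le u.2⟩ u.2), one_mul]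
      rfl
    rw [Finset.sum_congr rfl fun u _ => h1 u, Finset.sum_const, Finset.card_univ, ← Nat.card_eq_fintype_card,
      Nat.cast_smul_eq_nsmul]
  · intro u' _ hu'
    refine Finset.sum_eq_zero fun u _ => fm_not m fun h' => hu' (Subtype.ext (h.opp u' u'.2 ?_))
    have : w * u' * w = (u : G)⁻¹ * (1 * u * w * u' * w) := by group
    rw [this]
    exact P.mul_mem (P.inv_mem (h.le u.2)) h'
  · intro h'
    exact absurd (Finset.mem_univ _) h'

/-- a commutant of dimension `2` -/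
theorem quad_of_norm_two {V : Type v} [AddCommGroup V] [Module ℂ V] [FiniteDimensional ℂ V]
    (τ : Representation ℂ G V) (E T : V →ₗ[ℂ] V) (hEE : E * E = E) (hET : E * T = T)
    (cE : ∀ g, τ g * E = E * τ g) (cT : ∀ g, τ g * T = T * τ g)
    (h2 : classInner (fun g => LinearMap.trace ℂ V (τ g * E)) (fun g => LinearMap.trace ℂ V (τ g * E)) = 2) :
    ∃ a b c : ℂ, (a ≠ 0 ∨ b ≠ 0 ∨ c ≠ 0) ∧ ∀ v, a • E v + b • T (E v) + c • T (T (E v)) = 0 := by
  classical
  let W : Subrepresentation τ :=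
    { toSubmodule := LinearMap.range E
      apply_mem_toSubmodule := by
        rintro g _ ⟨v, rfl⟩
        exact ⟨τ g v, (LinearMap.congr_fun (cE g) v).symm⟩ }
  have hch : (fun g => LinearMap.trace ℂ V (τ g * E)) = W.toRepresentation.character := by
    ext g
    have h4 : ∀ v, (τ g * E) v ∈ LinearMap.range E := fun v => ⟨τ g v, (LinearMap.congr_fun (cE g) v).symm⟩
    rw [← LinearMap.trace_restrict_eq_of_forall_mem (LinearMap.range E) (τ g * E) h4]
    change _ = LinearMap.trace ℂ _ (W.toRepresentation g)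
    congr 1
    refine LinearMap.ext fun v => ?_
    apply Subtype.ext
    obtain ⟨v, v', rfl⟩ := v
    exact congrArg (τ g) (LinearMap.congr_fun hEE v')
  rw [hch, Core.classInner_character] at h2
  have hfr : finrank ℂ (Representation.IntertwiningMap W.toRepresentation W.toRepresentation) = 2 := by exact_mod_cast h2
  have hT : ∀ v, T v ∈ LinearMap.range E := fun v => ⟨T v, LinearMap.congr_fun hET v⟩
  let T₁ : LinearMap.range E →ₗ[ℂ] LinearMap.range E := (T.comp (LinearMap.range E).subtype).codRestrict _ fun v => hT v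
  let t : Representation.IntertwiningMap W.toRepresentation W.toRepresentation :=
    { toLinearMap := T₁
      isIntertwining' := fun g => by
        refine LinearMap.ext fun v => ?_
        apply Subtype.ext
        exact (LinearMap.congr_fun (cT g) (v : V)).symm }
  let s : Fin 3 → Representation.IntertwiningMap W.toRepresentation W.toRepresentation :=
    ![Representation.IntertwiningMap.id _, t, t.comp t]
  have hli : ¬ LinearIndependent ℂ s := by
    intro hli
    have : FiniteDimensional ℂ (Representation.IntertwiningMap W.toRepresentation W.toRepresentation) :=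
      Module.finite_of_finrank_pos (by rw [hfr]; norm_num)
    have := hli.fintype_card_le_finrank
    rw [hfr, Fintype.card_fin] at this
    omega
  obtain ⟨g, hg, i, hi⟩ := Fintype.not_linearIndependent_iff.1 hli
  refine ⟨g 0, g 1, g 2, ?_, fun v => ?_⟩
  · fin_cases i
    · exact Or.inl hi
    · exact Or.inr (Or.inl hi)
    · exact Or.inr (Or.inr hi)
  · have h1 := congrArg (fun f : Representation.IntertwiningMap W.toRepresentation W.toRepresentation =>
      ((f ⟨E v, ⟨v, rfl⟩⟩ : LinearMap.range E) : V)) hg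
    rw [Fin.sum_univ_three] at h1
    exact h1

theorem HN.quad (h : HN P U w ρ) [Fintype U] [FiniteDimensional ℂ M] (hirr : IsIrrCharacter P ρ.character) :
    ∃ A : ℂ, (Top U w * Ep P ρ) * (Top U w * Ep P ρ) = A • (Top U w * Ep P ρ) + (Nat.card U : ℂ) • Ep P ρ := by
  classical
  have hU : (Nat.card U : ℂ) ≠ 0 := card_ne_zero'
  obtain ⟨m, hm⟩ : ∃ m : M, m ≠ 0 := by
    by_contra h'
    push Not at h'
    apply Core.isIrr_apply_one_ne_zero hirr
    have : Subsingleton M := ⟨fun a b => by rw [h' a, h' b]⟩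
    rw [Representation.char_one, finrank_zero_of_subsingleton, Nat.cast_zero]
  set E := Ep P ρ with hE
  set T := Top U w * E with hT
  have hEE : E * E = E := Ep_Ep P ρ
  have hET : E * T = T := LinearMap.ext fun f => Ep_of_inV P ρ (h.inV_Top (inV_Ep P ρ f))
  have hTE : T * E = T := by rw [hT, mul_assoc, hEE]
  have hLE : ∀ g : G, Lt g * E = E * Lt g := Lt_Ep P ρ
  have hLT : ∀ g : G, Lt g * T = T * Lt g := by
    intro g
    rw [hT, ← mul_assoc, Lt_Top, mul_assoc, hLE, mul_assoc]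
  obtain ⟨a, b, c, habc, hrel⟩ := quad_of_norm_two (Lt : Representation ℂ G (G → M)) E T hEE hET hLE hLT (by
    have : (fun g => LinearMap.trace ℂ (G → M) (Lt g * E)) = indFun P ρ.character := by
      ext g
      exact trace_Lt_Ep P ρ g
    rw [this]
    exact h.norm_two hirr)
  -- at `fm`
  have hfE : E (fm P ρ m) = fm P ρ m := Ep_of_inV P ρ (inV_fm m)
  have hTf : T (fm P ρ m) = Top U w (fm P ρ m) := by
    change Top U w (E (fm P ρ m)) = _
    rw [hfE]
  have hTTf : T (T (fm P ρ m)) = Top U w (Top U w (fm P ρ m)) := by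
    rw [hTf]
    change Top U w (E (Top U w (fm P ρ m))) = _
    rw [hE, Ep_of_inV P ρ (h.inV_Top (inV_fm m))]
  have h1 := congrFun (hrel (fm P ρ m)) 1
  rw [hfE, hTTf, hTf] at h1
  have h2 : a • fm P ρ m 1 + b • Top U w (fm P ρ m) 1 + c • Top U w (Top U w (fm P ρ m)) 1 = 0 := h1
  have h3 : fm P ρ m 1 = m := by
    rw [fm_of m P.one_mem]
    have : (⟨1, P.one_mem⟩ : P)⁻¹ = 1 := inv_one
    rw [this, map_one]
    rfl
  rw [h3, h.Top_fm, h.TT_fm, smul_zero, add_zero, smul_smul, ← add_smul] at h2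
  have h4 : a = -(c * Nat.card U) := by
    rcases smul_eq_zero.1 h2 with h5 | h5
    · linear_combination h5
    · exact absurd h5 hm
  have hc : c ≠ 0 := by
    rintro rfl
    rw [zero_mul, neg_zero] at h4
    have hb : b ≠ 0 := by
      rcases habc with h5 | h5 | h5
      · exact absurd h4 h5
      · exact h5
      · exact absurd rfl h5
    have h5 : ∀ f, T (E f) = 0 := by
      intro f
      have := hrel f
      rw [h4, zero_smul, zero_smul, zero_add, add_zero] at this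
      exact (smul_eq_zero.1 this).resolve_left hb
    have h6 := h5 (T (fm P ρ m))
    have h7 : E (T (fm P ρ m)) = T (fm P ρ m) := LinearMap.congr_fun hET _
    rw [h7, hTTf] at h6
    have h8 := congrFun h6 1
    rw [h.TT_fm] at h8
    rcases smul_eq_zero.1 h8 with h9 | h9
    · exact hU h9
    · exact hm h9
  refine ⟨-(c⁻¹ * b), LinearMap.ext fun f => ?_⟩
  have h5 := hrel f
  have h6 : T (E f) = T f := LinearMap.congr_fun hTE f
  rw [h6, h4] at h5
  have h7 : T (T f) = c⁻¹ • (c • T (T f)) := by rw [smul_smul, inv_mul_cancel₀ hc, one_smul]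
  change T (T f) = (-(c⁻¹ * b)) • T f + (Nat.card U : ℂ) • E f
  rw [h7, show c • T (T f) = (c * Nat.card U) • E f - b • T f by
    rw [eq_sub_iff_add_eq, ← sub_eq_zero, ← h5]
    module]
  rw [smul_sub, smul_smul, smul_smul, ← mul_assoc, inv_mul_cancel₀ hc, one_mul]
  module

/-! ### integrality -/

/-- right translation -/
def Rt (M : Type v) [AddCommGroup M] [Module ℂ M] : G →* Module.End ℂ (G → M) where
  toFun x := { toFun := fun f g => f (g * x), map_add' := fun _ _ => rfl, map_smul' := fun _ _ => rfl }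
  map_one' := by
    refine LinearMap.ext fun f => ?_
    ext g
    change f (g * 1) = f g
    rw [mul_one]
  map_mul' x y := by
    refine LinearMap.ext fun f => ?_
    ext g
    change f (g * (x * y)) = f (g * x * y)
    rw [mul_assoc]

theorem Top_eq_sum (U : Subgroup G) [Fintype U] (w : G) :
    (Top U w : (G → M) →ₗ[ℂ] (G → M)) = ∑ u : U, Rt M ((u : G) * w) := by
  refine LinearMap.ext fun f => ?_
  rw [LinearMap.sum_apply]
  ext g
  rw [Top_apply, Finset.sum_apply]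
  refine Finset.sum_congr rfl fun u _ => ?_
  change f (g * u * w) = f (g * ((u : G) * w))
  rw [mul_assoc]

/-- the eigenvalues of `Top` are algebraic integers -/
theorem isIntegral_eig (U : Subgroup G) [Fintype U] (w : G) {lam : ℂ} {f : G → M} (hf : f ≠ 0)
    (h : Top U w f = lam • f) : IsIntegral ℤ lam := by
  classical
  let a : MonoidAlgebra ℤ G := ∑ u : U, MonoidAlgebra.of ℤ G ((u : G) * w)
  let L : MonoidAlgebra ℤ G →ₐ[ℤ] Module.End ℂ (G → M) := MonoidAlgebra.lift ℤ (Module.End ℂ (G → M)) G (Rt M)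
  have hL : L a = Top U w := by
    rw [Top_eq_sum, map_sum]
    refine Finset.sum_congr rfl fun u _ => ?_
    exact MonoidAlgebra.lift_of _ _
  have hfin : Module.Finite ℤ (MonoidAlgebra ℤ G) :=
    Module.Finite.equiv (MonoidAlgebra.coeffLinearEquiv (R := ℤ) (S := ℤ) (M := G)).symm
  have hint : IsIntegral ℤ a := Algebra.IsIntegral.isIntegral a
  obtain ⟨q, hq, hq0⟩ := hint
  refine ⟨q, hq, ?_⟩
  have h1 : Polynomial.aeval (Top U w : Module.End ℂ (G → M)) q = 0 := by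
    rw [← hL, Polynomial.aeval_algHom_apply]
    have : Polynomial.aeval a q = 0 := hq0
    rw [this, map_zero]
  have h2 : ∀ r : Polynomial ℤ, (Polynomial.aeval (Top U w : Module.End ℂ (G → M)) r) f = (Polynomial.aeval lam r) • f := by
    intro r
    induction r using Polynomial.induction_on' with
    | add r s hr hs => rw [map_add, map_add, LinearMap.add_apply, hr, hs, add_smul]
    | monomial n c =>
      have hpow : ∀ n : ℕ, ((Top U w : Module.End ℂ (G → M)) ^ n) f = lam ^ n • f := by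
        intro n
        induction n with
        | zero => simp only [_root_.pow_zero, _root_.Module.End.one_apply, _root_.one_smul]
        | succ n ih =>
          rw [pow_succ', Module.End.mul_apply, ih, map_smul, h, smul_smul, pow_succ]
      rw [Polynomial.aeval_monomial, Polynomial.aeval_monomial, Module.End.mul_apply, hpow]
      change (algebraMap ℤ (Module.End ℂ (G → M)) c) (lam ^ n • f) = (algebraMap ℤ ℂ c * lam ^ n) • f
      rw [mul_smul]
      have h3 : (algebraMap ℤ (Module.End ℂ (G → M)) c) = (c : Module.End ℂ (G → M)) := by simp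
      have h4 : (algebraMap ℤ ℂ c) = (c : ℂ) := by simp
      rw [h3, h4]
      have h5 : (c : Module.End ℂ (G → M)) = c • (1 : Module.End ℂ (G → M)) := by simp only [_root_.zsmul_eq_mul, _root_.mul_one]
      rw [h5, LinearMap.smul_apply, Module.End.one_apply, Int.cast_smul_eq_zsmul]
  have h3 := h2 q
  rw [h1, LinearMap.zero_apply] at h3
  exact (smul_eq_zero.1 h3.symm).resolve_right hf

/-- **The two constituents.** -/
theorem HN.two' (h : HN P U w ρ) [Fintype U] [FiniteDimensional ℂ M] (hirr : IsIrrCharacter P ρ.character)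
    {A : ℂ} (hTT : (Top U w * Ep P ρ) * (Top U w * Ep P ρ) = A • (Top U w * Ep P ρ) + (Nat.card U : ℂ) • Ep P ρ) :
    ∃ (lam mu : ℂ) (χ₁ χ₂ : G → ℂ), (IsIrrCharacter G χ₁ ∧ IsIrrCharacter G χ₂ ∧ lam + mu = A ∧
      lam * mu = -(Nat.card U : ℂ) ∧ IsIntegral ℤ lam ∧ IsIntegral ℤ mu ∧ χ₁ + χ₂ = indFun P ρ.character ∧
      lam * χ₁ 1 + mu * χ₂ 1 = 0 ∧
      ∀ z : P, (∀ g : G, g * z = z * g) → ρ z = 1 → χ₁ z = χ₁ 1 ∧ χ₂ z = χ₂ 1) ∧
      ∀ x : G, lam * χ₁ x + mu * χ₂ x = LinearMap.trace ℂ _ (Lt x * (Top U w * Ep P ρ)) := by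
  classical
  have hU : (Nat.card U : ℂ) ≠ 0 := card_ne_zero'
  -- the roots
  obtain ⟨lam, hl⟩ : ∃ lam : ℂ, lam ^ 2 - A * lam - Nat.card U = 0 := by
    obtain ⟨s, hs⟩ := IsAlgClosed.exists_pow_nat_eq (A ^ 2 + 4 * Nat.card U) (show 0 < 2 by norm_num)
    refine ⟨(A + s) / 2, ?_⟩
    linear_combination hs / 4
  obtain ⟨mu, hmu'⟩ : ∃ mu, mu = A - lam := ⟨_, rfl⟩
  have h1 : lam + mu = A := by rw [hmu']; ring
  have h2 : lam * mu = -(Nat.card U : ℂ) := by rw [hmu']; linear_combination -hl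
  have hlam : lam ≠ 0 := by
    rintro rfl
    rw [zero_mul] at h2
    exact hU (neg_eq_zero.1 h2.symm)
  have hmu : mu ≠ 0 := by
    rintro rfl
    rw [mul_zero] at h2
    exact hU (neg_eq_zero.1 h2.symm)
  let E := Ep P ρ
  let T := Top U w * Ep P ρ
  have hEE : E * E = E := Ep_Ep P ρ
  have hET : E * T = T := LinearMap.ext fun f => Ep_of_inV P ρ (h.inV_Top (inV_Ep P ρ f))
  have hTE : T * E = T := by
    change Top U w * Ep P ρ * Ep P ρ = Top U w * Ep P ρ
    rw [mul_assoc, Ep_Ep]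
  replace hTT : T * T = A • T + (Nat.card U : ℂ) • E := hTT
  have htE : LinearMap.trace ℂ _ E = (P.index : ℂ) * ρ.character 1 := by
    have h3 := trace_Lt_Ep P ρ 1
    have hL1 : (Lt (1 : G) : (G → M) →ₗ[ℂ] (G → M)) = 1 := map_one _
    rw [hL1, one_mul, Cfsg.Agent.H53.HC.indFun_one] at h3
    exact h3
  have htT : LinearMap.trace ℂ _ T = 0 := h.trace_Top
  have hD : (P.index : ℂ) * ρ.character 1 ≠ 0 :=
    mul_ne_zero (Nat.cast_ne_zero.2 P.index_ne_zero_of_finite) (Core.isIrr_apply_one_ne_zero hirr)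
  have hA' : A = lam + mu := h1.symm
  have hU' : (Nat.card U : ℂ) = -(lam * mu) := by rw [h2, neg_neg]
  have hne : lam ≠ mu := by
    intro he
    subst he
    have hn : (T - lam • E) * (T - lam • E) = 0 := by
      rw [sub_mul, mul_sub, mul_sub, hTT, smul_mul_assoc, smul_mul_assoc, mul_smul_comm, mul_smul_comm, hET, hTE, hEE,
        hA', hU']
      module
    have hnil : IsNilpotent (T - lam • E) := ⟨2, by rw [pow_two]; exact hn⟩
    have h3 := LinearMap.isNilpotent_trace_of_isNilpotent hnil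
    have h4 : LinearMap.trace ℂ _ (T - lam • E) = 0 := h3.eq_zero
    rw [map_sub, map_smul, htT, htE, zero_sub, neg_eq_zero, smul_eq_mul] at h4
    rcases mul_eq_zero.1 h4 with h5 | h5
    · exact hlam h5
    · exact hD h5
  have hd : lam - mu ≠ 0 := sub_ne_zero.2 hne
  have hLE : ∀ g : G, Lt g * E = E * Lt g := Lt_Ep P ρ
  have hLT : ∀ g : G, Lt g * T = T * Lt g := by
    intro g
    change Lt g * (Top U w * Ep P ρ) = Top U w * Ep P ρ * Lt g
    rw [← mul_assoc, Lt_Top, mul_assoc, Lt_Ep, mul_assoc]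
  let π₁ : (G → M) →ₗ[ℂ] (G → M) := (lam - mu)⁻¹ • (T - mu • E)
  let π₂ : (G → M) →ₗ[ℂ] (G → M) := (lam - mu)⁻¹ • (lam • E - T)
  have i1 : (T - mu • E) * (T - mu • E) = (lam - mu) • (T - mu • E) := by
    rw [sub_mul, mul_sub, mul_sub, hTT, smul_mul_assoc, smul_mul_assoc, mul_smul_comm, mul_smul_comm, hET, hTE, hEE,
      hA', hU']
    module
  have i2 : (lam • E - T) * (lam • E - T) = (lam - mu) • (lam • E - T) := by
    rw [sub_mul, mul_sub, mul_sub, hTT, smul_mul_assoc, smul_mul_assoc, mul_smul_comm, mul_smul_comm, hET, hTE, hEE,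
      hA', hU']
    module
  have p1 : π₁ * π₁ = π₁ := by
    change ((lam - mu)⁻¹ • (T - mu • E)) * ((lam - mu)⁻¹ • (T - mu • E)) = (lam - mu)⁻¹ • (T - mu • E)
    rw [smul_mul_smul_comm, i1, smul_smul]
    congr 1
    field_simp
  have p2 : π₂ * π₂ = π₂ := by
    change ((lam - mu)⁻¹ • (lam • E - T)) * ((lam - mu)⁻¹ • (lam • E - T)) = (lam - mu)⁻¹ • (lam • E - T)
    rw [smul_mul_smul_comm, i2, smul_smul]
    congr 1
    field_simp
  have c1 : ∀ g : G, Lt g * π₁ = π₁ * Lt g := by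
    intro g
    change Lt g * ((lam - mu)⁻¹ • (T - mu • E)) = ((lam - mu)⁻¹ • (T - mu • E)) * Lt g
    rw [mul_smul_comm, smul_mul_assoc, mul_sub, sub_mul, mul_smul_comm, smul_mul_assoc, hLE, hLT]
  have c2 : ∀ g : G, Lt g * π₂ = π₂ * Lt g := by
    intro g
    change Lt g * ((lam - mu)⁻¹ • (lam • E - T)) = ((lam - mu)⁻¹ • (lam • E - T)) * Lt g
    rw [mul_smul_comm, smul_mul_assoc, mul_sub, sub_mul, mul_smul_comm, smul_mul_assoc, hLE, hLT]
  have k1 := isCharacter_idem (Lt : Representation ℂ G (G → M)) π₁ p1 c1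
  have k2 := isCharacter_idem (Lt : Representation ℂ G (G → M)) π₂ p2 c2
  set χ₁ : G → ℂ := fun g => LinearMap.trace ℂ _ (Lt g * π₁) with hχ₁
  set χ₂ : G → ℂ := fun g => LinearMap.trace ℂ _ (Lt g * π₂) with hχ₂
  have hsum : π₁ + π₂ = E := by
    change (lam - mu)⁻¹ • (T - mu • E) + (lam - mu)⁻¹ • (lam • E - T) = E
    rw [← smul_add]
    have : T - mu • E + (lam • E - T) = (lam - mu) • E := by module
    rw [this, smul_smul, inv_mul_cancel₀ hd, one_smul]
  have hs : χ₁ + χ₂ = indFun P ρ.character := by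
    ext g
    rw [← trace_Lt_Ep]
    change LinearMap.trace ℂ _ (Lt g * π₁) + LinearMap.trace ℂ _ (Lt g * π₂) = LinearMap.trace ℂ _ (Lt g * E)
    rw [← map_add, ← mul_add, hsum]
  have hL1 : (Lt (1 : G) : (G → M) →ₗ[ℂ] (G → M)) = 1 := map_one _
  have d1 : (lam - mu) * χ₁ 1 = -mu * ((P.index : ℂ) * ρ.character 1) := by
    change (lam - mu) * LinearMap.trace ℂ _ (Lt (1 : G) * ((lam - mu)⁻¹ • (T - mu • E))) = _
    rw [hL1, one_mul, map_smul, map_sub, map_smul, htE, htT, smul_eq_mul, smul_eq_mul, ← mul_assoc,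
      mul_inv_cancel₀ hd, one_mul]
    ring
  have d2 : (lam - mu) * χ₂ 1 = lam * ((P.index : ℂ) * ρ.character 1) := by
    change (lam - mu) * LinearMap.trace ℂ _ (Lt (1 : G) * ((lam - mu)⁻¹ • (lam • E - T))) = _
    rw [hL1, one_mul, map_smul, map_sub, map_smul, htE, htT, smul_eq_mul, smul_eq_mul, ← mul_assoc,
      mul_inv_cancel₀ hd, one_mul]
    ring
  have m1 : χ₁ 1 ≠ 0 := by
    intro h0
    rw [h0, mul_zero] at d1
    exact mul_ne_zero (neg_ne_zero.2 hmu) hD d1.symm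
  have m2 : χ₂ 1 ≠ 0 := by
    intro h0
    rw [h0, mul_zero] at d2
    exact mul_ne_zero hlam hD d2.symm
  have n1 : χ₁ ≠ 0 := fun h0 => m1 (by rw [h0, Pi.zero_apply])
  have n2 : χ₂ ≠ 0 := fun h0 => m2 (by rw [h0, Pi.zero_apply])
  obtain ⟨r1, r2⟩ := isIrr_of_norm_two k1 k2 n1 n2 (by rw [hs]; exact h.norm_two hirr)
  -- the eigenvalues
  have e1 : T * π₁ = lam • π₁ := by
    change T * ((lam - mu)⁻¹ • (T - mu • E)) = lam • ((lam - mu)⁻¹ • (T - mu • E))
    rw [mul_smul_comm, mul_sub, hTT, mul_smul_comm, hTE, hA', hU']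
    module
  have e2 : T * π₂ = mu • π₂ := by
    change T * ((lam - mu)⁻¹ • (lam • E - T)) = mu • ((lam - mu)⁻¹ • (lam • E - T))
    rw [mul_smul_comm, mul_sub, hTT, mul_smul_comm, hTE, hA', hU']
    module
  have key : ∀ (π : (G → M) →ₗ[ℂ] (G → M)) (c : ℂ), T * π = c • π → E * π = π →
      LinearMap.trace ℂ _ (Lt (1 : G) * π) ≠ 0 → IsIntegral ℤ c := by
    intro π c hc hE' ht
    obtain ⟨f, hf⟩ : ∃ f, π f ≠ 0 := by
      by_contra h'
      push Not at h'
      apply ht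
      have : π = 0 := LinearMap.ext h'
      rw [this, mul_zero, map_zero]
    refine isIntegral_eig U w hf ?_
    have h3 := LinearMap.congr_fun hc f
    have h4 := LinearMap.congr_fun hE' f
    have h5 : T (π f) = Top U w (π f) := by
      change Top U w (E (π f)) = _
      exact congrArg _ h4
    rw [← h5]
    exact h3
  have hEπ₁ : E * π₁ = π₁ := by
    change E * ((lam - mu)⁻¹ • (T - mu • E)) = (lam - mu)⁻¹ • (T - mu • E)
    rw [mul_smul_comm, mul_sub, hET, mul_smul_comm, hEE]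
  have hEπ₂ : E * π₂ = π₂ := by
    change E * ((lam - mu)⁻¹ • (lam • E - T)) = (lam - mu)⁻¹ • (lam • E - T)
    rw [mul_smul_comm, mul_sub, hET, mul_smul_comm, hEE]
  refine ⟨lam, mu, χ₁, χ₂, ⟨r1, r2, h1, h2, key π₁ lam e1 hEπ₁ m1, key π₂ mu e2 hEπ₂ m2, hs, ?_, fun z hz hz1 => ?_⟩,
    fun x => ?_⟩
  · apply mul_left_cancel₀ hd
    linear_combination lam * d1 + mu * d2
  rotate_left
  · change lam * LinearMap.trace ℂ _ (Lt x * ((lam - mu)⁻¹ • (T - mu • E))) +
      mu * LinearMap.trace ℂ _ (Lt x * ((lam - mu)⁻¹ • (lam • E - T))) = LinearMap.trace ℂ _ (Lt x * T)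
    rw [mul_smul_comm, mul_smul_comm, mul_sub, mul_sub, mul_smul_comm, mul_smul_comm, map_smul, map_smul, map_sub,
      map_sub, map_smul, map_smul]
    simp only [smul_eq_mul]
    field_simp
    ring
  have hLE1 : Lt (z : G) * E = E := by
    refine LinearMap.ext fun f => ?_
    have hf := inV_Ep P ρ f
    ext g
    change Ep P ρ f ((z : G)⁻¹ * g) = Ep P ρ f g
    have e1 : (z : G)⁻¹ * g = g * (z⁻¹ : P) := by
      have := hz g
      calc (z : G)⁻¹ * g = (z : G)⁻¹ * (g * z) * (z : G)⁻¹ := by group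
        _ = (z : G)⁻¹ * (z * g) * (z : G)⁻¹ := by rw [this]
        _ = g * (z⁻¹ : P) := by
          change _ = g * (z : G)⁻¹
          group
    rw [e1, hf.apply_mul P ρ, inv_inv, hz1]
    rfl
  have hLT1 : Lt (z : G) * T = T := by rw [← hET, ← mul_assoc, hLE1]
  have hP1 : Lt (z : G) * π₁ = π₁ := by
    change Lt (z : G) * ((lam - mu)⁻¹ • (T - mu • E)) = (lam - mu)⁻¹ • (T - mu • E)
    rw [mul_smul_comm, mul_sub, mul_smul_comm, hLE1, hLT1]
  have hP2 : Lt (z : G) * π₂ = π₂ := by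
    change Lt (z : G) * ((lam - mu)⁻¹ • (lam • E - T)) = (lam - mu)⁻¹ • (lam • E - T)
    rw [mul_smul_comm, mul_sub, mul_smul_comm, hLE1, hLT1]
  constructor
  · change LinearMap.trace ℂ _ (Lt (z : G) * π₁) = LinearMap.trace ℂ _ (Lt (1 : G) * π₁)
    rw [hP1, hL1, one_mul]
  · change LinearMap.trace ℂ _ (Lt (z : G) * π₂) = LinearMap.trace ℂ _ (Lt (1 : G) * π₂)
    rw [hP2, hL1, one_mul]

/-- **The two constituents.** -/
theorem HN.two (h : HN P U w ρ) [Fintype U] [FiniteDimensional ℂ M] (hirr : IsIrrCharacter P ρ.character)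
    {A : ℂ} (hTT : (Top U w * Ep P ρ) * (Top U w * Ep P ρ) = A • (Top U w * Ep P ρ) + (Nat.card U : ℂ) • Ep P ρ) :
    ∃ (lam mu : ℂ) (χ₁ χ₂ : G → ℂ), IsIrrCharacter G χ₁ ∧ IsIrrCharacter G χ₂ ∧ lam + mu = A ∧
      lam * mu = -(Nat.card U : ℂ) ∧ IsIntegral ℤ lam ∧ IsIntegral ℤ mu ∧ χ₁ + χ₂ = indFun P ρ.character ∧
      lam * χ₁ 1 + mu * χ₂ 1 = 0 ∧
      ∀ z : P, (∀ g : G, g * z = z * g) → ρ z = 1 → χ₁ z = χ₁ 1 ∧ χ₂ z = χ₂ 1 := by
  obtain ⟨lam, mu, χ₁, χ₂, h1, -⟩ := h.two' hirr hTT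
  exact ⟨lam, mu, χ₁, χ₂, h1⟩

/-- the trace of `T` at an element without conjugates in the big cell -/
theorem HN.trace_Lt_Top (_ : HN P U w ρ) [Fintype U] [FiniteDimensional ℂ M] {x : G}
    (hx : ∀ g : G, ∀ u ∈ U, ∀ p ∈ P, g⁻¹ * x * g ≠ u * w * p) :
    LinearMap.trace ℂ _ (Lt x * (Top U w * Ep P ρ)) = 0 := by
  classical
  rw [trace_fun]
  refine Finset.sum_eq_zero fun g _ => ?_
  have h0 : (LinearMap.proj g).comp ((Lt x * (Top U w * Ep P ρ)).comp (LinearMap.single ℂ (fun _ => M) g)) = 0 := by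
    refine LinearMap.ext fun m => ?_
    change ∑ u : U, ((Nat.card P : ℂ)⁻¹ • ∑ p : P, ρ p ((Pi.single g m : G → M) (x⁻¹ * g * u * w * p))) = 0
    refine Finset.sum_eq_zero fun u _ => ?_
    rw [Finset.sum_eq_zero, smul_zero]
    intro p _
    rw [Pi.single_eq_of_ne, map_zero]
    intro e
    refine hx g u u.2 p p.2 ?_
    have : g⁻¹ * x * (x⁻¹ * g * u * w * p) = u * w * p := by group
    rw [← this, e]
  rw [h0, map_zero]

end Machine

end Cfsg.Agent.H477.HC
end

-- part: H477/HC/N2b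
section
/-!
# Norm `2`: the degrees (hub H5, helper477)

`ratio_pow` : `lam ^ 2 = p ^ i`, `p ^ i * d₁ = p ^ N * d₂`; `parity`; `HN.A_rat`; `HN.A_zero`; `HN.two_pow`.
-/

set_option autoImplicit false
set_option linter.unusedSectionVars false

open scoped ComplexConjugate
open Cfsg

namespace Cfsg.Agent.H477.HC

open Cfsg.Agent.OddOrderCharacters.Clifford Cfsg.Agent.Characters Module

universe u v

/-- a rational algebraic integer -/
theorem int_of_rat {z : ℂ} (hz : IsIntegral ℤ z) {q : ℚ} (hq : z = (q : ℂ)) : ∃ n : ℤ, z = n := by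
  rw [hq] at hz
  have h1 : IsIntegral ℤ q := by
    have h2 : (q : ℂ) = algebraMap ℚ ℂ q := by simp
    rw [h2] at hz
    exact (isIntegral_algebraMap_iff (algebraMap ℚ ℂ).injective).1 hz
  obtain ⟨n, hn⟩ := IsIntegrallyClosed.isIntegral_iff.1 h1
  refine ⟨n, ?_⟩
  rw [hq, ← hn]
  simp

theorem ratio_pow {p N d₁ d₂ : ℕ} (hp : p.Prime) {lam mu : ℂ} (h1 : IsIntegral ℤ lam) (h2 : IsIntegral ℤ mu)
    (hm : lam * mu = -((p ^ N : ℕ) : ℂ)) (hd : lam * d₁ + mu * d₂ = 0) (hd₁ : 0 < d₁) (hd₂ : 0 < d₂) :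
    ∃ i, i ≤ 2 * N ∧ lam ^ 2 = ((p ^ i : ℕ) : ℂ) ∧ mu ^ 2 = ((p ^ (2 * N - i) : ℕ) : ℂ) ∧ p ^ i * d₁ = p ^ N * d₂ := by
  have c1 : (d₁ : ℂ) ≠ 0 := by exact_mod_cast hd₁.ne'
  have c2 : (d₂ : ℂ) ≠ 0 := by exact_mod_cast hd₂.ne'
  have e1 : lam ^ 2 * d₁ = (p ^ N : ℕ) * d₂ := by linear_combination lam * hd - d₂ * hm
  have e2 : mu ^ 2 * d₂ = (p ^ N : ℕ) * d₁ := by linear_combination mu * hd - d₁ * hm
  have key : ∀ {z : ℂ} {a b : ℕ}, IsIntegral ℤ z → (a : ℂ) ≠ 0 → z ^ 2 * a = (p ^ N : ℕ) * b → ∃ n : ℕ, z ^ 2 = n := by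
    intro z a b hz ha he
    have h3 : z ^ 2 = (((p ^ N : ℕ) * b / a : ℚ) : ℂ) := by
      push_cast at he ⊢
      field_simp
      exact he
    obtain ⟨n, hn⟩ := int_of_rat (hz.pow 2) h3
    rw [hn] at he
    have h4 : n * a = (p ^ N : ℕ) * b := by exact_mod_cast he
    have h5 : 0 ≤ n := by
      have ha' : (0 : ℤ) < a := by
        have : a ≠ 0 := by
          rintro rfl
          exact ha (by simp)
        positivity
      by_contra h'
      push Not at h'
      have : n * a < 0 := mul_neg_of_neg_of_pos h' ha'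
      rw [h4] at this
      have h6 : (0 : ℤ) ≤ ((p ^ N : ℕ) : ℤ) * b := by (clear * -; positivity)
      omega
    obtain ⟨m, rfl⟩ := Int.eq_ofNat_of_zero_le h5
    exact ⟨m, by rw [hn]; simp⟩
  obtain ⟨n₁, hn₁⟩ := key h1 c1 e1
  obtain ⟨n₂, hn₂⟩ := key h2 c2 e2
  have h3 : n₁ * n₂ = p ^ (2 * N) := by
    have h4 : lam ^ 2 * mu ^ 2 = ((p ^ (2 * N) : ℕ) : ℂ) := by
      rw [← mul_pow, hm, neg_sq, mul_comm 2 N, pow_mul]
      push_cast
      ring
    rw [hn₁, hn₂] at h4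
    exact_mod_cast h4
  obtain ⟨i, hi, rfl⟩ := (Nat.dvd_prime_pow hp).1 (Dvd.intro _ h3)
  refine ⟨i, hi, hn₁, ?_, ?_⟩
  · have h5 : n₂ = p ^ (2 * N - i) := by
      have h6 : p ^ i * n₂ = p ^ i * p ^ (2 * N - i) := by rw [h3, ← pow_add]; congr 1; omega
      exact Nat.eq_of_mul_eq_mul_left (Nat.pos_of_ne_zero (pow_ne_zero _ hp.ne_zero)) h6
    rw [hn₂, h5]
  · rw [hn₁] at e1
    exact_mod_cast e1

theorem even_of_sq {p i : ℕ} (hp : p.Prime) {q : ℚ} (h : q ^ 2 = (p : ℚ) ^ i) : Even i := by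
  have h1 : IsSquare ((p ^ i : ℕ) : ℚ) := ⟨q, by push_cast; rw [← h]; ring⟩
  rw [Rat.isSquare_natCast_iff] at h1
  obtain ⟨m, hm⟩ := h1
  have h2 : m ∣ p ^ i := ⟨m, hm⟩
  obtain ⟨k, -, rfl⟩ := (Nat.dvd_prime_pow hp).1 h2
  rw [← pow_add] at hm
  exact ⟨k, Nat.pow_right_injective hp.two_le hm⟩

/-- parity of the exponent -/
theorem parity {p N i : ℕ} (hp : p.Prime) {lam mu : ℂ} (h1 : lam ^ 2 = ((p ^ i : ℕ) : ℂ))
    (h2 : mu ^ 2 = ((p ^ (2 * N - i) : ℕ) : ℂ)) (hi : i ≤ 2 * N) (hne : i ≠ N) {q : ℚ} (hA : lam + mu = (q : ℂ)) : Even i := by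
  have hq : (q : ℂ) ≠ 0 := by
    intro h0
    rw [h0] at hA
    have h3 : mu = -lam := by linear_combination hA
    rw [h3, neg_sq, h1] at h2
    have h4 : p ^ i = p ^ (2 * N - i) := by exact_mod_cast h2
    have h5 := Nat.pow_right_injective hp.two_le h4
    omega
  have h3 : lam = (((q ^ 2 + (p : ℚ) ^ i - (p : ℚ) ^ (2 * N - i)) / (2 * q) : ℚ) : ℂ) := by
    push_cast
    rw [eq_div_iff (mul_ne_zero two_ne_zero hq)]
    push_cast at h1 h2
    have h4 : mu = q - lam := by linear_combination hA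
    rw [h4] at h2
    linear_combination h1 - h2
  have h4 : ((q ^ 2 + (p : ℚ) ^ i - (p : ℚ) ^ (2 * N - i)) / (2 * q)) ^ 2 = (p : ℚ) ^ i := by
    apply Rat.cast_injective (α := ℂ)
    rw [Rat.cast_pow, ← h3, h1]
    push_cast
    rfl
  exact even_of_sq hp h4

section Machine

variable {G : Type u} [Group G] [Fintype G] {P : Subgroup G} [Fintype P] {M : Type v} [AddCommGroup M] [Module ℂ M]
  {ρ : Representation ℂ P M} {U : Subgroup G} {w : G}

/-- traces are rational -/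
theorem trace_Rt_rat [FiniteDimensional ℂ M] (hρ : ∀ p, ∃ q : ℚ, ρ.character p = q) (x : G) :
    ∃ q : ℚ, LinearMap.trace ℂ _ (Rt M x * Ep P ρ) = q := by
  classical
  rw [trace_fun]
  have key : ∀ g : G, ∃ q : ℚ, LinearMap.trace ℂ M ((LinearMap.proj g).comp
      ((Rt M x * Ep P ρ).comp (LinearMap.single ℂ (fun _ => M) g))) = q := by
    intro g
    have h : (LinearMap.proj g).comp ((Rt M x * Ep P ρ).comp (LinearMap.single ℂ (fun _ => M) g)) =
        (Nat.card P : ℂ)⁻¹ • ∑ p : P, if g * x * (p : G) = g then ρ p else 0 := by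
      refine LinearMap.ext fun m => ?_
      change (Nat.card P : ℂ)⁻¹ • ∑ p : P, ρ p ((Pi.single g m : G → M) (g * x * p)) = _
      rw [LinearMap.smul_apply, LinearMap.sum_apply]
      congr 1
      refine Finset.sum_congr rfl fun p _ => ?_
      by_cases h2 : g * x * (p : G) = g
      · rw [if_pos h2, h2, Pi.single_eq_same]
      · rw [if_neg h2, Pi.single_eq_of_ne h2, map_zero]
        rfl
    choose r hr using hρ
    refine ⟨(Nat.card P : ℚ)⁻¹ * ∑ p : P, if g * x * (p : G) = g then r p else 0, ?_⟩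
    rw [h, map_smul, map_sum, smul_eq_mul]
    push_cast
    congr 1
    refine Finset.sum_congr rfl fun p _ => ?_
    by_cases h2 : g * x * (p : G) = g
    · rw [if_pos h2, if_pos h2]
      exact hr p
    · rw [if_neg h2, if_neg h2]
      exact (map_zero (LinearMap.trace ℂ M)).trans Rat.cast_zero.symm
  choose q hq using key
  exact ⟨∑ g, q g, by push_cast; exact Finset.sum_congr rfl fun g _ => hq g⟩

theorem HN.A_rat (h : HN P U w ρ) [Fintype U] [FiniteDimensional ℂ M] (hirr : IsIrrCharacter P ρ.character)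
    (hρ : ∀ p, ∃ q : ℚ, ρ.character p = q)
    {A : ℂ} (hTT : (Top U w * Ep P ρ) * (Top U w * Ep P ρ) = A • (Top U w * Ep P ρ) + (Nat.card U : ℂ) • Ep P ρ) :
    ∃ q : ℚ, A = q := by
  classical
  let E := Ep P ρ
  let T := Top U w * Ep P ρ
  have hEE : E * E = E := Ep_Ep P ρ
  have hET : E * T = T := LinearMap.ext fun f => Ep_of_inV P ρ (h.inV_Top (inV_Ep P ρ f))
  have hTE : T * E = T := by
    change Top U w * Ep P ρ * Ep P ρ = Top U w * Ep P ρ
    rw [mul_assoc, Ep_Ep]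
  replace hTT : T * T = A • T + (Nat.card U : ℂ) • E := hTT
  have hU : (Nat.card U : ℂ) ≠ 0 := card_ne_zero'
  have htE : LinearMap.trace ℂ _ E = (P.index : ℂ) * ρ.character 1 := by
    have h3 := trace_Lt_Ep P ρ 1
    have hL1 : (Lt (1 : G) : (G → M) →ₗ[ℂ] (G → M)) = 1 := map_one _
    rw [hL1, one_mul, Cfsg.Agent.H53.HC.indFun_one] at h3
    exact h3
  have htT : LinearMap.trace ℂ _ T = 0 := h.trace_Top
  have hD : (P.index : ℂ) * ρ.character 1 ≠ 0 :=
    mul_ne_zero (Nat.cast_ne_zero.2 P.index_ne_zero_of_finite) (Core.isIrr_apply_one_ne_zero hirr)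
  have h3 : T * T * T = (A * A + Nat.card U) • T + (A * Nat.card U) • E := by
    rw [hTT, add_mul, smul_mul_assoc, smul_mul_assoc, hTT, hET]
    module
  have h4 : LinearMap.trace ℂ _ (T * T * T) = A * Nat.card U * ((P.index : ℂ) * ρ.character 1) := by
    rw [h3, map_add, map_smul, map_smul, htT, htE, smul_eq_mul, smul_eq_mul]
    ring
  have h5 : T * T * T = ∑ a : U, ∑ b : U, ∑ c : U, Rt M ((a : G) * w * (b * w) * (c * w)) * E := by
    have e1 : T * T * T = Top U w * (Top U w * (Top U w * E)) := by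
      have e2 : T * T = Top U w * T := by
        change Top U w * E * T = _
        rw [mul_assoc, hET]
      rw [mul_assoc, e2]
      change Top U w * E * (Top U w * T) = _
      rw [mul_assoc]
      have e3 : E * (Top U w * T) = Top U w * T := by rw [← e2, ← mul_assoc, hET]
      rw [e3]
    rw [e1, Top_eq_sum, Finset.sum_mul]
    refine Finset.sum_congr rfl fun a _ => ?_
    rw [Finset.sum_mul, Finset.mul_sum]
    refine Finset.sum_congr rfl fun b _ => ?_
    rw [Finset.sum_mul, Finset.mul_sum, Finset.mul_sum]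
    refine Finset.sum_congr rfl fun c _ => ?_
    rw [← mul_assoc, ← mul_assoc, ← map_mul, ← map_mul]
  have h6 : ∃ q : ℚ, LinearMap.trace ℂ _ (T * T * T) = q := by
    rw [h5, map_sum]
    have key : ∀ a b c : U, ∃ q : ℚ, LinearMap.trace ℂ _ (Rt M ((a : G) * w * (b * w) * (c * w)) * E) = q :=
      fun a b c => trace_Rt_rat hρ _
    choose q hq using key
    refine ⟨∑ a, ∑ b, ∑ c, q a b c, ?_⟩
    push_cast
    refine Finset.sum_congr rfl fun a _ => ?_
    rw [map_sum]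
    refine Finset.sum_congr rfl fun b _ => ?_
    rw [map_sum]
    exact Finset.sum_congr rfl fun c _ => hq a b c
  obtain ⟨q, hq⟩ := h6
  obtain ⟨d, hd⟩ := hρ 1
  rw [h4, hd] at hq
  rw [hd] at hD
  refine ⟨q / (Nat.card U * (P.index * d)), ?_⟩
  push_cast
  rw [eq_div_iff (mul_ne_zero hU hD), ← hq]
  ring

/-- **the degrees** -/
theorem HN.two_pow (h : HN P U w ρ) [Fintype U] [FiniteDimensional ℂ M] (hirr : IsIrrCharacter P ρ.character)
    {p N : ℕ} (hp : p.Prime) (hN : Nat.card U = p ^ N) (hρ : ∀ x, ∃ q : ℚ, ρ.character x = q) {D : ℕ}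
    (hD : (P.index : ℂ) * ρ.character 1 = D) :
    ∃ (b d : ℕ) (χ₁ χ₂ : G → ℂ), IsIrrCharacter G χ₁ ∧ IsIrrCharacter G χ₂ ∧ χ₁ + χ₂ = indFun P ρ.character ∧
      χ₁ 1 = ((p ^ b * d : ℕ) : ℂ) ∧ χ₂ 1 = (d : ℂ) ∧ (p ^ b + 1) * d = D ∧ b ≤ N ∧ (b ≠ 0 → Even (b + N)) ∧
      ∀ z : P, (∀ g : G, g * z = z * g) → ρ z = 1 → χ₁ z = χ₁ 1 ∧ χ₂ z = χ₂ 1 := by
  classical
  obtain ⟨A, hA⟩ := h.quad hirr
  obtain ⟨q, hq⟩ := h.A_rat hirr hρ hA
  obtain ⟨lam, mu, χ₁, χ₂, i1, i2, e1, e2, n1, n2, hs, hd, hz⟩ := h.two hirr hA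
  obtain ⟨d₁, hd₁, c1⟩ := Core.isIrr_apply_one i1
  obtain ⟨d₂, hd₂, c2⟩ := Core.isIrr_apply_one i2
  rw [hN] at e2
  rw [c1, c2] at hd
  have hsum : d₁ + d₂ = D := by
    have h1 := congrFun hs 1
    rw [Pi.add_apply, Cfsg.Agent.H53.HC.indFun_one, hD, c1, c2] at h1
    exact_mod_cast h1
  obtain ⟨i, hi, l1, l2, l3⟩ := ratio_pow hp n1 n2 e2 hd hd₁ hd₂
  rw [hq] at e1
  have hp0 : 0 < p := hp.pos
  rcases Nat.lt_or_ge N i with hi' | hi'
  · have h1 : p ^ (i - N) * d₁ = d₂ := by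
      have h2 : p ^ N * (p ^ (i - N) * d₁) = p ^ N * d₂ := by
        rw [← mul_assoc, ← pow_add, Nat.add_sub_cancel' hi'.le, l3]
      exact Nat.eq_of_mul_eq_mul_left (Nat.pos_of_ne_zero (pow_ne_zero _ hp.ne_zero)) h2
    refine ⟨i - N, d₁, χ₂, χ₁, i2, i1, by rw [add_comm]; exact hs, by rw [c2, h1], c1, ?_, by omega, fun _ => ?_,
      fun z hz' hz1 => (hz z hz' hz1).symm⟩
    · rw [add_mul, one_mul, h1, ← hsum]; ring
    · rw [Nat.sub_add_cancel hi'.le]
      exact parity hp l1 l2 hi hi'.ne' e1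
  · have h1 : d₁ = p ^ (N - i) * d₂ := by
      have h2 : p ^ i * d₁ = p ^ i * (p ^ (N - i) * d₂) := by
        rw [← mul_assoc, ← pow_add, Nat.add_sub_cancel' hi', l3]
      exact Nat.eq_of_mul_eq_mul_left (Nat.pos_of_ne_zero (pow_ne_zero _ hp.ne_zero)) h2
    refine ⟨N - i, d₂, χ₁, χ₂, i1, i2, hs, by rw [c1, h1], c2, ?_, by omega, fun h0 => ?_, hz⟩
    · rw [add_mul, one_mul, ← h1, hsum]
    · have h3 : Even i := parity hp l1 l2 hi (by omega) e1
      obtain ⟨k, hk⟩ := h3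
      exact ⟨N - k, by omega⟩

end Machine

end Cfsg.Agent.H477.HC
end

-- part: H477/HC/N3
section
/-!
# The norm-two datum of a frame (hub H5, helper477)

`crep b c pr ρ₀` : the representation `c ⊗ ρ₀` of the stabiliser of `W₀`, `c` linear.
`Frm.hn` : `HN` for a frame, from the vanishing at the orthogonal disjoint pairs.
-/

set_option autoImplicit false

open scoped ComplexConjugate
open Cfsg

namespace Cfsg.Agent.H477.HC

open Cfsg.Agent.OddOrderCharacters.Clifford Cfsg.Agent.Characters MulAction Module Cfsg.Agent.H53.HC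
open Cfsg.Agent.H749.Two

universe u v w x

namespace CForm

variable {K : Type u} [Field K] {V : Type v} [AddCommGroup V] [Module K V] {F : CForm K V}
  {X : Type w} [AddCommGroup X] [Module K X] {F' : CForm K X} {k : ℕ}

/-- `c ⊗ ρ₀` -/
noncomputable def crep {W₀ : Submodule K V} (b : Basis (Fin k) K W₀) (c : GL (Fin k) K →* ℂˣ)
    (pr : stabW F.iso.subtype W₀ →* F'.iso) {M : Type x} [AddCommGroup M] [Module ℂ M] (ρ₀ : Representation ℂ F'.iso M) :
    Representation ℂ (stabW F.iso.subtype W₀) M where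
  toFun p := ((c (glE b (resHom F.iso.subtype W₀ p)) : ℂˣ) : ℂ) • ρ₀ (pr p)
  map_one' := by rw [map_one, map_one, map_one, Units.val_one, one_smul, map_one, map_one]
  map_mul' p q := by
    rw [map_mul, map_mul, map_mul, Units.val_mul, map_mul, map_mul, smul_mul_smul_comm]

theorem crep_apply {W₀ : Submodule K V} (b : Basis (Fin k) K W₀) (c : GL (Fin k) K →* ℂˣ)
    (pr : stabW F.iso.subtype W₀ →* F'.iso) {M : Type x} [AddCommGroup M] [Module ℂ M] (ρ₀ : Representation ℂ F'.iso M)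
    (p : stabW F.iso.subtype W₀) :
    crep b c pr ρ₀ p = ((c (glE b (resHom F.iso.subtype W₀ p)) : ℂˣ) : ℂ) • ρ₀ (pr p) := rfl

/-- the class function of `c` -/
def cfun (c : GL (Fin k) K →* ℂˣ) : GL (Fin k) K → ℂ := fun A => ((c A : ℂˣ) : ℂ)

theorem cfun_cl (c : GL (Fin k) K →* ℂˣ) : IsClassFunction _ (cfun c) := fun g h => by
  unfold cfun
  rw [map_mul, map_mul, map_inv, mul_comm (c h), mul_assoc, mul_inv_cancel, mul_one]

theorem flagTerm_cfun [FiniteDimensional K V] {W₀ : Submodule K V} (b : Basis (Fin k) K W₀) (c : GL (Fin k) K →* ℂˣ)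
    (p : stabW F.iso.subtype W₀) :
    flagTerm F.iso.subtype (cfun c) p W₀ = ((c (glE b (resHom F.iso.subtype W₀ p)) : ℂˣ) : ℂ) := by
  rw [flagTerm_of F.iso.subtype _ p.2, cl_eq (cfun_cl c) b]
  rfl

theorem crep_char [FiniteDimensional K V] {W₀ : Submodule K V} (b : Basis (Fin k) K W₀) (c : GL (Fin k) K →* ℂˣ)
    (pr : stabW F.iso.subtype W₀ →* F'.iso) {M : Type x} [AddCommGroup M] [Module ℂ M] [FiniteDimensional ℂ M]
    (ρ₀ : Representation ℂ F'.iso M) (p : stabW F.iso.subtype W₀) :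
    (crep b c pr ρ₀).character p = flagTerm F.iso.subtype (cfun c) p W₀ * (ρ₀.character ∘ pr) p := by
  rw [flagTerm_cfun b]
  change LinearMap.trace ℂ M (((c (glE b (resHom F.iso.subtype W₀ p)) : ℂˣ) : ℂ) • ρ₀ (pr p)) = _
  rw [map_smul, smul_eq_mul]
  rfl

/-- the vanishing of the twist -/
theorem tw_of_van [FiniteDimensional K V] [Finite V] {W₀ : Submodule K V} [Fintype (stabW F.iso.subtype W₀)]
    {χ : stabW F.iso.subtype W₀ → ℂ} (hχ : IsCharacter _ χ)
    {c : GL (Fin k) K → ℂ} (hcf : IsClassFunction _ c) {ψ₁ : stabW F.iso.subtype W₀ → ℂ} (hcl : IsClassFunction _ ψ₁)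
    (hχe : ∀ p, χ p = flagTerm F.iso.subtype c p W₀ * ψ₁ p) {x : F.iso}
    (hv : F.Van c (psf F W₀ ψ₁) W₀ (W₀.map (F.iso.subtype x : V →ₗ[K] V))) :
    twist (stabW F.iso.subtype W₀) χ χ x = 0 := by
  classical
  have := finite_iso F
  obtain ⟨L, hL1, hL2, hL3⟩ := hv
  let _ : Fintype L := Fintype.ofFinite _
  have hL' : ∀ l ∈ L, x⁻¹ * l * x ∈ stabW F.iso.subtype W₀ := by
    intro l hl
    have h1 : (W₀.map (F.iso.subtype x : V →ₗ[K] V)).map (F.iso.subtype l : V →ₗ[K] V) =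
        W₀.map (F.iso.subtype x : V →ₗ[K] V) := hL2 hl
    change W₀.map (F.iso.subtype (x⁻¹ * l * x) : V →ₗ[K] V) = W₀
    rw [map_mul_apply, map_mul_apply, h1, ← map_mul_apply, inv_mul_cancel, map_one]
    exact Submodule.map_id _
  refine Cfsg.Agent.H53.HC.twist_eq_zero_of_sub _ hχ hχ x L hL1 hL' ?_
  rw [← hL3]
  refine Finset.sum_congr rfl fun l _ => ?_
  rw [hχe, hχe]
  have e1 : flagTerm F.iso.subtype c (l : F.iso) (W₀.map (F.iso.subtype x : V →ₗ[K] V)) =
      flagTerm F.iso.subtype c (x⁻¹ * l * x) W₀ := by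
    rw [← flagTerm_conj F.iso.subtype hcf x (x⁻¹ * l * x) W₀]
    congr 1
    group
  rw [e1, psf_eq hcl rfl (hL' l l.2), ← psf_self hcl ⟨l, hL1 l.2⟩]

section Frame

variable {e f : Fin k → V} {j : X →ₗ[K] V}

theorem Frm.cmp [FiniteDimensional K V] (h : Frm F F' e f j) (hσ : F.σ = F'.σ) :
    Cmp F F' j (Submodule.span K (Set.range e)) :=
  (cmp_of_frame hσ h.hee h.hff h.hef h.hQe h.hjB h.hjQ h.hje h.hjf h.hdim).2

theorem Frm.mem_Om (h : Frm F F' e f j) : Submodule.span K (Set.range e) ∈ F.Om k :=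
  F.frame_mem_Om h.hee h.hef h.hQe

theorem Frm.map_w (_ : Frm F F' e f j) {w : F.iso} (hw : ∀ i, (w : V ≃ₗ[K] V) (e i) = f i) :
    (Submodule.span K (Set.range e)).map (F.iso.subtype w : V →ₗ[K] V) = Submodule.span K (Set.range f) := by
  rw [Submodule.map_span, ← Set.range_comp]
  congr 2
  funext i
  exact hw i

theorem Frm.opp (h : Frm F F' e f j) :
    Submodule.span K (Set.range e) ⊓ F.perp (Submodule.span K (Set.range f)) = ⊥ := by
  rw [Submodule.eq_bot_iff]
  rintro v ⟨hv, hv'⟩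
  obtain ⟨c, rfl⟩ := (Submodule.mem_span_range_iff_exists_fun K).1 hv
  refine Finset.sum_eq_zero fun i _ => ?_
  have h1 := hv' (f i) (Submodule.subset_span ⟨i, rfl⟩)
  rw [B_sum_left] at h1
  simp only [h.hef] at h1
  rw [sum_delta] at h1
  rw [h1, zero_smul]

theorem Frm.Us_TT [FiniteDimensional K V] (h : Frm F F' e f j) {u : F.iso} (hu : u ∈ Us F e) :
    u ∈ F.TT (Submodule.span K (Set.range e)) :=
  F.mem_TT_of h.tse fun v hv => hu.2 v fun i => hv _ (Submodule.subset_span ⟨i, rfl⟩)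

/-- the elements stabilising the two subspaces -/
theorem Frm.pr_conj [FiniteDimensional K V] [FiniteDimensional K X] (h : Frm F F' e f j) (hσ : F.σ = F'.σ)
    {w : F.iso} (hw3 : ∀ v, (∀ i, F.B v (e i) = 0) → (∀ i, F.B v (f i) = 0) → (w : V ≃ₗ[K] V) v = v)
    {pr : stabW F.iso.subtype (Submodule.span K (Set.range e)) →* F'.iso}
    (hρ1 : ∀ (g : stabW F.iso.subtype (Submodule.span K (Set.range e))) y,
      ((g : F.iso) : V ≃ₗ[K] V) (j y) - j ((pr g : X ≃ₗ[K] X) y) ∈ Submodule.span K (Set.range e))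
    {g p' : stabW F.iso.subtype (Submodule.span K (Set.range e))}
    (hg : (g : F.iso) ∈ stabW F.iso.subtype (Submodule.span K (Set.range f)))
    (he : (g : F.iso) = w * p' * w⁻¹) : pr p' = pr g := by
  obtain ⟨r, hr, hrj, hrW⟩ := (h.cmp hσ).exists_proj
  have hrho : ∀ (q : stabW F.iso.subtype (Submodule.span K (Set.range e))) y,
      (pr q : X ≃ₗ[K] X) y = r (((q : F.iso) : V ≃ₗ[K] V) (j y)) := by
    intro q y
    have := hrW _ (hρ1 q y)
    rw [map_sub, hrj, sub_eq_zero] at this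
    exact this.symm
  apply Subtype.ext
  ext y
  rw [hrho, hrho]
  have h1 : ∀ i, F.B (((g : F.iso) : V ≃ₗ[K] V) (j y)) (e i) = 0 := h.perp_par g.2 (h.hje y)
  have h2 : ∀ i, F.B (((g : F.iso) : V ≃ₗ[K] V) (j y)) (f i) = 0 := by
    intro i
    have h3 : (((g : F.iso)⁻¹ : F.iso) : V ≃ₗ[K] V) (f i) ∈ Submodule.span K (Set.range f) :=
      par_mem (Subgroup.inv_mem _ hg) (Submodule.subset_span ⟨i, rfl⟩)
    rw [← B_inv_right]
    obtain ⟨c, hc⟩ := (Submodule.mem_span_range_iff_exists_fun K).1 h3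
    rw [← hc, B_sum_right]
    exact Finset.sum_eq_zero fun l _ => by rw [h.hjf, mul_zero]
  have e1 : (p' : F.iso) = w⁻¹ * g * w := by rw [he]; group
  have e2 : (w : V ≃ₗ[K] V) (j y) = j y := hw3 _ (h.hje y) (h.hjf y)
  have e3 : ((w⁻¹ : F.iso) : V ≃ₗ[K] V) (((g : F.iso) : V ≃ₗ[K] V) (j y)) = ((g : F.iso) : V ≃ₗ[K] V) (j y) := by
    have := inv_apply' w (((g : F.iso) : V ≃ₗ[K] V) (j y))
    rwa [hw3 _ h1 h2] at this
  rw [e1, mul_apply', mul_apply', e2, e3]

theorem res_Us [FiniteDimensional K V] {u : stabW F.iso.subtype (Submodule.span K (Set.range e))}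
    (hu : (u : F.iso) ∈ Us F e) : resHom F.iso.subtype (Submodule.span K (Set.range e)) u = 1 := by
  ext w
  exact Us_span hu w.2

/-- **the big cell** -/
theorem Frm.crep_big [FiniteDimensional K V] [FiniteDimensional K X] (h : Frm F F' e f j) (hσ : F.σ = F'.σ)
    {w : F.iso} (hw1 : ∀ i, (w : V ≃ₗ[K] V) (e i) = f i)
    (hw3 : ∀ v, (∀ i, F.B v (e i) = 0) → (∀ i, F.B v (f i) = 0) → (w : V ≃ₗ[K] V) v = v)
    (b : Basis (Fin k) K (Submodule.span K (Set.range e)))
    {c : GL (Fin k) K →* ℂˣ} (hc : ∀ A, c (F.iota k A) = c A)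
    {pr : stabW F.iso.subtype (Submodule.span K (Set.range e)) →* F'.iso}
    (hρ1 : ∀ (g : stabW F.iso.subtype (Submodule.span K (Set.range e))) y,
      ((g : F.iso) : V ≃ₗ[K] V) (j y) - j ((pr g : X ≃ₗ[K] X) y) ∈ Submodule.span K (Set.range e))
    (hρ2 : ∀ g : stabW F.iso.subtype (Submodule.span K (Set.range e)),
      (g : F.iso) ∈ F.TT (Submodule.span K (Set.range e)) → pr g = 1)
    {M : Type x} [AddCommGroup M] [Module ℂ M] (ρ₀ : Representation ℂ F'.iso M)
    (p : stabW F.iso.subtype (Submodule.span K (Set.range e))) :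
    ∃ u ∈ Us F e, ∃ p' : stabW F.iso.subtype (Submodule.span K (Set.range e)),
      (p : F.iso) * w = u * w * p' ∧ crep b c pr ρ₀ p' = crep b c pr ρ₀ p := by
  have hmap := h.map_w hw1
  have hx : Submodule.span K (Set.range e) ⊓
      F.perp ((Submodule.span K (Set.range e)).map (F.iso.subtype ((p : F.iso) * w) : V →ₗ[K] V)) = ⊥ := by
    rw [map_mul_apply, hmap, Submodule.eq_bot_iff]
    rintro v ⟨hv, hv'⟩
    have h1 : (((p : F.iso)⁻¹ : F.iso) : V ≃ₗ[K] V) v ∈ Submodule.span K (Set.range e) ⊓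
        F.perp (Submodule.span K (Set.range f)) := by
      refine ⟨par_mem (Subgroup.inv_mem _ p.2) hv, fun z hz => ?_⟩
      rw [B_inv]
      exact hv' _ ⟨z, hz, rfl⟩
    rw [h.opp, Submodule.mem_bot] at h1
    exact (LinearEquiv.map_eq_zero_iff _).1 h1
  obtain ⟨u, hu, p', hp', e3⟩ := h.mem_big hw1 hx
  refine ⟨u, hu, ⟨p', hp'⟩, e3, ?_⟩
  have huP : u ∈ stabW F.iso.subtype (Submodule.span K (Set.range e)) := Us_le hu
  let g : stabW F.iso.subtype (Submodule.span K (Set.range e)) := (⟨u, huP⟩ : stabW _ _)⁻¹ * p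
  have eg : (g : F.iso) = w * p' * w⁻¹ := by
    change u⁻¹ * (p : F.iso) = _
    have : (p : F.iso) = u * w * p' * w⁻¹ := by rw [← e3]; group
    rw [this]
    group
  have hgf : (g : F.iso) ∈ stabW F.iso.subtype (Submodule.span K (Set.range f)) := by
    change (Submodule.span K (Set.range f)).map (F.iso.subtype (g : F.iso) : V →ₗ[K] V) = _
    have h2 : (Submodule.span K (Set.range e)).map (F.iso.subtype p' : V →ₗ[K] V) = Submodule.span K (Set.range e) := hp'
    rw [eg, ← hmap, map_mul_apply, map_mul_apply, ← map_mul_apply F.iso.subtype w⁻¹ w, inv_mul_cancel, map_one]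
    have h3 : (Submodule.span K (Set.range e)).map ((1 : V ≃ₗ[K] V) : V →ₗ[K] V) = Submodule.span K (Set.range e) :=
      Submodule.map_id _
    rw [h3, h2]
  have k1 : pr ⟨p', hp'⟩ = pr p := by
    rw [h.pr_conj hσ hw3 hρ1 (g := g) hgf eg]
    change pr ((⟨u, huP⟩ : stabW _ _)⁻¹ * p) = _
    rw [map_mul, map_inv, hρ2 ⟨u, huP⟩ (h.Us_TT hu), inv_one, one_mul]
  have k2 : c (glE b (resHom F.iso.subtype _ ⟨p', hp'⟩)) = c (glE b (resHom F.iso.subtype _ p)) := by
    have h4 : flagTerm F.iso.subtype (cfun c) p' (Submodule.span K (Set.range e)) =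
        flagTerm F.iso.subtype (cfun c) (g : F.iso) (Submodule.span K (Set.range f)) := by
      rw [eg, ← hmap, flagTerm_conj F.iso.subtype (cfun_cl c)]
    have h5 : flagTerm F.iso.subtype (cfun c) (g : F.iso) (Submodule.span K (Set.range f)) =
        flagTerm F.iso.subtype (cfun c) (g : F.iso) (Submodule.span K (Set.range e)) := by
      have hWf : finrank K (Submodule.span K (Set.range f)) = k := by
        rw [← hmap]
        exact (LinearEquiv.finrank_map_eq (w : V ≃ₗ[K] V) _).trans h.mem_Om.2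
      obtain ⟨b₀, b₁, hb⟩ := exists_dual_basis h.mem_Om.2 hWf h.opp
      rw [flagTerm_of F.iso.subtype _ hgf, flagTerm_of F.iso.subtype _ g.2, cl_eq (cfun_cl c) b₀,
        cl_eq (cfun_cl c) b₁, glE_opp hb g.2 hgf]
      unfold cfun
      rw [hc]
    have h6 := flagTerm_cfun b c (⟨p', hp'⟩ : stabW F.iso.subtype (Submodule.span K (Set.range e)))
    have h7 := flagTerm_cfun b c g
    have h8 : c (glE b (resHom F.iso.subtype _ g)) = c (glE b (resHom F.iso.subtype _ p)) := by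
      change c (glE b (resHom F.iso.subtype _ ((⟨u, huP⟩ : stabW _ _)⁻¹ * p))) = _
      rw [map_mul, map_inv, res_Us (u := ⟨u, huP⟩) hu, inv_one, one_mul]
    rw [← h8]
    apply Units.ext
    rw [← h6, ← h7, ← h5]
    exact h4
  rw [crep_apply, crep_apply, k1, k2]

/-- **`HN` for a frame.** -/
theorem Frm.hn [FiniteDimensional K V] [FiniteDimensional K X] [Finite V] [Finite K] (h : Frm F F' e f j)
    (hσ : F.σ = F'.σ) (hk : 0 < k) (hε : F.ε = 1)
    [Fintype (stabW F.iso.subtype (Submodule.span K (Set.range e)))]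
    {w : F.iso} (hw1 : ∀ i, (w : V ≃ₗ[K] V) (e i) = f i) (hw2 : ∀ i, (w : V ≃ₗ[K] V) (f i) = F.ε • e i)
    (hw3 : ∀ v, (∀ i, F.B v (e i) = 0) → (∀ i, F.B v (f i) = 0) → (w : V ≃ₗ[K] V) v = v)
    (b : Basis (Fin k) K (Submodule.span K (Set.range e)))
    {c : GL (Fin k) K →* ℂˣ} (hc : ∀ A, c (F.iota k A) = c A) (hcusp : _root_.Cfsg.Agent.H53.HC.IsCusp (cfun c))
    {pr : stabW F.iso.subtype (Submodule.span K (Set.range e)) →* F'.iso}
    (hρ1 : ∀ (g : stabW F.iso.subtype (Submodule.span K (Set.range e))) y,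
      ((g : F.iso) : V ≃ₗ[K] V) (j y) - j ((pr g : X ≃ₗ[K] X) y) ∈ Submodule.span K (Set.range e))
    (hρ2 : ∀ g : stabW F.iso.subtype (Submodule.span K (Set.range e)),
      (g : F.iso) ∈ F.TT (Submodule.span K (Set.range e)) → pr g = 1)
    {M : Type x} [AddCommGroup M] [Module ℂ M] [FiniteDimensional ℂ M] (ρ₀ : Representation ℂ F'.iso M)
    (hperp : ∀ W' ∈ F.Om k, Submodule.span K (Set.range e) ≤ F.perp W' → Submodule.span K (Set.range e) ⊓ W' = ⊥ →
      F.Van (cfun c) (psf F (Submodule.span K (Set.range e)) (ρ₀.character ∘ pr)) (Submodule.span K (Set.range e)) W') :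
    HN (stabW F.iso.subtype (Submodule.span K (Set.range e))) (Us F e) w (crep b c pr ρ₀) where
  le := Us_le
  nor := fun p hp u hu => h.Us_nor hp hu
  triv := fun u hu => by
    rw [crep_apply, hρ2 u (h.Us_TT hu), res_Us hu, map_one, map_one, map_one, Units.val_one, one_smul]
  big := fun p => h.crep_big hσ hw1 hw3 b hc hρ1 hρ2 ρ₀ p
  ww := by
    have e1 : w * w = 1 := by
      apply Subtype.ext
      apply LinearEquiv.ext
      intro v
      change ((w * w : F.iso) : V ≃ₗ[K] V) v = v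
      have a1 : ∀ l, F.B (∑ i, F.B v (f i) • e i) (e l) = 0 := fun l => by
        rw [B_sum_left]; exact Finset.sum_eq_zero fun i _ => by rw [h.hee, mul_zero]
      have a2 : ∀ l, F.B (∑ i, F.B v (f i) • e i) (f l) = F.B v (f l) := fun l => by
        rw [B_sum_left]; simp only [h.hef]; rw [sum_delta (fun i => F.B v (f i)) l]
      have a3 : ∀ l, F.B (∑ i, F.B v (e i) • f i) (f l) = 0 := fun l => by
        rw [B_sum_left]; exact Finset.sum_eq_zero fun i _ => by rw [h.hff, mul_zero]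
      have a4 : ∀ l, F.B (∑ i, F.B v (e i) • f i) (e l) = F.B v (e l) := fun l => by
        rw [B_sum_left]; simp only [h.hfe, hε]; rw [sum_delta (fun i => F.B v (e i)) l]
      have e0 : v = (v - ∑ i, F.B v (f i) • e i - ∑ i, F.B v (e i) • f i) +
        (∑ i, F.B v (f i) • e i + ∑ i, F.B v (e i) • f i) := by abel
      have hz : (w : V ≃ₗ[K] V) (v - ∑ i, F.B v (f i) • e i - ∑ i, F.B v (e i) • f i) =
          v - ∑ i, F.B v (f i) • e i - ∑ i, F.B v (e i) • f i :=
        hw3 _ (fun l => by rw [F.B_sub_left, F.B_sub_left, a1, a4]; ring)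
          (fun l => by rw [F.B_sub_left, F.B_sub_left, a2, a3]; ring)
      have he : (w : V ≃ₗ[K] V) (∑ i, F.B v (f i) • e i) = ∑ i, F.B v (f i) • f i := by
        rw [map_sum]; exact Finset.sum_congr rfl fun i _ => by rw [map_smul, hw1]
      have hf : (w : V ≃ₗ[K] V) (∑ i, F.B v (e i) • f i) = ∑ i, F.B v (e i) • e i := by
        rw [map_sum]; exact Finset.sum_congr rfl fun i _ => by rw [map_smul, hw2, hε, one_smul]
      have he' : (w : V ≃ₗ[K] V) (∑ i, F.B v (e i) • e i) = ∑ i, F.B v (e i) • f i := by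
        rw [map_sum]; exact Finset.sum_congr rfl fun i _ => by rw [map_smul, hw1]
      have hf' : (w : V ≃ₗ[K] V) (∑ i, F.B v (f i) • f i) = ∑ i, F.B v (f i) • e i := by
        rw [map_sum]; exact Finset.sum_congr rfl fun i _ => by rw [map_smul, hw2, hε, one_smul]
      rw [mul_apply']
      conv_lhs => rw [e0, map_add, map_add, hz, map_add, map_add, hz, he, hf, hf', he']
      exact e0.symm
    exact ⟨1, by rw [e1]; rfl, map_one _⟩
  opp := fun u hu hwuw => by
    refine h.Us_eq_one hu fun i => ?_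
    have h1 := (mem_par e _).1 hwuw i
    rw [mul_apply', mul_apply', hw1] at h1
    obtain ⟨a, ha⟩ := (Submodule.mem_span_range_iff_exists_fun K).1 h1
    have hwi : ∀ l, ((w⁻¹ : F.iso) : V ≃ₗ[K] V) (e l) = f l := by
      intro l
      have : e l = (w : V ≃ₗ[K] V) (f l) := by rw [hw2, hε, one_smul]
      rw [this, inv_apply']
    have h2 : (u : V ≃ₗ[K] V) (f i) = ∑ l, a l • f l := by
      have h3 := congrArg (((w⁻¹ : F.iso) : V ≃ₗ[K] V)) ha
      rw [inv_apply', map_sum] at h3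
      rw [← h3]
      exact Finset.sum_congr rfl fun l _ => by rw [map_smul, hwi]
    rw [h2]
    exact (Submodule.mem_span_range_iff_exists_fun K).2 ⟨a, rfl⟩
  wP := fun hw => by
    have h1 := (mem_par e _).1 hw ⟨0, hk⟩
    rw [hw1] at h1
    have h2 := h.tse.2 _ (Submodule.subset_span ⟨⟨0, hk⟩, rfl⟩) _ h1
    rw [h.hef, if_pos rfl] at h2
    exact one_ne_zero h2
  tw := fun x hx hx' => by
    have hcl : IsClassFunction (stabW F.iso.subtype (Submodule.span K (Set.range e))) (ρ₀.character ∘ pr) :=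
      Core.isCharacter_isClassFunction (Core.isCharacter_comp pr (Core.isCharacter_of_rep ρ₀))
    refine tw_of_van (Core.isCharacter_of_rep _) (cfun_cl c) hcl (crep_char b c pr ρ₀) ?_
    have hW₀ := h.mem_Om
    have hW' : (Submodule.span K (Set.range e)).map (F.iso.subtype x : V →ₗ[K] V) ∈ F.Om k := F.Om_map x _ hW₀
    have hne : (Submodule.span K (Set.range e)).map (F.iso.subtype x : V →ₗ[K] V) ≠ Submodule.span K (Set.range e) := hx
    have hψT : ∀ W ∈ F.Om k, ∀ g ∈ F.TT W,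
        psf F (Submodule.span K (Set.range e)) (ρ₀.character ∘ pr) g W =
          psf F (Submodule.span K (Set.range e)) (ρ₀.character ∘ pr) 1 W := by
      intro W hWk g hg
      obtain ⟨x, hx⟩ := F.trans_Om hW₀ hWk
      have h1 := TT_conj hx hg
      have h2 : x⁻¹ * 1 * x ∈ stabW F.iso.subtype (Submodule.span K (Set.range e)) := by
        rw [mul_one, inv_mul_cancel]; exact Subgroup.one_mem _
      rw [psf_eq hcl hx h1.1, psf_eq hcl hx h2, Function.comp_apply, hρ2 _ h1, Function.comp_apply]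
      congr 1
      have : (⟨x⁻¹ * 1 * x, h2⟩ : stabW F.iso.subtype (Submodule.span K (Set.range e))) = 1 := by
        apply Subtype.ext
        change x⁻¹ * 1 * x = 1
        group
      rw [this, map_one]
    by_cases h0 : Submodule.span K (Set.range e) ⊓
      F.perp ((Submodule.span K (Set.range e)).map (F.iso.subtype x : V →ₗ[K] V)) = ⊥
    · exact absurd (h.mem_big hw1 h0) hx'
    by_cases h1 : Submodule.span K (Set.range e) ⊓
      F.perp ((Submodule.span K (Set.range e)).map (F.iso.subtype x : V →ₗ[K] V)) = Submodule.span K (Set.range e)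
    · have h1' := inf_eq_left.1 h1
      by_cases h2 : Submodule.span K (Set.range e) ⊓
        (Submodule.span K (Set.range e)).map (F.iso.subtype x : V →ₗ[K] V) = ⊥
      · exact hperp _ hW' h1' h2
      · exact van_case2 (cfun_cl c) hcusp hψT hW₀ hW' h1' h2 hne
    · exact van_case1 (cfun_cl c) hcusp hψT hW₀ hW' h0 h1

end Frame

end CForm

end Cfsg.Agent.H477.HC
end

-- part: H477/HC/N4
section
/-!
# The norm-two induction: the sign of `GL₂(2)`, orders (hub H5, helper477)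

`sgnGL` : the sign of `GL₂(2)`; `Frm.card_par` : the order of the parabolic subgroup; `Frm.exists_two` : the two
constituents.
-/

set_option autoImplicit false

open scoped ComplexConjugate
open Cfsg

namespace Cfsg.Agent.H477.HC

open Cfsg.Agent.OddOrderCharacters.Clifford Cfsg.Agent.Characters MulAction Module Cfsg.Agent.H53.HC
open Cfsg.Agent.H749.Two

universe u v w x

/-! ### the sign of `GL₂(2)` -/

/-- the sign of a matrix -/
def sgM (A : Matrix (Fin 2) (Fin 2) (ZMod 2)) : ℤ := sg (A 0 0) (A 0 1) (A 1 0) (A 1 1)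

theorem sgM_mul (A B : Matrix (Fin 2) (Fin 2) (ZMod 2)) : sgM (A * B) = sgM A * sgM B := by
  unfold sgM
  rw [← sg_mul]
  simp only [Matrix.mul_apply, Fin.sum_univ_two, _root_.Fin.isValue]

theorem sgM_one : sgM 1 = 1 := by
  unfold sgM
  simp
  decide

/-- the sign of `GL₂(2)` -/
noncomputable def sgnGL : GL (Fin 2) (ZMod 2) →* ℂˣ :=
  MonoidHom.toHomUnits
    { toFun := fun A => ((sgM (A : Matrix (Fin 2) (Fin 2) (ZMod 2)) : ℤ) : ℂ)
      map_one' := by rw [Units.val_one, sgM_one, Int.cast_one]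
      map_mul' := fun A B => by rw [Units.val_mul, sgM_mul, Int.cast_mul] }

theorem sgnGL_val (A : GL (Fin 2) (ZMod 2)) :
    ((sgnGL A : ℂˣ) : ℂ) = ((sgM (A : Matrix (Fin 2) (Fin 2) (ZMod 2)) : ℤ) : ℂ) := rfl

theorem sgM_inv (A : GL (Fin 2) (ZMod 2)) :
    sgM (((A⁻¹ : GL (Fin 2) (ZMod 2)) : Matrix (Fin 2) (Fin 2) (ZMod 2)).transpose) =
      sgM (A : Matrix (Fin 2) (Fin 2) (ZMod 2)) := by
  have h : (A : Matrix (Fin 2) (Fin 2) (ZMod 2)) *
      ((A⁻¹ : GL (Fin 2) (ZMod 2)) : Matrix (Fin 2) (Fin 2) (ZMod 2)) = 1 := by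
    rw [← Units.val_mul, mul_inv_cancel, Units.val_one]
  have key : ∀ i l : Fin 2, (A : Matrix (Fin 2) (Fin 2) (ZMod 2)) i 0 *
      ((A⁻¹ : GL (Fin 2) (ZMod 2)) : Matrix (Fin 2) (Fin 2) (ZMod 2)) 0 l +
      (A : Matrix (Fin 2) (Fin 2) (ZMod 2)) i 1 *
      ((A⁻¹ : GL (Fin 2) (ZMod 2)) : Matrix (Fin 2) (Fin 2) (ZMod 2)) 1 l = if i = l then 1 else 0 := by
    intro i l
    have h1 := congrFun (congrFun h i) l
    rw [Matrix.mul_apply, Fin.sum_univ_two, Matrix.one_apply] at h1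
    exact h1
  exact (sg_inv _ _ _ _ _ _ _ _ (key 0 0) (key 0 1) (key 1 0) (key 1 1)).2

theorem sgnGL_iota {V : Type v} [AddCommGroup V] [Module (ZMod 2) V] (F : CForm (ZMod 2) V) (A : GL (Fin 2) (ZMod 2)) :
    sgnGL (F.iota 2 A) = sgnGL A := by
  apply Units.ext
  rw [sgnGL_val, sgnGL_val, ← sgM_inv A]
  congr 2
  have hσ : F.σ = RingHom.id _ := Subsingleton.elim _ _
  ext i l
  change F.σ _ = _
  rw [hσ]
  rfl

theorem sgM_invol {A : Matrix (Fin 2) (Fin 2) (ZMod 2)} (h : A * A = 1) (h1 : A ≠ 1) : sgM A = -1 := by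
  have key : ∀ i l, A i 0 * A 0 l + A i 1 * A 1 l = if i = l then 1 else 0 := by
    intro i l
    have h1 := congrFun (congrFun h i) l
    rw [Matrix.mul_apply, Fin.sum_univ_two, Matrix.one_apply] at h1
    exact h1
  refine sg_invol _ _ _ _ (key 0 0) (key 0 1) (key 1 0) (key 1 1) fun h2 => h1 ?_
  ext i l
  fin_cases i <;> fin_cases l
  · exact h2.1
  · exact h2.2.1
  · exact h2.2.2.1
  · exact h2.2.2.2

theorem sgnGL_cusp : _root_.Cfsg.Agent.H53.HC.IsCusp (CForm.cfun sgnGL) := by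
  intro D hD0 hD1 _
  classical
  obtain ⟨d, hd, hd0⟩ := (Submodule.ne_bot_iff _).1 hD0
  obtain ⟨φ, hφ0, hφ⟩ := Submodule.exists_dual_map_eq_bot_of_lt_top (lt_top_iff_ne_top.2 hD1) inferInstance
  have hφD : ∀ x ∈ D, φ x = 0 := by
    intro x hx
    have : φ x ∈ D.map φ := ⟨x, hx, rfl⟩
    rw [hφ] at this
    exact (Submodule.mem_bot _).1 this
  let b := Pi.basisFun (ZMod 2) (Fin 2)
  let a : (Fin 2 → ZMod 2) →ₗ[ZMod 2] (Fin 2 → ZMod 2) := φ.smulRight d
  have ha1 : ∀ w, a w ∈ D := fun w => D.smul_mem _ hd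
  have ha2 : ∀ w ∈ D, a w = 0 := fun w hw => by
    change φ w • d = 0
    rw [hφD w hw, zero_smul]
  let u₀ : radU D := ⟨oneAdd D a ha1 ha2, fun w => by
      rw [oneAdd_apply, add_sub_cancel_left]
      exact ha1 w, fun w hw => by
      rw [oneAdd_apply, ha2 w hw, add_zero]⟩
  have hcl : ∀ u : (Fin 2 → ZMod 2) ≃ₗ[ZMod 2] (Fin 2 → ZMod 2), cl (CForm.cfun sgnGL) u =
      ((sgnGL (glE b u) : ℂˣ) : ℂ) := fun u => cl_eq (CForm.cfun_cl sgnGL) b u
  have hu₀ : ((sgnGL (glE b (u₀ : (Fin 2 → ZMod 2) ≃ₗ[ZMod 2] (Fin 2 → ZMod 2))) : ℂˣ) : ℂ) = -1 := by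
    rw [sgnGL_val, sgM_invol]
    · simp
    · have h2 : (u₀ : (Fin 2 → ZMod 2) ≃ₗ[ZMod 2] (Fin 2 → ZMod 2)) * u₀ = 1 := by
        apply LinearEquiv.ext
        intro w
        change (u₀ : (Fin 2 → ZMod 2) ≃ₗ[ZMod 2] _) ((u₀ : (Fin 2 → ZMod 2) ≃ₗ[ZMod 2] _) w) = w
        have e1 : ∀ w, (u₀ : (Fin 2 → ZMod 2) ≃ₗ[ZMod 2] _) w = w + φ w • d := fun w => rfl
        rw [e1, e1, map_add, map_smul, hφD d hd, smul_zero, add_zero, add_assoc, ← add_smul]
        have : φ w + φ w = 0 := by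
          have : ∀ t : ZMod 2, t + t = 0 := by decide
          exact this _
        rw [this, zero_smul, add_zero]
      rw [← Units.val_mul, ← map_mul, h2, map_one, Units.val_one]
    · intro h3
      have h4 : glE b (u₀ : (Fin 2 → ZMod 2) ≃ₗ[ZMod 2] (Fin 2 → ZMod 2)) = 1 := Units.ext h3
      have h5 : (u₀ : (Fin 2 → ZMod 2) ≃ₗ[ZMod 2] (Fin 2 → ZMod 2)) = 1 := (glE b).injective (by rw [h4, map_one])
      apply hφ0
      ext w
      have h6 : (u₀ : (Fin 2 → ZMod 2) ≃ₗ[ZMod 2] _) (Pi.single w 1) = Pi.single w 1 + φ (Pi.single w 1) • d := rfl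
      rw [h5] at h6
      have h7 : φ (Pi.single w 1) • d = 0 := (add_eq_left.1 h6.symm)
      rcases smul_eq_zero.1 h7 with h8 | h8
      · simpa only [_root_.LinearMap.coe_comp, _root_.LinearMap.coe_single, _root_.Function.comp_apply, _root_.LinearMap.zero_comp, _root_.LinearMap.zero_apply] using h8
      · exact absurd h8 hd0
  have h1 : ∑ u : radU D, cl (CForm.cfun sgnGL) (u : (Fin 2 → ZMod 2) ≃ₗ[ZMod 2] _) =
      -∑ u : radU D, cl (CForm.cfun sgnGL) (u : (Fin 2 → ZMod 2) ≃ₗ[ZMod 2] _) := by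
    rw [← Finset.sum_neg_distrib, ← Equiv.sum_comp (Equiv.mulLeft u₀)]
    refine Finset.sum_congr rfl fun u _ => ?_
    rw [hcl, hcl, Equiv.coe_mulLeft, Subgroup.coe_mul, map_mul, map_mul, Units.val_mul, hu₀, neg_one_mul]
  have h2 : (2 : ℂ) * ∑ u : radU D, cl (CForm.cfun sgnGL) (u : (Fin 2 → ZMod 2) ≃ₗ[ZMod 2] _) = 0 := by
    rw [two_mul]
    nth_rw 1 [h1]
    exact neg_add_cancel _
  exact (mul_eq_zero.1 h2).resolve_left two_ne_zero

/-! ### orders -/

namespace CForm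

section

variable {K : Type u} [Field K] {V : Type v} [AddCommGroup V] [Module K V] {F : CForm K V}
  {X : Type w} [AddCommGroup X] [Module K X] {F' : CForm K X} {k : ℕ} {e f : Fin k → V} {j : X →ₗ[K] V}

theorem index_stab [FiniteDimensional K V] [Finite V] {W₀ : Submodule K V} (hW₀ : W₀ ∈ F.Om k) :
    (stabW F.iso.subtype W₀).index = Nat.card (F.Om k) := by
  have := finite_iso F
  have h1 := F.card_iso_eq hW₀
  have h2 := (stabW F.iso.subtype W₀).index_mul_card
  rw [h1] at h2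
  exact Nat.eq_of_mul_eq_mul_right Nat.card_pos h2

/-- **the order of the parabolic subgroup** -/
theorem Frm.card_par [FiniteDimensional K V] [FiniteDimensional K X] [Finite V] (h : Frm F F' e f j)
    (hσ : F.σ = F'.σ) : Nat.card (stabW F.iso.subtype (Submodule.span K (Set.range e))) =
      Nat.card (Us F e) * (Nat.card (GL (Fin k) K) * Nat.card F'.iso) := by
  classical
  have := finite_iso F
  have hcmp := h.cmp hσ
  obtain ⟨ρ, hρ1, hρ2, hρ3⟩ := hcmp.exists_rho
  let f₃ : stabW F.iso.subtype (Submodule.span K (Set.range e)) →*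
      ((Submodule.span K (Set.range e)) ≃ₗ[K] (Submodule.span K (Set.range e))) × F'.iso :=
    (resHom F.iso.subtype (Submodule.span K (Set.range e))).prod ρ
  have hf₃ : Function.Surjective f₃ := by
    rintro ⟨a, b⟩
    obtain ⟨g, hg, hg'⟩ := hρ3 a b
    refine ⟨g, Prod.ext ?_ hg⟩
    ext w
    exact hg' w
  have hker : ∀ g : stabW F.iso.subtype (Submodule.span K (Set.range e)), g ∈ f₃.ker ↔ (g : F.iso) ∈ Us F e := by
    intro g
    constructor
    · intro hg
      have h1 : resHom F.iso.subtype (Submodule.span K (Set.range e)) g = 1 :=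
        congrArg Prod.fst (MonoidHom.mem_ker.1 hg)
      have h2 : ρ g = 1 := congrArg Prod.snd (MonoidHom.mem_ker.1 hg)
      have h1' : ∀ w ∈ Submodule.span K (Set.range e), ((g : F.iso) : V ≃ₗ[K] V) w = w := by
        intro w hw
        have := congrArg (fun a : (Submodule.span K (Set.range e)) ≃ₗ[K] (Submodule.span K (Set.range e)) =>
          ((a ⟨w, hw⟩ : Submodule.span K (Set.range e)) : V)) h1
        exact this
      refine ⟨fun i => h1' _ (Submodule.subset_span ⟨i, rfl⟩), fun v hv => ?_⟩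
      have hv' : v ∈ F.perp (Submodule.span K (Set.range e)) := by
        intro w hw
        obtain ⟨c, rfl⟩ := (Submodule.mem_span_range_iff_exists_fun K).1 hw
        rw [B_sum_right]
        exact Finset.sum_eq_zero fun i _ => by rw [hv, mul_zero]
      obtain ⟨w, hw, x, rfl⟩ := hcmp.j2 v hv'
      have h4 := hρ1 g x
      rw [h2] at h4
      rw [map_add, h1' w hw, add_sub_add_left_eq_sub]
      exact h4
    · intro hg
      refine MonoidHom.mem_ker.2 (Prod.ext ?_ ?_)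
      · exact res_Us hg
      · exact hρ2 g (h.Us_TT hg)
  have hc : Nat.card f₃.ker = Nat.card (Us F e) := by
    exact Nat.card_congr
      { toFun := fun g => ⟨((g : stabW F.iso.subtype (Submodule.span K (Set.range e))) : F.iso), (hker g).1 g.2⟩
        invFun := fun u => ⟨⟨u, Us_le u.2⟩, (hker _).2 u.2⟩
        left_inv := fun g => rfl
        right_inv := fun u => rfl }
  have e3 : Nat.card ((Submodule.span K (Set.range e)) ≃ₗ[K] (Submodule.span K (Set.range e))) =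
      Nat.card (GL (Fin k) K) :=
    Nat.card_congr (glE (finBasisOfFinrankEq K _ h.mem_Om.2)).toEquiv
  rw [Subgroup.card_eq_card_quotient_mul_card_subgroup f₃.ker, mul_comm, hc,
    Nat.card_congr (QuotientGroup.quotientKerEquivOfSurjective f₃ hf₃).toEquiv, Nat.card_prod, e3]

omit [Field K] in
theorem isIrr_linear {H : Type*} [Group H] (c : H →* ℂˣ) : IsIrrCharacter H (fun A => ((c A : ℂˣ) : ℂ)) := by
  let ρ : Representation ℂ H ℂ :=
    { toFun := fun A => ((c A : ℂˣ) : ℂ) • (1 : ℂ →ₗ[ℂ] ℂ)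
      map_one' := by rw [map_one, Units.val_one, one_smul]
      map_mul' := fun A B => by rw [map_mul, Units.val_mul, smul_mul_smul_comm, one_mul] }
  have h1 : ρ.character = fun A => ((c A : ℂˣ) : ℂ) := by
    funext A
    change LinearMap.trace ℂ ℂ (((c A : ℂˣ) : ℂ) • (1 : ℂ →ₗ[ℂ] ℂ)) = _
    rw [map_smul]
    simp
  rw [← h1]
  exact Core.isIrrCharacter_of_rep ρ (Core.isIrr_of_finrank_one (by simp) ρ)

theorem isIrr_cfun (c : GL (Fin k) K →* ℂˣ) : IsIrrCharacter _ (cfun c) := isIrr_linear c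

/-- **the two constituents** -/
theorem Frm.exists_two [FiniteDimensional K V] [FiniteDimensional K X] [Finite V] [Finite K] (h : Frm F F' e f j)
    (hσ : F.σ = F'.σ) (hk : 0 < k) (hε : F.ε = 1) {c : GL (Fin k) K →* ℂˣ} (hc : ∀ A, c (F.iota k A) = c A)
    (hcusp : _root_.Cfsg.Agent.H53.HC.IsCusp (cfun c)) (hcq : ∀ A, ∃ q : ℚ, ((c A : ℂˣ) : ℂ) = q)
    {ψ₀ : F'.iso → ℂ} (hψ : IsIrrCharacter _ ψ₀) {n₀ : ℕ} (hψ1 : ψ₀ 1 = n₀) (hψq : ∀ g, ∃ q : ℚ, ψ₀ g = q)
    {p N : ℕ} (hp : p.Prime) (hN : Nat.card (Us F e) = p ^ N)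
    (hperp : ∀ pr : stabW F.iso.subtype (Submodule.span K (Set.range e)) →* F'.iso,
      (∀ (g : stabW F.iso.subtype (Submodule.span K (Set.range e))) y,
        ((g : F.iso) : V ≃ₗ[K] V) (j y) - j ((pr g : X ≃ₗ[K] X) y) ∈ Submodule.span K (Set.range e)) →
      (∀ g : stabW F.iso.subtype (Submodule.span K (Set.range e)),
        (g : F.iso) ∈ F.TT (Submodule.span K (Set.range e)) → pr g = 1) →
      ∀ W' ∈ F.Om k, Submodule.span K (Set.range e) ≤ F.perp W' → Submodule.span K (Set.range e) ⊓ W' = ⊥ →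
      F.Van (cfun c) (psf F (Submodule.span K (Set.range e)) (ψ₀ ∘ pr)) (Submodule.span K (Set.range e)) W') :
    ∃ (b d : ℕ) (χ₁ χ₂ : F.iso → ℂ), IsIrrCharacter F.iso χ₁ ∧ IsIrrCharacter F.iso χ₂ ∧
      χ₁ 1 = ((p ^ b * d : ℕ) : ℂ) ∧ χ₂ 1 = (d : ℂ) ∧ (p ^ b + 1) * d = Nat.card (F.Om k) * n₀ ∧ b ≤ N ∧
      (b ≠ 0 → Even (b + N)) := by
  classical
  have := finite_iso F
  let _ : Fintype F.iso := Fintype.ofFinite _
  let _ : Fintype (stabW F.iso.subtype (Submodule.span K (Set.range e))) := Fintype.ofFinite _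
  let _ : Fintype (Us F e) := Fintype.ofFinite _
  obtain ⟨w, hw1, hw2, hw3⟩ := h.exists_w
  obtain ⟨pr, hρ1, hρ2, hρ3⟩ := (h.cmp hσ).exists_rho
  obtain ⟨m, ρ₀, hρ₀, rfl⟩ := id hψ
  let b : Basis (Fin k) K (Submodule.span K (Set.range e)) := finBasisOfFinrankEq K _ h.mem_Om.2
  have hn := h.hn hσ hk hε hw1 hw2 hw3 b hc hcusp hρ1 hρ2 ρ₀ (hperp pr hρ1 hρ2)
  have hchar := crep_char b c pr ρ₀
  have hsurj : Function.Surjective pr := fun b => by
    obtain ⟨g, hg, -⟩ := hρ3 1 b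
    exact ⟨g, hg⟩
  have hcl : IsClassFunction (stabW F.iso.subtype (Submodule.span K (Set.range e))) (ρ₀.character ∘ pr) :=
    Core.isCharacter_isClassFunction (Core.isCharacter_comp pr (Core.isCharacter_of_rep ρ₀))
  obtain ⟨W₁, hW₁, hopp⟩ := F.exists_opp h.mem_Om
  have hirr : IsIrrCharacter _ (crep b c pr ρ₀).character := by
    have h1 : (crep b c pr ρ₀).character = fun g : stabW F.iso.subtype (Submodule.span K (Set.range e)) =>
        flagTerm F.iso.subtype (cfun c) g (Submodule.span K (Set.range e)) *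
          psf F (Submodule.span K (Set.range e)) (ρ₀.character ∘ pr) g (Submodule.span K (Set.range e)) := by
      funext g
      rw [hchar, psf_self hcl]
    rw [h1]
    refine F.isIrr_stab ?_ (fun W hWk g hg => ?_) h.mem_Om hW₁ hopp ?_
    · exact isIrr_cfun c
    · obtain ⟨x, hx⟩ := F.trans_Om h.mem_Om hWk
      have h1 := TT_conj hx hg
      have h2 : x⁻¹ * 1 * x ∈ stabW F.iso.subtype (Submodule.span K (Set.range e)) := by
        rw [mul_one, inv_mul_cancel]; exact Subgroup.one_mem _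
      rw [psf_eq hcl hx h1.1, psf_eq hcl hx h2, Function.comp_apply, hρ2 _ h1, Function.comp_apply]
      congr 1
      have : (⟨x⁻¹ * 1 * x, h2⟩ : stabW F.iso.subtype (Submodule.span K (Set.range e))) = 1 := by
        apply Subtype.ext
        change x⁻¹ * 1 * x = 1
        group
      rw [this, map_one]
    · have : (fun g : stabW F.iso.subtype (Submodule.span K (Set.range e)) =>
          psf F (Submodule.span K (Set.range e)) (ρ₀.character ∘ pr) g (Submodule.span K (Set.range e))) =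
          ρ₀.character ∘ pr := by
        funext g
        exact psf_self hcl g
      rw [this]
      exact Core.isIrr_comp pr hsurj hψ
  have hq : ∀ g, ∃ q : ℚ, (crep b c pr ρ₀).character g = q := by
    intro g
    obtain ⟨q₁, h1⟩ := hcq (glE b (resHom F.iso.subtype (Submodule.span K (Set.range e)) g))
    obtain ⟨q₂, h2⟩ := hψq (pr g)
    refine ⟨q₁ * q₂, ?_⟩
    rw [hchar, flagTerm_cfun b, h1, Function.comp_apply, h2]
    push_cast
    rfl
  have hD : ((stabW F.iso.subtype (Submodule.span K (Set.range e))).index : ℂ) * (crep b c pr ρ₀).character 1 =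
      ((Nat.card (F.Om k) * n₀ : ℕ) : ℂ) := by
    rw [index_stab h.mem_Om, hchar, flagTerm_cfun b, Function.comp_apply, map_one pr, hψ1, map_one, map_one, map_one,
      Units.val_one, one_mul]
    push_cast
    rfl
  obtain ⟨b', d, χ₁, χ₂, i1, i2, -, c1, c2, h1, h2, h3, -⟩ := hn.two_pow hirr hp hN hq hD
  exact ⟨b', d, χ₁, χ₂, i1, i2, c1, c2, h1, h2, h3⟩

end

end CForm

end Cfsg.Agent.H477.HC
end

-- part: H477/HC/N5
section
/-!
# `Ω⁻₈(2)` : a character of degree `595` or `1785` (hub H5, helper477)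

`exists_psi5` : the character of degree `5` of `O⁻₄(2)`; `o8m_two`.
-/

set_option autoImplicit false

open scoped ComplexConjugate
open Cfsg

namespace Cfsg.Agent.H477.HC

open Cfsg.Agent.OddOrderCharacters.Clifford Cfsg.Agent.Characters MulAction Module Cfsg.Agent.H53.HC
open Cfsg.Agent.H749.Two

universe u v w x

/-- a group acting as the full symmetric group -/
theorem multiTrans {G Ω : Type*} [Group G] [MulAction G Ω] [Finite Ω] (h : Function.Surjective (MulAction.toPermHom G Ω))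
    (n : ℕ) : IsMultiplyPretransitive G Ω n := by
  have h1 : IsMultiplyPretransitive (Equiv.Perm Ω) Ω n := Equiv.Perm.isMultiplyPretransitive Ω n
  refine ⟨fun x y => ?_⟩
  obtain ⟨σ, hσ⟩ := h1.exists_smul_eq x y
  obtain ⟨g, hg⟩ := h σ
  refine ⟨g, ?_⟩
  rw [← hσ, ← hg]
  ext i
  rfl

section psi5

variable (a b : ZMod 2) (hab : ∀ z₁ z₂ : ZMod 2, z₁ ^ 2 + a * z₁ * z₂ + b * z₂ ^ 2 = 0 → z₁ = 0 ∧ z₂ = 0)

theorem fix_all (g : (CForm.minusF (ZMod 2) 1 a b hab).iso)
    (hg : ∀ v, (CForm.minusF (ZMod 2) 1 a b hab).Sing v → (g : ((Fin 1 ⊕ Fin 1) ⊕ Fin 2 → ZMod 2) ≃ₗ[ZMod 2] _) v = v) :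
    g = 1 := by
  have hs : ∀ v, (CForm.minusF (ZMod 2) 1 a b hab).Q v = 0 →
      (g : ((Fin 1 ⊕ Fin 1) ⊕ Fin 2 → ZMod 2) ≃ₗ[ZMod 2] _) v = v := fun v hv =>
    hg v ⟨hv, (CForm.minusF (ZMod 2) 1 a b hab).alt v hv⟩
  have hQ : ∀ v, (CForm.minusF (ZMod 2) 1 a b hab).Q v =
      v (.inl (.inl 0)) * v (.inl (.inr 0)) +
        (v (.inr 0) ^ 2 + a * v (.inr 0) * v (.inr 1) + b * v (.inr 1) ^ 2) := by
    intro v
    change quadFormMinus 1 (ZMod 2) a b v = _
    simp [quadFormMinus]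
  -- the singular vectors `(x, y; z)`
  let vec : ZMod 2 → ZMod 2 → ZMod 2 → ZMod 2 → ((Fin 1 ⊕ Fin 1) ⊕ Fin 2 → ZMod 2) := fun x y z t =>
    Sum.elim (Sum.elim (fun _ => x) (fun _ => y)) ![z, t]
  have hvQ : ∀ x y z t, (CForm.minusF (ZMod 2) 1 a b hab).Q (vec x y z t) = x * y + (z ^ 2 + a * z * t + b * t ^ 2) := by
    intro x y z t
    rw [hQ]
    simp [vec]
  have e10 : (g : ((Fin 1 ⊕ Fin 1) ⊕ Fin 2 → ZMod 2) ≃ₗ[ZMod 2] _) (vec 1 0 0 0) = vec 1 0 0 0 := hs _ (by
    rw [hvQ]; simp)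
  have e01 : (g : ((Fin 1 ⊕ Fin 1) ⊕ Fin 2 → ZMod 2) ≃ₗ[ZMod 2] _) (vec 0 1 0 0) = vec 0 1 0 0 := hs _ (by
    rw [hvQ]; simp)
  have hz : ∀ z t, z ^ 2 + a * z * t + b * t ^ 2 ≠ 0 →
      (g : ((Fin 1 ⊕ Fin 1) ⊕ Fin 2 → ZMod 2) ≃ₗ[ZMod 2] _) (vec 0 0 z t) = vec 0 0 z t := by
    intro z t h
    have h1 : (g : ((Fin 1 ⊕ Fin 1) ⊕ Fin 2 → ZMod 2) ≃ₗ[ZMod 2] _) (vec 1 1 z t) = vec 1 1 z t := hs _ (by
      rw [hvQ]
      have : ∀ s : ZMod 2, s ≠ 0 → 1 * 1 + s = 0 := by decide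
      exact this _ h)
    have h2 : vec 0 0 z t = vec 1 1 z t - vec 1 0 0 0 - vec 0 1 0 0 := by
      ext i
      rcases i with (i | i) | i
      · simp [vec]
      · simp [vec]
      · (revert i; simp only [vec, _root_.Fin.forall_fin_succ, _root_.Sum.elim_inr, _root_.Sum.elim_lam_const_lam_const, _root_.Pi.sub_apply, Fin.isValue, _root_.Matrix.cons_val_zero, _root_.sub_zero, _root_.Matrix.cons_val_succ, _root_.Matrix.cons_val_fin_one, _root_.implies_true, _root_.and_self])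
    rw [h2, map_sub, map_sub, h1, e10, e01]
  have ez0 := hz 1 0 (fun h => absurd (hab 1 0 h).1 (by decide))
  have ez1 := hz 0 1 (fun h => absurd (hab 0 1 h).2 (by decide))
  apply Subtype.ext
  apply LinearEquiv.ext
  intro v
  change (g : ((Fin 1 ⊕ Fin 1) ⊕ Fin 2 → ZMod 2) ≃ₗ[ZMod 2] _) v = v
  have hv : v = v (.inl (.inl 0)) • vec 1 0 0 0 + v (.inl (.inr 0)) • vec 0 1 0 0 + v (.inr 0) • vec 0 0 1 0 +
      v (.inr 1) • vec 0 0 0 1 := by
    ext i
    rcases i with (i | i) | i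
    · have : i = 0 := Subsingleton.elim _ _
      subst this
      simp [vec]
    · have : i = 0 := Subsingleton.elim _ _
      subst this
      simp [vec]
    · fin_cases i <;> simp [vec]
  conv_lhs => rw [hv]
  conv_rhs => rw [hv]
  rw [map_add, map_add, map_add, map_smul, map_smul, map_smul, map_smul, e10, e01, ez0, ez1]

theorem card_pt5 : Nat.card (CForm.minusF (ZMod 2) 1 a b hab).Pt = 5 := by
  have h1 := (CForm.minusF (ZMod 2) 1 a b hab).card_sing
  rw [minus_sing, Nat.card_zmod] at h1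
  omega

theorem card_o4 : Nat.card (CForm.minusF (ZMod 2) 1 a b hab).iso = 120 := by
  rw [card_minusF, Nat.card_zmod]
  rfl

theorem perm_surj : Function.Surjective
    (MulAction.toPermHom (CForm.minusF (ZMod 2) 1 a b hab).iso (CForm.minusF (ZMod 2) 1 a b hab).Pt) := by
  have : Finite (CForm.minusF (ZMod 2) 1 a b hab).Pt :=
    inferInstanceAs (Finite {W : Submodule (ZMod 2) ((Fin 1 ⊕ Fin 1) ⊕ Fin 2 → ZMod 2) //
      W ∈ (CForm.minusF (ZMod 2) 1 a b hab).Om 1})
  have := finite_iso (CForm.minusF (ZMod 2) 1 a b hab)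
  have hinj : Function.Injective
      (MulAction.toPermHom (CForm.minusF (ZMod 2) 1 a b hab).iso (CForm.minusF (ZMod 2) 1 a b hab).Pt) := by
    rw [injective_iff_map_eq_one]
    intro g hg
    refine fix_all a b hab g fun v hv => ?_
    by_cases h0 : v = 0
    · rw [h0, map_zero]
    have h1 : g • (CForm.minusF (ZMod 2) 1 a b hab).pt v h0 hv = (CForm.minusF (ZMod 2) 1 a b hab).pt v h0 hv := by
      have := congrArg (fun σ : Equiv.Perm _ => σ ((CForm.minusF (ZMod 2) 1 a b hab).pt v h0 hv)) hg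
      exact this
    rw [CForm.smul_pt, CForm.pt_eq_iff] at h1
    obtain ⟨c, hc, h2⟩ := h1
    have : ∀ c : ZMod 2, c ≠ 0 → c = 1 := by decide
    rw [this c hc, one_smul] at h2
    exact h2
  refine (Function.Injective.bijective_of_nat_card_le hinj ?_).2
  rw [Nat.card_perm, card_pt5, card_o4]
  decide

/-- the character of degree `5` of `O⁻₄(2)` -/
theorem exists_psi5 : ∃ ψ : (CForm.minusF (ZMod 2) 1 a b hab).iso → ℂ,
    IsIrrCharacter (CForm.minusF (ZMod 2) 1 a b hab).iso ψ ∧ ψ 1 = ((5 : ℕ) : ℂ) ∧ ∀ g, ∃ q : ℚ, ψ g = q := by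
  classical
  have : Finite (CForm.minusF (ZMod 2) 1 a b hab).Pt :=
    inferInstanceAs (Finite {W : Submodule (ZMod 2) ((Fin 1 ⊕ Fin 1) ⊕ Fin 2 → ZMod 2) //
      W ∈ (CForm.minusF (ZMod 2) 1 a b hab).Om 1})
  have := finite_iso (CForm.minusF (ZMod 2) 1 a b hab)
  let _ : Fintype (CForm.minusF (ZMod 2) 1 a b hab).iso := Fintype.ofFinite _
  have h1 := Cfsg.Agent.H621.AltChar.irr_a (CForm.minusF (ZMod 2) 1 a b hab).iso (CForm.minusF (ZMod 2) 1 a b hab).Pt
    (card_pt5 a b hab).ge (multiTrans (perm_surj a b hab) 4)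
  refine ⟨_, h1, ?_, fun g => ⟨(((Cfsg.Agent.H621.AltChar.nf (CForm.minusF (ZMod 2) 1 a b hab).Pt g : ℚ) ^ 2 -
    3 * Cfsg.Agent.H621.AltChar.nf (CForm.minusF (ZMod 2) 1 a b hab).Pt g +
    Cfsg.Agent.H621.AltChar.nu (CForm.minusF (ZMod 2) 1 a b hab).Pt g) / 2), by push_cast; rfl⟩⟩
  rw [Cfsg.Agent.H621.AltChar.nf_one, Cfsg.Agent.H621.AltChar.nu_one, card_pt5]
  norm_num

end psi5

namespace CForm

variable {V : Type v} [AddCommGroup V] [Module (ZMod 2) V] [FiniteDimensional (ZMod 2) V] [Finite V]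
  {F : CForm (ZMod 2) V} {X : Type w} [AddCommGroup X] [Module (ZMod 2) X] {F' : CForm (ZMod 2) X}
  {e f : Fin 2 → V} {j : X →ₗ[ZMod 2] V}

theorem add_self2 : ∀ x : ZMod 2, x + x = 0 := by decide

omit [FiniteDimensional (ZMod 2) V] [Finite V] in
theorem alt_of_hB (hB : ∀ u v, F.B u v = F.Q (u + v) - F.Q u - F.Q v) (v : V) : F.B v v = 0 := by
  have h1 : v + v = 0 := by
    have : (2 : ZMod 2) • v = 0 := by
      rw [show (2 : ZMod 2) = 0 from rfl, zero_smul]
    rwa [two_smul] at this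
  rw [hB, h1, F.Q_zero, zero_sub]
  have : ∀ x : ZMod 2, -x - x = 0 := by decide
  exact this _

theorem eq_of_add2 : ∀ x y : ZMod 2, x + y = 0 ↔ y = x := by decide

/-- the order of the unipotent radical, orthogonal forms -/
theorem Frm.card_Us_orth (h : Frm F F' e f j) (halt : ∀ v, F.B v v = 0) (hT : ∀ x, F.T x = x) :
    Nat.card (Us F e) = Nat.card X ^ 2 * 2 := by
  classical
  obtain ⟨φ, hφ1, hφ2, -⟩ := h.exists_coord halt
  have h1 : Nat.card (Us F e) = Nat.card (Set.range φ) := Nat.card_congr (Equiv.ofInjective φ hφ1)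
  have h2 : Nat.card (Set.range φ) = Nat.card ((X × X) × ZMod 2) := by
    refine Nat.card_congr
      { toFun := fun d => (d.1.1, d.1.2.2.1)
        invFun := fun t => ⟨(t.1, (F'.Q t.1.1, t.2, F'.B t.1.1 t.1.2 + t.2, F'.Q t.1.2)), (hφ2 _).2 ⟨?_, ?_, ?_⟩⟩
        left_inv := ?_
        right_inv := fun t => rfl }
    · change F'.B t.1.1 t.1.2 + t.2 + (F'.B t.1.1 t.1.2 + t.2) = 0
      exact add_self2 _
    · change F'.Q t.1.1 + F.T (F'.Q t.1.1) = 0
      rw [hT]
      exact add_self2 _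
    · change F'.Q t.1.2 + F.T (F'.Q t.1.2) = 0
      rw [hT]
      exact add_self2 _
    · rintro ⟨⟨⟨x, x'⟩, ⟨p, q, r, s⟩⟩, hd⟩
      obtain ⟨k1, k2, k3⟩ := (hφ2 _).1 hd
      change F'.B x x' + q + r = 0 at k1
      change F'.Q x + F.T p = 0 at k2
      change F'.Q x' + F.T s = 0 at k3
      rw [hT] at k2 k3
      apply Subtype.ext
      change ((x, x'), (F'.Q x, q, F'.B x x' + q, F'.Q x')) = ((x, x'), (p, q, r, s))
      rw [(eq_of_add2 _ _).1 k1, (eq_of_add2 _ _).1 k2, (eq_of_add2 _ _).1 k3]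
  rw [h1, h2, Nat.card_prod, Nat.card_prod, Nat.card_zmod, sq]

/-- the order of the unipotent radical, symplectic forms -/
theorem Frm.card_Us_sp (h : Frm F F' e f j) (halt : ∀ v, F.B v v = 0) (hT : ∀ x, F.T x = 0) (hQ : ∀ x, F'.Q x = 0) :
    Nat.card (Us F e) = Nat.card X ^ 2 * 8 := by
  classical
  obtain ⟨φ, hφ1, hφ2, -⟩ := h.exists_coord halt
  have h1 : Nat.card (Us F e) = Nat.card (Set.range φ) := Nat.card_congr (Equiv.ofInjective φ hφ1)
  have h2 : Nat.card (Set.range φ) = Nat.card ((X × X) × (ZMod 2 × ZMod 2 × ZMod 2)) := by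
    refine Nat.card_congr
      { toFun := fun d => (d.1.1, d.1.2.1, d.1.2.2.1, d.1.2.2.2.2)
        invFun := fun t => ⟨(t.1, (t.2.1, t.2.2.1, F'.B t.1.1 t.1.2 + t.2.2.1, t.2.2.2)), (hφ2 _).2 ⟨?_, ?_, ?_⟩⟩
        left_inv := ?_
        right_inv := fun t => rfl }
    · change F'.B t.1.1 t.1.2 + t.2.2.1 + (F'.B t.1.1 t.1.2 + t.2.2.1) = 0
      exact add_self2 _
    · change F'.Q t.1.1 + F.T _ = 0
      rw [hT, hQ, add_zero]
    · change F'.Q t.1.2 + F.T _ = 0
      rw [hT, hQ, add_zero]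
    · rintro ⟨⟨⟨x, x'⟩, ⟨p, q, r, s⟩⟩, hd⟩
      obtain ⟨k1, -, -⟩ := (hφ2 _).1 hd
      change F'.B x x' + q + r = 0 at k1
      apply Subtype.ext
      change ((x, x'), (p, q, F'.B x x' + q, s)) = ((x, x'), (p, q, r, s))
      rw [(eq_of_add2 _ _).1 k1]
  rw [h1, h2, Nat.card_prod, Nat.card_prod, Nat.card_prod, Nat.card_prod, Nat.card_zmod, sq]

end CForm

theorem card_GL22 : Nat.card (GL (Fin 2) (ZMod 2)) = 6 := by
  rw [Matrix.card_GL_field]
  simp only [Fin.prod_univ_two, _root_.ZMod.card, _root_.Nat.reducePow, _root_.Fin.isValue, _root_.Fin.coe_ofNat_eq_mod, _root_.Nat.zero_mod, _root_.pow_zero, _root_.Nat.add_one_sub_one, _root_.Nat.mod_succ, _root_.pow_one, _root_.Nat.reduceSub, _root_.Nat.reduceMul]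

section main

variable (a b : ZMod 2) (hab : ∀ z₁ z₂ : ZMod 2, z₁ ^ 2 + a * z₁ * z₂ + b * z₂ ^ 2 = 0 → z₁ = 0 ∧ z₂ = 0)

/-- `O⁻₈(2)` -/
theorem ch_o8m : ∃ (c d : ℕ) (χ₁ χ₂ : (CForm.minusF (ZMod 2) 3 a b hab).iso → ℂ),
    IsIrrCharacter (CForm.minusF (ZMod 2) 3 a b hab).iso χ₁ ∧ IsIrrCharacter (CForm.minusF (ZMod 2) 3 a b hab).iso χ₂ ∧
      χ₁ 1 = ((2 ^ c * d : ℕ) : ℂ) ∧ χ₂ 1 = (d : ℂ) ∧ (2 ^ c + 1) * d = 5355 ∧ c ≤ 9 ∧ (c ≠ 0 → Even (c + 9)) := by
  obtain ⟨e, f, j, h⟩ := CForm.frm_minus (K := ZMod 2) hab (k := 2) (n := 1) (m := 3) rfl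
  obtain ⟨ψ, hψ, hψ1, hψq⟩ := exists_psi5 a b hab
  have halt := CForm.alt_of_hB (F := CForm.minusF (ZMod 2) 3 a b hab) (minus_hB (ZMod 2) 3 a b hab)
  have hU : Nat.card (CForm.Us (CForm.minusF (ZMod 2) 3 a b hab) e) = 2 ^ 9 := by
    rw [h.card_Us_orth halt (fun x => rfl)]
    rw [Nat.card_eq_fintype_card]
    simp
  have hno : ∀ W' ∈ (CForm.minusF (ZMod 2) 3 a b hab).Om 2, Submodule.span (ZMod 2) (Set.range e) ≤
      (CForm.minusF (ZMod 2) 3 a b hab).perp W' → Submodule.span (ZMod 2) (Set.range e) ⊓ W' = ⊥ → False :=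
    no_disj (m := 3) (fun W hW => minus_witt (ZMod 2) a b hab 3 W hW) (by norm_num) h.mem_Om
  obtain ⟨c, d, χ₁, χ₂, h1, h2, h3, h4, h5, h6, h7⟩ := h.exists_two rfl (by norm_num) CForm.ε_two
    (sgnGL_iota _) sgnGL_cusp (fun A => ⟨((sgM (A : Matrix (Fin 2) (Fin 2) (ZMod 2)) : ℤ) : ℚ), by
      rw [sgnGL_val]; push_cast; rfl⟩) hψ hψ1 hψq Nat.prime_two hU
    (fun pr _ _ W' hW' k1 k2 => (hno W' hW' k1 k2).elim)
  refine ⟨c, d, χ₁, χ₂, h1, h2, h3, h4, ?_, h6, h7⟩
  rw [h5]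
  have h8 := (CForm.minusF (ZMod 2) 3 a b hab).card_iso_eq h.mem_Om
  rw [h.card_par rfl, hU, card_GL22, card_o4, card_minusF, Nat.card_zmod] at h8
  obtain ⟨n, hn⟩ : ∃ n, n = Nat.card ((CForm.minusF (ZMod 2) 3 a b hab).Om 2) := ⟨_, rfl⟩
  rw [← hn] at h8 ⊢
  norm_num [Finset.prod_range_succ] at h8
  omega

theorem arith_o8m {c d : ℕ} (h1 : (2 ^ c + 1) * d = 5355) (h2 : c ≤ 9) (h3 : c ≠ 0 → Even (c + 9)) :
    595 ∣ d ∧ d ∣ 1785 := by
  interval_cases c
  · omega
  · have : d = 1785 := by omega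
    subst this
    exact ⟨by norm_num, dvd_rfl⟩
  · exact absurd (h3 (by norm_num)) (by decide)
  · have : d = 595 := by omega
    subst this
    exact ⟨dvd_rfl, by norm_num⟩
  · exact absurd (h3 (by norm_num)) (by decide)
  · omega
  · exact absurd (h3 (by norm_num)) (by decide)
  · omega
  · exact absurd (h3 (by norm_num)) (by decide)
  · omega

include hab in
/-- **`Ω⁻₈(2)` has an irreducible character of degree `595` or `1785`** -/
theorem o8m_zmod : ∃ d, 595 ∣ d ∧ d ∣ 1785 ∧ Ch (POmega (ZMod 2) (quadFormMinus 3 (ZMod 2) a b)) d := by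
  obtain ⟨c, d, χ₁, χ₂, h1, h2, h3, h4, h5, h6, h7⟩ := ch_o8m a b hab
  obtain ⟨h8, h9⟩ := arith_o8m h5 h6 h7
  have : Fact (Nat.Prime 2) := ⟨Nat.prime_two⟩
  have : CharP (ZMod 2) 2 := ZMod.charP 2
  have hidx : (Omega (ZMod 2) (quadFormMinus 3 (ZMod 2) a b)).index ∣ 2 ^ 1 := by
    have h10 := minus_idx_mul (ZMod 2) a b hab (l := 3) le_rfl
    rw [Nat.card_zmod] at h10
    have h11 : Nat.gcd 4 (2 ^ (3 + 1) + 1) = 1 := by decide
    rw [h11] at h10
    exact Dvd.intro _ h10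
  obtain ⟨e, i, k1, k2, k3, k4⟩ := minus_down3 (ZMod 2) (p := 2) a b hab hidx h2 h4
  have hi : i = 0 := by
    rcases Nat.eq_zero_or_pos i with hi | hi
    · exact hi
    · have hi1 : i = 1 := by omega
      subst hi1
      have h12 : Odd d := Odd.of_dvd_nat (by decide) h9
      rw [k2] at h12
      exact absurd h12 (Nat.not_odd_iff_even.2 ⟨e, by ring⟩)
  rw [hi, pow_zero, mul_one] at k2
  exact ⟨d, h8, h9, k2 ▸ k1⟩

end main

theorem quadFormMinus_map {F : Type u} {F' : Type v} [Field F] [Field F'] (σ : F ≃+* F') (m : ℕ) (a b : F)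
    (v : (Fin m ⊕ Fin m) ⊕ Fin 2 → F) :
    quadFormMinus m F' (σ a) (σ b) (σ ∘ v) = σ (quadFormMinus m F a b v) := by
  simp [quadFormMinus, map_add, map_sum, map_mul, map_pow]

/-- **`Ω⁻₈(2)` has an irreducible character of degree `595` or `1785`** -/
theorem o8m_two {K : Type u} [Field K] [Finite K] (hK : Nat.card K = 2) {a b : K}
    (hab : ∀ z₁ z₂ : K, z₁ ^ 2 + a * z₁ * z₂ + b * z₂ ^ 2 = 0 → z₁ = 0 ∧ z₂ = 0) :
    ∃ d, 595 ∣ d ∧ d ∣ 1785 ∧ Ch (POmega K (quadFormMinus 3 K a b)) d := by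
  classical
  let _ := Fintype.ofFinite K
  have hF : Fintype.card K = 2 := by rw [← Nat.card_eq_fintype_card, hK]
  let σ : K ≃+* ZMod 2 := FiniteField.ringEquivOfCardEq (by rw [hF, ZMod.card 2])
  have hab' : ∀ z₁ z₂ : ZMod 2, z₁ ^ 2 + σ a * z₁ * z₂ + σ b * z₂ ^ 2 = 0 → z₁ = 0 ∧ z₂ = 0 := by
    intro z₁ z₂ h
    have h1 := hab (σ.symm z₁) (σ.symm z₂) (σ.injective (by
      rw [map_zero, map_add, map_add, map_mul, map_mul, map_mul, map_pow, map_pow, RingEquiv.apply_symm_apply,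
        RingEquiv.apply_symm_apply]
      exact h))
    exact ⟨(map_eq_zero_iff σ.symm σ.symm.injective).1 h1.1, (map_eq_zero_iff σ.symm σ.symm.injective).1 h1.2⟩
  obtain ⟨d, h1, h2, χ, hχ, hχ1⟩ := o8m_zmod (σ a) (σ b) hab'
  obtain ⟨E⟩ := Cfsg.Agent.UGT.U2.Rec.Congr.nonempty_POmega σ (Q := quadFormMinus 3 K a b)
    (Q' := quadFormMinus 3 (ZMod 2) (σ a) (σ b)) (quadFormMinus_map σ 3 a b)
  refine ⟨d, h1, h2, χ ∘ E.toMonoidHom, Core.isIrr_comp E.toMonoidHom E.surjective hχ, ?_⟩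
  change χ (E 1) = _
  rw [map_one, hχ1]

end Cfsg.Agent.H477.HC
end
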